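import Cfsg.Agent.H357.EP.Signs_m3
import Cfsg.Agent.H59.EP.UBGen
import Cfsg.Agent.H957.EP.RowSixUB_m3
import Cfsg.Agent.H149.Sp.Quot
import Cfsg.Agent.H123.SporSimple
import Cfsg.Agent.H603.SporElim
import Cfsg.Agent.H972.CS.LinkOf_m3
import Cfsg.Agent.H765.KE.Ord
import Cfsg.Agent.H720.RowsNeg_m3
import Cfsg.Agent.H758.EPX.TK_m3
import Cfsg.Agent.H528.EP.UB3_m3
import Cfsg.Agent.H417.EP.ASix
import Cfsg.Agent.S1062
import Cfsg.Agent.S1067
import Cfsg.Agent.H994.KE.Base_m3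
import Cfsg.Agent.H931.KC.Alcove
import Cfsg.Agent.SmallSimple.BurnsideNC
import Cfsg.Agent.H188.Der.Ro
import Cfsg.Agent.FastGrp
import Cfsg.Agent.Prune
set_option linter.all false

section
prune_inst 0x7ffcfef82fb8bddfffff7e7ffed5dfff99b0dfffe6dff943bfe8a1ef1b9f030009e5fbad0de000fe0ec2e01c10b87853fb7eefffe86bdc7ffffd5ff41ffbee0ff5f6350851d58c240fbc0fff83f0778e7f3fffffffffffffffffffffffffffbeffbfffffffff

-- part: H805/EPX/Base
section
set_option linter.all false
open scoped Cfsg.Agent.FastGrp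

/-!
# S5745, sporadic socles: `|G| ≤ bnd` and `|T| ∣ |G|` (helper805)
-/

set_option autoImplicit false

namespace Cfsg.Agent.H805.EPX

open Subgroup Cfsg Cfsg.Agent.H284 Cfsg.Agent.H209.EPX Cfsg.Agent.H59.EP Cfsg.Agent.H419.EP Cfsg.Agent.H226.EX

/-- the bound -/
def bnd (l : List (ℕ × ℕ)) (N : ℕ) : ℕ :=
  N * (1 + ((l.map fun x => gal x.1 x.2).sum * (N / 6) + N ^ 2 / 60 + N ^ 3 / 12744000) * (2 * (N / 6)))

variable {G : Type} [Group G] [Finite G] [IsSimpleGroup G] {H N : Subgroup G} {T : Type} [Group T]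
  {e : N ≃* (Fin 1 → T)}

/-- the upper bound for `|G|` -/
theorem card_le (hg : TwoGen.{0}) (h : EPS H N e) (l : List (ℕ × ℕ)) (h1 : ∀ x ∈ l, x.1.Prime ∧ 0 < x.2)
    (h2 : (l.map Prod.fst).Nodup) {M : ℕ} (hN : (l.map fun x => x.1 ^ x.2).prod = M) (hc : Nat.card H ∣ M)
    (hB : M < 60 ^ 61) : Nat.card G ≤ bnd l M := by
  have hN0 : 0 < M := by
    rw [← hN]
    apply Nat.pos_of_ne_zero
    apply List.prod_ne_zero
    intro h0
    obtain ⟨x, hx, e⟩ := List.mem_map.1 h0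
    exact (pow_ne_zero _ (h1 x hx).1.ne_zero) e
  have h3 := EPT.ncard_le_gen_dvd (ept_of_eps h) hg (hab_of_eps h) l h1 h2 (hN ▸ hc) (hN ▸ hB)
  have h4 := index_le_of h3 (Cfsg.Agent.H173.EP.ub1 inferInstance (ept_of_eps h) (by norm_num)
    fun _ hx => EPT.six_le (ept_of_eps h) (hab_of_eps h) hx) le_rfl
  rw [hN] at h4
  have h5 : Nat.card H ≤ M := Nat.le_of_dvd hN0 hc
  rw [← Subgroup.card_mul_index H, bnd]
  refine Nat.mul_le_mul h5 (h4.trans (Nat.add_le_add_left (Nat.mul_le_mul_left _ (Nat.mul_le_mul_left _ ?_)) 1))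
  exact Nat.div_le_div_right h5

omit [IsSimpleGroup G] in
theorem finite_T (_ : EPS H N e) : Finite T := by
  have h1 : Finite (Fin 1 → T) := Finite.of_equiv N e.toEquiv
  exact Finite.of_injective (fun t : T => (fun _ => t : Fin 1 → T)) fun a b hab => congrFun hab 0

omit [IsSimpleGroup G] in
theorem dvd_G (h : EPS H N e) : Nat.card T ∣ Nat.card G :=
  (dvd_card h).trans (Subgroup.card_subgroup_dvd_card H)

omit [IsSimpleGroup G] in
/-- `|H| = |T|` or `2 |T|` -/
theorem card_H (h : EPS H N e) (hT : IsSporadicGroup T) (h4 : Nat.card T % 4 = 0) :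
    Nat.card H = Nat.card T ∨ Nat.card H = 2 * Nat.card T := by
  haveI := finite_T h
  refine EPT.cardA (hasSoc_of_eps h) h.simple ?_ (H498.SporOut.index_le_two hT)
  intro hp
  have h1 : 2 ∣ Nat.card T := Nat.dvd_of_mod_eq_zero (by omega)
  rw [Nat.prime_dvd_prime_iff_eq Nat.prime_two hp] at h1
  omega

/-- **the bound for a sporadic `T`** -/
theorem spor_le (hg : TwoGen.{0}) (h : EPS H N e) (hT : IsSporadicGroup T) {n : ℕ} (hn : Nat.card T = n) (a : ℕ)
    (l : List (ℕ × ℕ)) (h4 : n % 4 = 0) (h1 : ∀ x ∈ l, x.1.Prime ∧ 0 < x.2) (h2 : (2 :: l.map Prod.fst).Nodup)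
    (hM : 2 ^ a * (l.map fun x => x.1 ^ x.2).prod = n) (hB : 2 * n < 60 ^ 61) {B : ℕ}
    (hb : bnd ((2, a + 1) :: l) (2 * n) ≤ B) : Nat.card G ≤ B ∧ n ∣ Nat.card G := by
  have hH : Nat.card H ∣ 2 * n := by
    rcases card_H h hT (by rw [hn]; exact h4) with h3 | h3
    · rw [h3, hn]; exact Dvd.intro_left _ rfl
    · rw [h3, hn]
  refine ⟨(card_le hg h ((2, a + 1) :: l) ?_ ?_ ?_ hH hB).trans hb, hn ▸ dvd_G h⟩
  · intro x hx
    rcases List.mem_cons.1 hx with rfl | hx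
    · exact ⟨Nat.prime_two, by omega⟩
    · exact h1 x hx
  · rw [List.map_cons]
    exact h2
  · rw [List.map_cons, List.prod_cons, ← hM, pow_succ]
    ring

end Cfsg.Agent.H805.EPX

private theorem dce_f78a9b4038ff : _root_.True := by
  try have : _root_.True := by simp only [_root_.Cfsg.Agent.H805.EPX.bnd.eq_1]
  exact _root_.True.intro
end

-- part: H805/EPX/Data
section
prune_inst 0x30107d04742200000800001222000664f2000192002bc40175e10e460f8fff6180002f20ffb01f11d1ee3aa4787ac04811000179421000002a00be00411f00a09cab72c2a33dad04370007c0f887180c00000000000000000000000000041004000000000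
set_option linter.all false

/-!
# S5745, sporadic socles: the 26 bounds (helper805)
-/

set_option autoImplicit false

namespace Cfsg.Agent.H805.EPX

open Subgroup Cfsg Cfsg.Agent.H284 Cfsg.Agent.H209.EPX Cfsg.Agent.H59.EP Cfsg.Agent.H419.EP Cfsg.Agent.H226.EX

variable {G : Type} [Group G] [Finite G] [IsSimpleGroup G] {H N : Subgroup G} {T : Type} [Group T]
  {e : N ≃* (Fin 1 → T)}

theorem le_m11 (hg : TwoGen.{0}) (h : EPS H N e) (hT : Spor.IsoM11 T) :
    Nat.card G ≤ 2 ^ 49 ∧ 7920 ∣ Nat.card G := by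
  have hs : IsSporadicGroup T := by unfold IsSporadicGroup; tauto
  exact spor_le hg h hs (NotCT.Orders.m11 hT) 4 [(3, 2), (5, 1), (11, 1)] (by norm_num)
    (by
      intro x hx
      simp only [List.mem_cons, List.not_mem_nil, or_false] at hx
      rcases hx with rfl | rfl | rfl <;> norm_num)
    (by decide) (by norm_num) (by norm_num) (by decide +kernel)

theorem le_m12 (hg : TwoGen.{0}) (h : EPS H N e) (hT : Spor.IsoM12 T) :
    Nat.card G ≤ 2 ^ 65 ∧ 95040 ∣ Nat.card G := by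
  have hs : IsSporadicGroup T := by unfold IsSporadicGroup; simp only [hT, true_or, or_true]
  exact spor_le hg h hs (NotCT.Orders.m12 hT) 6 [(3, 3), (5, 1), (11, 1)] (by norm_num)
    (by
      intro x hx
      simp only [List.mem_cons, List.not_mem_nil, or_false] at hx
      rcases hx with rfl | rfl | rfl <;> norm_num)
    (by decide) (by norm_num) (by norm_num) (by decide +kernel)

theorem le_j1 (hg : TwoGen.{0}) (h : EPS H N e) (hT : Spor.IsoJ1 T) :
    Nat.card G ≤ 2 ^ 68 ∧ 175560 ∣ Nat.card G := by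
  have hs : IsSporadicGroup T := by unfold IsSporadicGroup; (solve | repeat (first | with_reducible assumption | exact Or.inl (by with_reducible assumption) | refine Or.inr ?_) | simp only [hT, true_or, or_true])
  exact spor_le hg h hs (NotCT.Orders.j1 hT) 3 [(3, 1), (5, 1), (7, 1), (11, 1), (19, 1)] (by norm_num)
    (by
      intro x hx
      simp only [List.mem_cons, List.not_mem_nil, or_false] at hx
      rcases hx with rfl | rfl | rfl | rfl | rfl <;> norm_num)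
    (by decide) (by norm_num) (by norm_num) (by decide +kernel)

theorem le_m22 (hg : TwoGen.{0}) (h : EPS H N e) (hT : Spor.IsoM22 T) :
    Nat.card G ≤ 2 ^ 75 ∧ 443520 ∣ Nat.card G := by
  have hs : IsSporadicGroup T := by unfold IsSporadicGroup; simp only [hT, true_or, or_true]
  exact spor_le hg h hs (NotCT.Orders.m22 hT) 7 [(3, 2), (5, 1), (7, 1), (11, 1)] (by norm_num)
    (by
      intro x hx
      simp only [List.mem_cons, List.not_mem_nil, or_false] at hx
      rcases hx with rfl | rfl | rfl | rfl <;> norm_num)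
    (by decide) (by norm_num) (by norm_num) (by decide +kernel)

theorem le_j2 (hg : TwoGen.{0}) (h : EPS H N e) (hT : Spor.IsoJ2 T) :
    Nat.card G ≤ 2 ^ 77 ∧ 604800 ∣ Nat.card G := by
  have hs : IsSporadicGroup T := by unfold IsSporadicGroup; (solve | repeat (first | with_reducible assumption | exact Or.inl (by with_reducible assumption) | refine Or.inr ?_) | simp only [hT, true_or, or_true])
  exact spor_le hg h hs (NotCT.Orders.j2 hT) 7 [(3, 3), (5, 2), (7, 1)] (by norm_num)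
    (by
      intro x hx
      simp only [List.mem_cons, List.not_mem_nil, or_false] at hx
      rcases hx with rfl | rfl | rfl <;> norm_num)
    (by decide) (by norm_num) (by norm_num) (by decide +kernel)

theorem le_m23 (hg : TwoGen.{0}) (h : EPS H N e) (hT : Spor.IsoM23 T) :
    Nat.card G ≤ 2 ^ 97 ∧ 10200960 ∣ Nat.card G := by
  have hs : IsSporadicGroup T := by unfold IsSporadicGroup; simp only [hT, true_or, or_true]
  exact spor_le hg h hs (NotCT.Orders.m23 hT) 7 [(3, 2), (5, 1), (7, 1), (11, 1), (23, 1)] (by norm_num)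
    (by
      intro x hx
      simp only [List.mem_cons, List.not_mem_nil, or_false] at hx
      rcases hx with rfl | rfl | rfl | rfl | rfl <;> norm_num)
    (by decide) (by norm_num) (by norm_num) (by decide +kernel)

theorem le_hs (hg : TwoGen.{0}) (h : EPS H N e) (hT : Spor.IsoHS T) :
    Nat.card G ≤ 2 ^ 107 ∧ 44352000 ∣ Nat.card G := by
  have hs : IsSporadicGroup T := by unfold IsSporadicGroup; (solve | repeat (first | with_reducible assumption | exact Or.inl (by with_reducible assumption) | refine Or.inr ?_) | simp only [hT, true_or, or_true])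
  exact spor_le hg h hs (NotCT.Orders.hs hT) 9 [(3, 2), (5, 3), (7, 1), (11, 1)] (by norm_num)
    (by
      intro x hx
      simp only [List.mem_cons, List.not_mem_nil, or_false] at hx
      rcases hx with rfl | rfl | rfl | rfl <;> norm_num)
    (by decide) (by norm_num) (by norm_num) (by decide +kernel)

theorem le_j3 (hg : TwoGen.{0}) (h : EPS H N e) (hT : Spor.IsoJ3 T) :
    Nat.card G ≤ 2 ^ 108 ∧ 50232960 ∣ Nat.card G := by
  have hs : IsSporadicGroup T := by unfold IsSporadicGroup; (solve | repeat (first | with_reducible assumption | exact Or.inl (by with_reducible assumption) | refine Or.inr ?_) | simp only [hT, true_or, or_true])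
  exact spor_le hg h hs (NotCT.Orders.j3 hT) 7 [(3, 5), (5, 1), (17, 1), (19, 1)] (by norm_num)
    (by
      intro x hx
      simp only [List.mem_cons, List.not_mem_nil, or_false] at hx
      rcases hx with rfl | rfl | rfl | rfl <;> norm_num)
    (by decide) (by norm_num) (by norm_num) (by decide +kernel)

theorem le_m24 (hg : TwoGen.{0}) (h : EPS H N e) (hT : Spor.IsoM24 T) :
    Nat.card G ≤ 2 ^ 120 ∧ 244823040 ∣ Nat.card G := by
  have hs : IsSporadicGroup T := by unfold IsSporadicGroup; simp only [hT, true_or, or_true]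
  exact spor_le hg h hs (NotCT.Orders.m24 hT) 10 [(3, 3), (5, 1), (7, 1), (11, 1), (23, 1)] (by norm_num)
    (by
      intro x hx
      simp only [List.mem_cons, List.not_mem_nil, or_false] at hx
      rcases hx with rfl | rfl | rfl | rfl | rfl <;> norm_num)
    (by decide) (by norm_num) (by norm_num) (by decide +kernel)

theorem le_mcl (hg : TwoGen.{0}) (h : EPS H N e) (hT : Spor.IsoMcL T) :
    Nat.card G ≤ 2 ^ 129 ∧ 898128000 ∣ Nat.card G := by
  have hs : IsSporadicGroup T := by unfold IsSporadicGroup; (solve | repeat (first | with_reducible assumption | exact Or.inl (by with_reducible assumption) | refine Or.inr ?_) | simp only [hT, true_or, or_true])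
  exact spor_le hg h hs (NotCT.Orders.mcl hT) 7 [(3, 6), (5, 3), (7, 1), (11, 1)] (by norm_num)
    (by
      intro x hx
      simp only [List.mem_cons, List.not_mem_nil, or_false] at hx
      rcases hx with rfl | rfl | rfl | rfl <;> norm_num)
    (by decide) (by norm_num) (by norm_num) (by decide +kernel)

theorem le_he (hg : TwoGen.{0}) (h : EPS H N e) (hT : Spor.IsoHe T) :
    Nat.card G ≤ 2 ^ 140 ∧ 4030387200 ∣ Nat.card G := by
  have hs : IsSporadicGroup T := by unfold IsSporadicGroup; (solve | repeat (first | with_reducible assumption | exact Or.inl (by with_reducible assumption) | refine Or.inr ?_) | simp only [hT, true_or, or_true])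
  exact spor_le hg h hs (NotCT.Orders.he hT) 10 [(3, 3), (5, 2), (7, 3), (17, 1)] (by norm_num)
    (by
      intro x hx
      simp only [List.mem_cons, List.not_mem_nil, or_false] at hx
      rcases hx with rfl | rfl | rfl | rfl <;> norm_num)
    (by decide) (by norm_num) (by norm_num) (by decide +kernel)

theorem le_ru (hg : TwoGen.{0}) (h : EPS H N e) (hT : Spor.IsoRu T) :
    Nat.card G ≤ 2 ^ 170 ∧ 145926144000 ∣ Nat.card G := by
  have hs : IsSporadicGroup T := by unfold IsSporadicGroup; (solve | repeat (first | with_reducible assumption | exact Or.inl (by with_reducible assumption) | refine Or.inr ?_) | simp only [hT, true_or, or_true])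
  exact spor_le hg h hs (NotCT.Orders.ru hT) 14 [(3, 3), (5, 3), (7, 1), (13, 1), (29, 1)] (by norm_num)
    (by
      intro x hx
      simp only [List.mem_cons, List.not_mem_nil, or_false] at hx
      rcases hx with rfl | rfl | rfl | rfl | rfl <;> norm_num)
    (by decide) (by norm_num) (by norm_num) (by decide +kernel)

theorem le_suz (hg : TwoGen.{0}) (h : EPS H N e) (hT : Spor.IsoSuz T) :
    Nat.card G ≤ 2 ^ 174 ∧ 448345497600 ∣ Nat.card G := by
  have hs : IsSporadicGroup T := by unfold IsSporadicGroup; (solve | repeat (first | with_reducible assumption | exact Or.inl (by with_reducible assumption) | refine Or.inr ?_) | simp only [hT, true_or, or_true])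
  exact spor_le hg h hs (NotCT.Orders.suz hT) 13 [(3, 7), (5, 2), (7, 1), (11, 1), (13, 1)] (by norm_num)
    (by
      intro x hx
      simp only [List.mem_cons, List.not_mem_nil, or_false] at hx
      rcases hx with rfl | rfl | rfl | rfl | rfl <;> norm_num)
    (by decide) (by norm_num) (by norm_num) (by decide +kernel)

theorem le_on (hg : TwoGen.{0}) (h : EPS H N e) (hT : Spor.IsoON T) :
    Nat.card G ≤ 2 ^ 174 ∧ 460815505920 ∣ Nat.card G := by
  have hs : IsSporadicGroup T := by unfold IsSporadicGroup; (solve | repeat (first | with_reducible assumption | exact Or.inl (by with_reducible assumption) | refine Or.inr ?_) | simp only [hT, true_or, or_true])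
  exact spor_le hg h hs (NotCT.Orders.on hT) 9 [(3, 4), (5, 1), (7, 3), (11, 1), (19, 1), (31, 1)] (by norm_num)
    (by
      intro x hx
      simp only [List.mem_cons, List.not_mem_nil, or_false] at hx
      rcases hx with rfl | rfl | rfl | rfl | rfl | rfl <;> norm_num)
    (by decide) (by norm_num) (by norm_num) (by decide +kernel)

theorem le_co3 (hg : TwoGen.{0}) (h : EPS H N e) (hT : Spor.IsoCo3 T) :
    Nat.card G ≤ 2 ^ 175 ∧ 495766656000 ∣ Nat.card G := by
  have hs : IsSporadicGroup T := by unfold IsSporadicGroup; (solve | repeat (first | with_reducible assumption | exact Or.inl (by with_reducible assumption) | refine Or.inr ?_) | simp only [hT, true_or, or_true])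
  exact spor_le hg h hs (NotCT.Orders.co3 hT) 10 [(3, 7), (5, 3), (7, 1), (11, 1), (23, 1)] (by norm_num)
    (by
      intro x hx
      simp only [List.mem_cons, List.not_mem_nil, or_false] at hx
      rcases hx with rfl | rfl | rfl | rfl | rfl <;> norm_num)
    (by decide) (by norm_num) (by norm_num) (by decide +kernel)

theorem le_co2 (hg : TwoGen.{0}) (h : EPS H N e) (hT : Spor.IsoCo2 T) :
    Nat.card G ≤ 2 ^ 228 ∧ 42305421312000 ∣ Nat.card G := by
  have hs : IsSporadicGroup T := by unfold IsSporadicGroup; (solve | repeat (first | with_reducible assumption | exact Or.inl (by with_reducible assumption) | refine Or.inr ?_) | simp only [hT, true_or, or_true])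
  exact spor_le hg h hs (NotCT.Orders.co2 hT) 18 [(3, 6), (5, 3), (7, 1), (11, 1), (23, 1)] (by norm_num)
    (by
      intro x hx
      simp only [List.mem_cons, List.not_mem_nil, or_false] at hx
      rcases hx with rfl | rfl | rfl | rfl | rfl <;> norm_num)
    (by decide) (by norm_num) (by norm_num) (by decide +kernel)

theorem le_fi22 (hg : TwoGen.{0}) (h : EPS H N e) (hT : Spor.IsoFi22 T) :
    Nat.card G ≤ 2 ^ 221 ∧ 64561751654400 ∣ Nat.card G := by
  have hs : IsSporadicGroup T := by unfold IsSporadicGroup; (solve | simp only [*, true_or, or_true, and_self, true_and, and_true, not_false_eq_true] | simp only [hT, true_or, or_true])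
  exact spor_le hg h hs (NotCT.Orders.fi22 hT) 17 [(3, 9), (5, 2), (7, 1), (11, 1), (13, 1)] (by norm_num)
    (by
      intro x hx
      simp only [List.mem_cons, List.not_mem_nil, or_false] at hx
      rcases hx with rfl | rfl | rfl | rfl | rfl <;> norm_num)
    (by decide) (by norm_num) (by norm_num) (by decide +kernel)

theorem le_hn (hg : TwoGen.{0}) (h : EPS H N e) (hT : Spor.IsoHN T) :
    Nat.card G ≤ 2 ^ 220 ∧ 273030912000000 ∣ Nat.card G := by
  have hs : IsSporadicGroup T := by unfold IsSporadicGroup; (solve | repeat (first | with_reducible assumption | exact Or.inl (by with_reducible assumption) | refine Or.inr ?_) | simp only [hT, true_or, or_true])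
  exact spor_le hg h hs (NotCT.Orders.hn hT) 14 [(3, 6), (5, 6), (7, 1), (11, 1), (19, 1)] (by norm_num)
    (by
      intro x hx
      simp only [List.mem_cons, List.not_mem_nil, or_false] at hx
      rcases hx with rfl | rfl | rfl | rfl | rfl <;> norm_num)
    (by decide) (by norm_num) (by norm_num) (by decide +kernel)

theorem le_ly (hg : TwoGen.{0}) (h : EPS H N e) (hT : Spor.IsoLy T) :
    Nat.card G ≤ 2 ^ 258 ∧ 51765179004000000 ∣ Nat.card G := by
  have hs : IsSporadicGroup T := by unfold IsSporadicGroup; (solve | repeat (first | with_reducible assumption | exact Or.inl (by with_reducible assumption) | refine Or.inr ?_) | simp only [hT, true_or, or_true])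
  exact spor_le hg h hs (NotCT.Orders.ly hT) 8 [(3, 7), (5, 6), (7, 1), (11, 1), (31, 1), (37, 1), (67, 1)] (by norm_num)
    (by
      intro x hx
      simp only [List.mem_cons, List.not_mem_nil, or_false] at hx
      rcases hx with rfl | rfl | rfl | rfl | rfl | rfl | rfl <;> norm_num)
    (by decide) (by norm_num) (by norm_num) (by decide +kernel)

theorem le_th (hg : TwoGen.{0}) (h : EPS H N e) (hT : Spor.IsoTh T) :
    Nat.card G ≤ 2 ^ 262 ∧ 90745943887872000 ∣ Nat.card G := by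
  have hs : IsSporadicGroup T := by unfold IsSporadicGroup; (solve | simp only [*, true_or, or_true, and_self, true_and, and_true, not_false_eq_true] | simp only [hT, true_or, or_true])
  exact spor_le hg h hs (NotCT.Orders.th hT) 15 [(3, 10), (5, 3), (7, 2), (13, 1), (19, 1), (31, 1)] (by norm_num)
    (by
      intro x hx
      simp only [List.mem_cons, List.not_mem_nil, or_false] at hx
      rcases hx with rfl | rfl | rfl | rfl | rfl | rfl <;> norm_num)
    (by decide) (by norm_num) (by norm_num) (by decide +kernel)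

theorem le_fi23 (hg : TwoGen.{0}) (h : EPS H N e) (hT : Spor.IsoFi23 T) :
    Nat.card G ≤ 2 ^ 289 ∧ 4089470473293004800 ∣ Nat.card G := by
  have hs : IsSporadicGroup T := by unfold IsSporadicGroup; (solve | repeat (first | with_reducible assumption | exact Or.inl (by with_reducible assumption) | refine Or.inr ?_) | simp only [hT, true_or, or_true])
  exact spor_le hg h hs (NotCT.Orders.fi23 hT) 18 [(3, 13), (5, 2), (7, 1), (11, 1), (13, 1), (17, 1), (23, 1)] (by norm_num)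
    (by
      intro x hx
      simp only [List.mem_cons, List.not_mem_nil, or_false] at hx
      rcases hx with rfl | rfl | rfl | rfl | rfl | rfl | rfl <;> norm_num)
    (by decide) (by norm_num) (by norm_num) (by decide +kernel)

theorem le_co1 (hg : TwoGen.{0}) (h : EPS H N e) (hT : Spor.IsoCo1 T) :
    Nat.card G ≤ 2 ^ 309 ∧ 4157776806543360000 ∣ Nat.card G := by
  have hs : IsSporadicGroup T := by unfold IsSporadicGroup; (solve | repeat (first | with_reducible assumption | exact Or.inl (by with_reducible assumption) | refine Or.inr ?_) | simp only [hT, true_or, or_true])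
  exact spor_le hg h hs (NotCT.Orders.co1 hT) 21 [(3, 9), (5, 4), (7, 2), (11, 1), (13, 1), (23, 1)] (by norm_num)
    (by
      intro x hx
      simp only [List.mem_cons, List.not_mem_nil, or_false] at hx
      rcases hx with rfl | rfl | rfl | rfl | rfl | rfl <;> norm_num)
    (by decide) (by norm_num) (by norm_num) (by decide +kernel)

theorem le_j4 (hg : TwoGen.{0}) (h : EPS H N e) (hT : Spor.IsoJ4 T) :
    Nat.card G ≤ 2 ^ 322 ∧ 86775571046077562880 ∣ Nat.card G := by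
  have hs : IsSporadicGroup T := by unfold IsSporadicGroup; (solve | repeat (first | with_reducible assumption | exact Or.inl (by with_reducible assumption) | refine Or.inr ?_) | simp only [hT, true_or, or_true])
  exact spor_le hg h hs (NotCT.Orders.j4 hT) 21 [(3, 3), (5, 1), (7, 1), (11, 3), (23, 1), (29, 1), (31, 1), (37, 1), (43, 1)] (by norm_num)
    (by
      intro x hx
      simp only [List.mem_cons, List.not_mem_nil, or_false] at hx
      rcases hx with rfl | rfl | rfl | rfl | rfl | rfl | rfl | rfl | rfl <;> norm_num)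
    (by decide) (by norm_num) (by norm_num) (by decide +kernel)

theorem le_fi24 (hg : TwoGen.{0}) (h : EPS H N e) (hT : Spor.IsoFi24' T) :
    Nat.card G ≤ 2 ^ 381 ∧ 1255205709190661721292800 ∣ Nat.card G := by
  have hs : IsSporadicGroup T := by unfold IsSporadicGroup; (solve | repeat (first | with_reducible assumption | exact Or.inl (by with_reducible assumption) | refine Or.inr ?_) | simp only [hT, true_or, or_true])
  exact spor_le hg h hs (NotCT.Orders.fi24 hT) 21 [(3, 16), (5, 2), (7, 3), (11, 1), (13, 1), (17, 1), (23, 1), (29, 1)] (by norm_num)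
    (by
      intro x hx
      simp only [List.mem_cons, List.not_mem_nil, or_false] at hx
      rcases hx with rfl | rfl | rfl | rfl | rfl | rfl | rfl | rfl <;> norm_num)
    (by decide) (by norm_num) (by norm_num) (by decide +kernel)

theorem le_b (hg : TwoGen.{0}) (h : EPS H N e) (hT : Spor.IsoB T) :
    Nat.card G ≤ 2 ^ 778 ∧ 4154781481226426191177580544000000 ∣ Nat.card G := by
  have hs : IsSporadicGroup T := by unfold IsSporadicGroup; (solve | repeat (first | with_reducible assumption | exact Or.inl (by with_reducible assumption) | refine Or.inr ?_) | simp only [hT, true_or, or_true])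
  exact spor_le hg h hs (NotCT.Orders.b hT) 41 [(3, 13), (5, 6), (7, 2), (11, 1), (13, 1), (17, 1), (19, 1), (23, 1), (31, 1), (47, 1)] (by norm_num)
    (by
      intro x hx
      simp only [List.mem_cons, List.not_mem_nil, or_false] at hx
      rcases hx with rfl | rfl | rfl | rfl | rfl | rfl | rfl | rfl | rfl | rfl <;> norm_num)
    (by decide) (by norm_num) (by norm_num) (by decide +kernel)

theorem le_m (hg : TwoGen.{0}) (h : EPS H N e) (hT : Spor.IsoM T) :
    Nat.card G ≤ 2 ^ 1092 ∧ 808017424794512875886459904961710757005754368000000000 ∣ Nat.card G := by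
  have hs : IsSporadicGroup T := by unfold IsSporadicGroup; (solve | repeat (first | with_reducible assumption | exact Or.inl (by with_reducible assumption) | refine Or.inr ?_) | simp only [hT, true_or, or_true])
  exact spor_le hg h hs (NotCT.Orders.m hT) 46 [(3, 20), (5, 9), (7, 6), (11, 2), (13, 3), (17, 1), (19, 1), (23, 1), (29, 1), (31, 1), (41, 1), (47, 1), (59, 1), (71, 1)] (by norm_num)
    (by
      intro x hx
      simp only [List.mem_cons, List.not_mem_nil, or_false] at hx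
      rcases hx with rfl | rfl | rfl | rfl | rfl | rfl | rfl | rfl | rfl | rfl | rfl | rfl | rfl | rfl <;> norm_num)
    (by decide) (by norm_num) (by norm_num) (by decide +kernel)

end Cfsg.Agent.H805.EPX
end

-- part: H938/EPK/F4Num_mg
section
prune_inst 0x20005400300000000000001200000620020000900028840004a1024206816d20000021200f0000034000200400380040000000004000000000000000011900a0800042000301a104260001800080000000000000000000000000000000000000000000000
set_option linter.all false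
open scoped Cfsg.Agent.FastGrp
private noncomputable def lq26c8dddd0e {T : Sort _} (f :
    type_of% (@_root_.List.cons.{0}) →
    type_of% (@_root_.List.nil.{0}) →
    type_of% (@_root_.Prod.mk.{0, 0}) →
    type_of% (@_root_.List.cons.{0} (Prod Nat (List (Fin 4)))) →
    type_of% (@_root_.Nat.mul) →
    type_of% (@_root_.Nat.add) →
    type_of% (@_root_.Matrix.vecCons.{0}) →
    type_of% (@_root_.Nat.mod) →
    type_of% (@_root_.Matrix.vecEmpty.{0}) → T) : T :=
  f (@_root_.List.cons.{0}) (@_root_.List.nil.{0}) (@_root_.Prod.mk.{0, 0}) (@_root_.List.cons.{0} (Prod Nat (List (Fin 4)))) (@_root_.Nat.mul) (@_root_.Nat.add) (@_root_.Matrix.vecCons.{0}) (@_root_.Nat.mod) (@_root_.Matrix.vecEmpty.{0})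

-- part: H938/EPK/F4W
section
/-!
# Functionals modulo `7` on the root lattice of type `F₄` (S5745, CrossK; helper938)

The functional `f : ℤ^4 →+ ZMod 7` has the code `n = ∑ f (sr j) 7 ^ j < 2401`.

* `comp_word` : `f ∘ w` on codes;
* `exists_word` : the functionals `f ≠ 0` with `f ∘ w = q f` (`q = 2, 4`) are conjugate to the code `392` (`[0, 0, 1, 1]`) or
  `8` (`[1, 1, 0, 0]`).
-/

set_option autoImplicit false
set_option linter.unusedSectionVars false

namespace Cfsg.Agent.H938.EPK.F4W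

open CoxeterSystem Cfsg Cfsg.Lie Cfsg.Lie.ChevalleyDatum
open Cfsg.Agent.ChevalleyStructure Cfsg.Agent.ChevalleyStructure.Elts Cfsg.Agent.ChevalleyStructure.CoxeterGeom
  Cfsg.Agent.ChevalleyStructure.CoxeterGeomTypes Cfsg.Agent.ChevalleyStructure.NPerm
open Cfsg.Agent.Tits.Roots Cfsg.Agent.Tits.Core Cfsg.Agent.Nodes Cfsg.Agent.Nodes.Reps Cfsg.Agent.Nodes.BNOf
  Cfsg.Agent.Nodes.RGDChev
open Cfsg.Agent.BpExc Cfsg.Agent.H129.TorusChar Cfsg.Agent.H130.WeylCk Cfsg.Agent.H130.WeylTab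

abbrev W4 := CoxeterMatrix.F₄.Group

noncomputable abbrev c4 : CoxeterSystem CoxeterMatrix.F₄ W4 := CoxeterMatrix.F₄.toCoxeterSystem

theorem hF : IsType chevF4 4 CoxeterMatrix.F₄ := by simp [IsType, typeList]

/-- the digits -/
def dg (n j : ℕ) : ℕ := n / 7 ^ j % 7

/-- the code with given digits -/
def mk4 (a b c d : ℕ) : ℕ := a + b * 7 + c * 49 + d * 343

theorem dg_lt (n j : ℕ) : dg n j < 7 := Nat.mod_lt _ (by norm_num)

theorem dg_mk4 {a b c d : ℕ} (ha : a < 7) (hb : b < 7) (hc : c < 7) (hd : d < 7) :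
    dg (mk4 a b c d) 0 = a ∧ dg (mk4 a b c d) 1 = b ∧ dg (mk4 a b c d) 2 = c ∧ dg (mk4 a b c d) 3 = d := by
  unfold dg mk4
  refine ⟨?_, ?_, ?_, ?_⟩ <;> norm_num <;> omega

theorem mk4_dg {n : ℕ} (hn : n < 2401) : mk4 (dg n 0) (dg n 1) (dg n 2) (dg n 3) = n := by
  unfold dg mk4
  norm_num
  omega

theorem mk4_lt {a b c d : ℕ} (ha : a < 7) (hb : b < 7) (hc : c < 7) (hd : d < 7) : mk4 a b c d < 2401 := by
  unfold mk4; omega

/-- minus the Cartan matrix modulo `7` -/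
def mt : List (List ℕ) := (beta% delta% lq26c8dddd0e fun e f _ _ _ _ _ _ _ =>
 (e (e 5<|e 1<|e 0<|e 0<|f)<|e (e 1<|e 5<|e 2<|e 0<|f)<|e (e 0<|e 1<|e 5<|e 1<|f)<|e (e 0<|e 0<|e 1<|e 5<|f)<|f))

def mm (i j : ℕ) : ℕ := (mt.getD i []).getD j 0

/-- the reflection on codes -/
def rs (i n : ℕ) : ℕ :=
  mk4 ((dg n 0 + mm i 0 * dg n i) % 7) ((dg n 1 + mm i 1 * dg n i) % 7) ((dg n 2 + mm i 2 * dg n i) % 7)
    ((dg n 3 + mm i 3 * dg n i) % 7)

theorem rs_lt (i n : ℕ) : rs i n < 2401 :=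
  mk4_lt (Nat.mod_lt _ (by norm_num)) (Nat.mod_lt _ (by norm_num)) (Nat.mod_lt _ (by norm_num))
    (Nat.mod_lt _ (by norm_num))

theorem dg_rs (n i : ℕ) (j : Fin 4) : dg (rs i n) j = (dg n j + mm i j * dg n i) % 7 := by
  obtain ⟨h0, h1, h2, h3⟩ := dg_mk4 (a := (dg n 0 + mm i 0 * dg n i) % 7) (b := (dg n 1 + mm i 1 * dg n i) % 7)
    (c := (dg n 2 + mm i 2 * dg n i) % 7) (d := (dg n 3 + mm i 3 * dg n i) % 7) (Nat.mod_lt _ (by norm_num))
    (Nat.mod_lt _ (by norm_num)) (Nat.mod_lt _ (by norm_num)) (Nat.mod_lt _ (by norm_num))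
  fin_cases j
  · exact h0
  · exact h1
  · exact h2
  · exact h3

/-- the functional with code `n` -/
def fn (n : ℕ) : (Fin 4 → ℤ) →+ ZMod 7 :=
  AddMonoidHom.mk' (fun x => ∑ j : Fin 4, ((x j : ℤ) : ZMod 7) * ((dg n j : ℕ) : ZMod 7)) fun x y => by
    rw [← Finset.sum_add_distrib]
    exact Finset.sum_congr rfl fun j _ => by rw [Pi.add_apply, Int.cast_add, add_mul]

theorem fn_apply (n : ℕ) (x : Fin 4 → ℤ) :
    fn n x = ∑ j : Fin 4, ((x j : ℤ) : ZMod 7) * ((dg n j : ℕ) : ZMod 7) := rfl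

theorem fn_sr (n : ℕ) (i : Fin 4) : fn n (sr i) = ((dg n i : ℕ) : ZMod 7) := by
  rw [fn_apply, Finset.sum_eq_single i]
  · rw [sr_self, Int.cast_one, one_mul]
  · intro j _ hj
    rw [sr_ne hj, Int.cast_zero, zero_mul]
  · intro h
    exact absurd (Finset.mem_univ i) h

theorem hom_ext {f g : (Fin 4 → ℤ) →+ ZMod 7} (h : ∀ i, f (sr i) = g (sr i)) : f = g := by
  refine AddMonoidHom.ext fun x => ?_
  rw [IsMC.eq_sum_sr x, map_sum, map_sum]
  refine Finset.sum_congr rfl fun i _ => ?_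
  rw [map_zsmul, map_zsmul, h i]

/-- the code of a functional -/
def code (f : (Fin 4 → ℤ) →+ ZMod 7) : ℕ := mk4 (f (sr 0)).val (f (sr 1)).val (f (sr 2)).val (f (sr 3)).val

theorem code_lt (f : (Fin 4 → ℤ) →+ ZMod 7) : code f < 2401 :=
  mk4_lt (ZMod.val_lt _) (ZMod.val_lt _) (ZMod.val_lt _) (ZMod.val_lt _)

theorem dg_code (f : (Fin 4 → ℤ) →+ ZMod 7) (j : Fin 4) : dg (code f) j = (f (sr j)).val := by
  obtain ⟨h0, h1, h2, h3⟩ := dg_mk4 (ZMod.val_lt (f (sr 0))) (ZMod.val_lt (f (sr 1))) (ZMod.val_lt (f (sr 2)))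
    (ZMod.val_lt (f (sr 3)))
  fin_cases j
  · exact h0
  · exact h1
  · exact h2
  · exact h3

theorem fn_code (f : (Fin 4 → ℤ) →+ ZMod 7) : fn (code f) = f := by
  refine hom_ext fun i => ?_
  rw [fn_sr, dg_code, ZMod.natCast_zmod_val]

theorem code_fn {n : ℕ} (hn : n < 2401) : code (fn n) = n := by
  have h : ∀ j : Fin 4, (fn n (sr j)).val = dg n j := fun j => by
    rw [fn_sr, ZMod.val_natCast, Nat.mod_eq_of_lt (dg_lt n j)]
  unfold code
  rw [h 0, h 1, h 2, h 3]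
  exact mk4_dg hn

theorem cast_A : ∀ i j : Fin 4, ((cartanOf chevF4 4 i j : ℤ) : ZMod 7) + ((mm i j : ℕ) : ZMod 7) = 0 := by
  decide +kernel

/-- the representation -/
noncomputable abbrev rp (v : W4) := rep c4 hF.isCartan v

theorem comp_simple (n : ℕ) (i : Fin 4) (x : Fin 4 → ℤ) : fn n (rp (c4.simple i) x) = fn (rs i n) x := by
  refine DFunLike.congr_fun (hom_ext (f := (fn n).comp (rp (c4.simple i)).toAddMonoidHom) (g := fn (rs i n)) fun j => ?_) x
  change fn n (rep c4 hF.isCartan (c4.simple i) (sr j)) = _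
  rw [rep_simple_eq, map_sub, map_zsmul, fn_sr, fn_sr, fn_sr, dg_rs, ZMod.natCast_mod, Nat.cast_add, Nat.cast_mul]
  have h1 : pairing (cartanOf chevF4 4) i (sr j) = cartanOf chevF4 4 i j := by
    unfold pairing
    rw [Finset.sum_eq_single j]
    · rw [sr_self, mul_one]
    · intro k _ hk
      rw [sr_ne hk, mul_zero]
    · intro h
      exact absurd (Finset.mem_univ j) h
  rw [h1]
  have h2 := cast_A i j
  rw [zsmul_eq_mul]
  linear_combination (-(((dg n i : ℕ) : ZMod 7))) * h2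

/-- a word on codes -/
def aw : List (Fin 4) → ℕ → ℕ
  | [], n => n
  | i :: L, n => aw L (rs i n)

theorem aw_lt : ∀ (L : List (Fin 4)) {n : ℕ}, n < 2401 → aw L n < 2401
  | [], _, h => h
  | i :: L, n, _ => aw_lt L (rs_lt i n)

theorem comp_word : ∀ (L : List (Fin 4)) (n : ℕ) (x : Fin 4 → ℤ), fn n (rp (c4.wordProd L) x) = fn (aw L n) x
  | [], n, x => by
    rw [CoxeterSystem.wordProd_nil]
    change fn n (rep c4 hF.isCartan 1 x) = _
    rw [map_one, Module.End.one_apply]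
    rfl
  | i :: L, n, x => by
    rw [CoxeterSystem.wordProd_cons, rep_mul_apply]
    have h := comp_simple n i (rp (c4.wordProd L) x)
    rw [h, comp_word L (rs i n) x]
    rfl

/-- the quadratic form on codes -/
def Qn (n : ℕ) : ℕ := (2 * (dg n 0 * dg n 0) + 6 * (dg n 0 * dg n 1) + 4 * (dg n 0 * dg n 2) + 2 * (dg n 0 * dg n 3) +
  6 * (dg n 1 * dg n 1) + dg n 1 * dg n 2 + 4 * (dg n 1 * dg n 3) + 3 * (dg n 2 * dg n 2) +
  3 * (dg n 2 * dg n 3) + dg n 3 * dg n 3) % 7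

private noncomputable def al (p : ℕ → Bool) (n : ℕ) : Bool :=
  Nat.rec (motive := fun _ => Bool) true (fun k ih => Bool.rec (motive := fun _ => Bool) false ih (p k)) n

private theorem al_spec {p : ℕ → Bool} {n : ℕ} (h : al p n = true) : ∀ k < n, p k = true := by
  induction n with
  | zero => intro k hk; exact absurd hk (Nat.not_lt_zero k)
  | succ n ih =>
    have e : al p (n + 1) = Bool.rec (motive := fun _ => Bool) false (al p n) (p n) := rfl
    rw [e] at h
    cases hp : p n with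
    | false => rw [hp] at h; exact absurd h Bool.false_ne_true
    | true =>
      rw [hp] at h
      intro k hk
      rcases Nat.lt_succ_iff_lt_or_eq.1 hk with h1 | h1
      · exact ih h k h1
      · rw [h1]; exact hp

private theorem al4 {p : ℕ → ℕ → ℕ → ℕ → Bool}
    (h : al (fun a => al (fun b => al (fun c => al (fun d => p a b c d) 7) 7) 7) 7 = true) (n : ℕ) :
    p (dg n 0) (dg n 1) (dg n 2) (dg n 3) = true :=
  al_spec (al_spec (al_spec (al_spec h _ (dg_lt n 0)) _ (dg_lt n 1)) _ (dg_lt n 2)) _ (dg_lt n 3)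

private def q4 (a b c d : ℕ) : ℕ :=
  (beta% delta% lq26c8dddd0e fun _ _ _ _ j k _ m _ =>
 m (k (k (k (k (k (k (k (k (k (j 2 (j a a))
 (j 6 (j a b))) (j 4 (j a c))) (j 2 (j a d))) (j 6 (j b b))) (j b c))
 (j 4 (j b d))) (j 3 (j c c))) (j 3 (j c d))) (j d d)) 7)

private theorem Qn_eq (n : ℕ) : Qn n = q4 (dg n 0) (dg n 1) (dg n 2) (dg n 3) := rfl

private theorem Qn_mk {a b c d : ℕ} : Qn (mk4 (a % 7) (b % 7) (c % 7) (d % 7)) = q4 (a % 7) (b % 7) (c % 7) (d % 7) := by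
  obtain ⟨h0, h1, h2, h3⟩ := dg_mk4 (Nat.mod_lt a (by norm_num : 7 > 0)) (Nat.mod_lt b (by norm_num : 7 > 0))
    (Nat.mod_lt c (by norm_num : 7 > 0)) (Nat.mod_lt d (by norm_num : 7 > 0))
  rw [Qn_eq, h0, h1, h2, h3]

private def r4 (a b c d x s t u v : ℕ) : Bool :=
  Nat.beq (q4 (Nat.mod (Nat.add a (Nat.mul s x)) 7) (Nat.mod (Nat.add b (Nat.mul t x)) 7) (Nat.mod (Nat.add c (Nat.mul u x)) 7)
    (Nat.mod (Nat.add d (Nat.mul v x)) 7)) (q4 a b c d)

theorem Qn_rs : ∀ n < 2401, ∀ i < 4, Qn (rs i n) = Qn n := by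
  intro n _ i hi
  rw [Qn_eq n]
  refine Qn_mk.trans (Nat.eq_of_beq_eq_true ?_)
  interval_cases i
  · exact al4 (p := fun a b c d => r4 a b c d a 5 1 0 0) (by decide +kernel) n
  · exact al4 (p := fun a b c d => r4 a b c d b 1 5 2 0) (by decide +kernel) n
  · exact al4 (p := fun a b c d => r4 a b c d c 0 1 5 1) (by decide +kernel) n
  · exact al4 (p := fun a b c d => r4 a b c d d 0 0 1 5) (by decide +kernel) n


theorem Qn_aw : ∀ (L : List (Fin 4)) {n : ℕ}, n < 2401 → Qn (aw L n) = Qn n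
  | [], _, _ => rfl
  | i :: L, n, h => (Qn_aw L (rs_lt i n)).trans (Qn_rs n h i i.2)

/-- multiplication by `q` on codes -/
def mq (q n : ℕ) : ℕ := mk4 (q * dg n 0 % 7) (q * dg n 1 % 7) (q * dg n 2 % 7) (q * dg n 3 % 7)

private def m4 (q r a b c d : ℕ) : Bool :=
  Nat.beq (q4 (Nat.mod (Nat.mul q a) 7) (Nat.mod (Nat.mul q b) 7) (Nat.mod (Nat.mul q c) 7) (Nat.mod (Nat.mul q d) 7))
    (Nat.mod (Nat.mul r (q4 a b c d)) 7)

theorem Qn_mq : ∀ n < 2401, (Qn (mq 2 n) = 4 * Qn n % 7) ∧ (Qn (mq 4 n) = 2 * Qn n % 7) := by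
  intro n _
  rw [Qn_eq n]
  exact ⟨Qn_mk.trans (Nat.eq_of_beq_eq_true (al4 (p := m4 2 4) (by decide +kernel) n)),
    Qn_mk.trans (Nat.eq_of_beq_eq_true (al4 (p := m4 4 2) (by decide +kernel) n))⟩


theorem fn_mq (q n : ℕ) (x : Fin 4 → ℤ) : fn (mq q n) x = q • fn n x := by
  have h : fn (mq q n) = (AddMonoidHom.mulLeft ((q : ℕ) : ZMod 7)).comp (fn n) := by
    refine hom_ext fun j => ?_
    change _ = ((q : ℕ) : ZMod 7) * fn n (sr j)
    rw [fn_sr, fn_sr]
    have h1 : dg (mq q n) j = q * dg n j % 7 := by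
      obtain ⟨h0, h1, h2, h3⟩ := dg_mk4 (a := q * dg n 0 % 7) (b := q * dg n 1 % 7) (c := q * dg n 2 % 7)
        (d := q * dg n 3 % 7) (Nat.mod_lt _ (by norm_num)) (Nat.mod_lt _ (by norm_num)) (Nat.mod_lt _ (by norm_num))
        (Nat.mod_lt _ (by norm_num))
      fin_cases j
      · exact h0
      · exact h1
      · exact h2
      · exact h3
    rw [h1, ZMod.natCast_mod, Nat.cast_mul]
  rw [h]
  change ((q : ℕ) : ZMod 7) * fn n x = _
  rw [nsmul_eq_mul]

theorem mq_lt (q n : ℕ) : mq q n < 2401 :=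
  mk4_lt (Nat.mod_lt _ (by norm_num)) (Nat.mod_lt _ (by norm_num)) (Nat.mod_lt _ (by norm_num))
    (Nat.mod_lt _ (by norm_num))

/-- the eigenfunctionals are isotropic -/
theorem Qn_eq_zero {q : ℕ} (hq : q = 2 ∨ q = 4) {f : (Fin 4 → ℤ) →+ ZMod 7} {w : W4}
    (h : ∀ y, f (rp w y) = q • f y) : Qn (code f) = 0 := by
  obtain ⟨L, rfl⟩ := c4.wordProd_surjective w
  have h1 : fn (aw L (code f)) = fn (mq q (code f)) := by
    refine AddMonoidHom.ext fun x => ?_
    rw [← comp_word, fn_mq, fn_code, h]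
  have h2 := congrArg code h1
  rw [code_fn (aw_lt L (code_lt f)), code_fn (mq_lt _ _)] at h2
  have h3 := Qn_aw L (code_lt f)
  rw [h2] at h3
  have h4 := Qn_mq _ (code_lt f)
  have h5 : Qn (code f) < 7 := Nat.mod_lt _ (by norm_num)
  rcases hq with rfl | rfl
  · rw [h4.1] at h3; omega
  · rw [h4.2] at h3; omega

/-- the orbit of the code `392` -/
def tA : List (ℕ × List (Fin 4)) :=
  (beta% delta% lq26c8dddd0e fun e f g h _ _ _ _ _ =>
 (let i:=(let i:=(let i:=(let i:=(let i:=(h (g 2352 (e 3<|e 2<|e 1<|e 2<|e 0<|e 1<|e 2<|e 3<|e 2<|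
 e 1<|e 2<|e 0<|e 1<|e 2<|e 3<|e 2<|e 1<|e 2<|e 0<|e 1<|e 2<|f))<|h (g 2355 (e 3<|e 2<|e 1<|e 2<|e 3<|e 2<|e 1<|e 2<|f))<|h (g 2366 (e 2<|e 3<|e 2<|f))<|h (g 2370 (e 2<|e 0<|e 1<|e 2<|e 3<|e 2<|
 e 1<|e 2<|e 0<|e 1<|e 2<|e 3<|e 2<|e 0<|e 1<|e 2<|f))<|h (g 2377 (e 3<|e 2<|e 0<|e 1<|e 2<|e 3<|e 2<|e 1<|e 2<|f))<|h (g 2397 (e 2<|e 1<|e 2<|e 3<|e 2<|e 1<|e 2<|e 0<|e 1<|e 2<|e 3<|e 2<|e 0<|
 e 1<|e 2<|f))<|f);
 (h (g 2306 (e 2<|e 1<|e 2<|e 3<|e 2<|e 1<|e 2<|e 0<|e 1<|e 2<|e 3<|e 2<|f))<|h (g 2318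
 (e 2<|e 3<|e 2<|e 1<|e 2<|f))<|h (g 2322 (e 2<|e 0<|e 1<|e 2<|e 3<|e 2<|e 1<|e 2<|e 0<|e 1<|e 2<|e 3<|e 2<|e 1<|e 2<|e 0<|e 1<|e 2<|f))<|h (g 2328 (e 2<|e 0<|e 1<|e 2<|e 3<|e 2<|e 1<|e 2<|e 0<|
 e 1<|e 2<|e 3<|e 2<|f))<|h (g 2330 (e 2<|e 3<|e 2<|e 0<|e 1<|e 2<|f))<|h (g 2331 (e 3<|e 1<|e 2<|e 0<|e 1<|e 2<|e 3<|e 2<|e 1<|e 2<|f))<|i));
 (let i:=(h (g 2275 (e 2<|e 3<|e 2<|e 1<|e 2<|e 0<|e 1<|e 2<|f))<|h (g 2280 (e 2<|e 0<|e 1<|e 2<|e 3<|e 2<|e 1<|e 2<|e 0<|e 1<|e 2<|e 3<|e 2<|e 1<|e 2<|f))<|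
 h (g 2282 (e 1<|e 2<|e 0<|e 1<|e 2<|e 3<|e 2<|e 1<|e 2<|e 0<|e 1<|e 2<|e 3<|e 2<|f))<|h (g 2284 (e 1<|e 2<|e 3<|e 2<|e 0<|e 1<|e 2<|f))<|h (g 2301 (e 0<|e 1<|e 2<|e 3<|e 2<|e 0<|e 1<|e 2<|f))<|
 h (g 2305 (e 2<|e 1<|e 2<|e 3<|e 2<|e 1<|e 2<|e 0<|e 1<|e 2<|e 3<|e 2<|e 1<|e 2<|e 0<|e 1<|e 2<|f))<|i);
 (h (g 2226 (e 2<|e 3<|e 2<|
 e 1<|e 2<|e 0<|e 1<|e 2<|e 3<|e 0<|e 1<|e 2<|f))<|h (g 2234 (e 1<|e 2<|e 0<|e 1<|e 2<|e 3<|e 2<|e 1<|e 2<|e 0<|e 1<|e 2<|e 3<|e 2<|e 1<|e 2<|f))<|h (g 2236 (e 1<|e 2<|e 3<|e 2<|e 1<|e 2<|e 0<|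
 e 1<|e 2<|f))<|h (g 2242 (e 1<|e 2<|e 3<|e 2<|f))<|h (g 2246 (e 1<|e 2<|e 0<|e 1<|e 2<|e 3<|e 2<|e 1<|e 2<|e 0<|e 1<|e 2<|e 3<|e 2<|e 0<|e 1<|e 2<|f))<|h (g 2263 (e 2<|e 1<|e 2<|e 3<|e 2<|e 1<|
 e 2<|e 0<|e 1<|e 2<|e 3<|e 2<|e 1<|e 2<|f))<|i)));
 (let i:=(let i:=(h (g 2167 (e 0<|e 1<|e 2<|e 3<|e 2<|e 1<|
 e 2<|f))<|h (g 2187 (e 1<|e 2<|e 3<|e 2<|e 1<|e 2<|e 0<|e 1<|e 2<|e 3<|e 0<|e 1<|e 2<|f))<|h (g 2191 (e 1<|e 2<|e 0<|e 1<|e 2<|e 3<|e 2<|e 1<|e 2<|e 0<|e 1<|e 2<|e 3<|e 2<|e 1<|e 2<|e 0<|e 1<|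
 e 2<|f))<|h (g 2194 (e 1<|e 2<|e 3<|e 2<|e 1<|e 2<|f))<|h (g 2209 (e 0<|e 1<|e 2<|e 3<|e 2<|e 1<|e 2<|e 0<|e 1<|e 2<|f))<|h (g 2210 (e 0<|e 1<|e 2<|e 3<|e 2<|f))<|i);
 (h (g 2022 (e 3<|e 2<|e 1<|e 2<|e 0<|e 1<|e 2<|e 3<|e 2<|e 1<|e 2<|e 0<|
 e 1<|e 2<|e 3<|e 2<|e 0<|e 1<|e 2<|f))<|h (g 2034 (e 3<|e 2<|e 0<|e 1<|e 2<|e 3<|e 2<|e 1<|e 2<|e 0<|e 1<|e 2<|f))<|h (g 2035 (e 3<|e 2<|e 0<|e 1<|e 2<|e 3<|e 2<|f))<|h (g 2051 (e 2<|e 1<|e 2<|
 e 0<|e 1<|e 2<|e 3<|e 0<|e 1<|e 2<|f))<|h (g 2156 (e 3<|f))<|h (g 2160 (e 0<|e 1<|e 2<|e 3<|e 2<|e 1<|e 2<|e 0<|e 1<|e 2<|e 3<|e 0<|e 1<|e 2<|f))<|i));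
 (let i:=(h (g 1989 (e 3<|e 1<|e 2<|e 0<|e 1<|e 2<|e 3<|e 2<|f))<|h (g 2001 (e 3<|e 1<|e 2<|e 0<|e 1<|e 2<|e 3<|
 e 1<|e 2<|f))<|h (g 2003 (e 2<|e 1<|e 2<|e 0<|e 1<|e 2<|e 3<|e 2<|e 0<|e 1<|e 2<|f))<|h (g 2010 (e 3<|e 2<|e 1<|e 2<|e 0<|e 1<|e 2<|e 3<|e 2<|e 1<|e 2<|e 0<|e 1<|e 2<|e 3<|e 2<|e 1<|e 2<|f))<|
 h (g 2012 (e 3<|e 2<|e 1<|e 2<|e 3<|e 2<|e 1<|e 2<|e 0<|e 1<|e 2<|f))<|h (g 2018 (e 3<|e 2<|e 1<|e 2<|e 3<|e 2<|f))<|i);
 (h (g 1926 (e 2<|e 3<|e 2<|e 1<|e 2<|e 0<|e 1<|e 2<|e 3<|e 2<|e 0<|e 1<|e 2<|f))<|h (g 1932 (e 2<|e 3<|e 2<|e 1<|e 2<|e 0<|e 1<|e 2<|e 3<|f))<|h (g 1938 (e 2<|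
 e 3<|e 2<|e 1<|e 2<|e 0<|e 1<|e 2<|e 3<|e 1<|e 2<|e 0<|e 1<|e 2<|f))<|h (g 1960 (e 2<|e 1<|e 2<|e 0<|e 1<|e 2<|e 3<|f))<|h (g 1966 (e 2<|e 1<|e 2<|e 0<|e 1<|e 2<|e 3<|e 1<|e 2<|e 0<|e 1<|
 e 2<|f))<|h (g 1988 (e 3<|e 1<|e 2<|e 0<|e 1<|e 2<|e 3<|e 2<|e 1<|e 2<|e 0<|e 1<|e 2<|f))<|i))));
 (let i:=(let i:=(let i:=(h (g 1893 (e 1<|e 2<|e 3<|e 2<|e 1<|e 2<|e 0<|e 1<|e 2<|e 3<|f))<|h (g 1905 (e 3<|e 1<|e 2<|f))<|h (g 1909 (e 0<|e 1<|e 2<|e 3<|e 2<|e 1<|e 2<|e 0<|e 1<|e 2<|e 3<|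
 e 1<|e 2<|e 0<|e 1<|e 2<|f))<|h (g 1911 (e 2<|e 1<|e 2<|e 0<|e 1<|e 2<|e 3<|e 2<|e 1<|e 2<|e 0<|e 1<|e 2<|f))<|h (g 1912 (e 2<|e 1<|e 2<|e 0<|e 1<|e 2<|e 3<|e 2<|f))<|h (g 1924 (e 2<|e 1<|e 2<|
 e 0<|e 1<|e 2<|e 3<|e 1<|e 2<|f))<|i);
 (h (g 1806 (e 3<|
 e 2<|e 1<|e 2<|e 0<|e 1<|e 2<|e 3<|e 2<|e 1<|e 2<|e 0<|e 1<|e 2<|e 3<|e 1<|e 2<|e 0<|e 1<|e 2<|f))<|h (g 1809 (e 3<|e 2<|e 1<|e 2<|e 3<|e 1<|e 2<|f))<|h (g 1866 (e 0<|e 1<|e 2<|e 3<|e 2<|e 1<|
 e 2<|e 0<|e 1<|e 2<|e 3<|f))<|h (g 1868 (e 3<|e 0<|e 1<|e 2<|f))<|h (g 1869 (e 2<|e 1<|e 2<|e 0<|e 1<|e 2<|e 3<|e 2<|e 1<|e 2<|f))<|h (g 1892 (e 1<|e 2<|e 3<|e 2<|e 1<|e 2<|e 0<|e 1<|e 2<|e 3<|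
 e 1<|e 2<|e 0<|e 1<|e 2<|f))<|i));
 (let i:=(h (g 1692 (e 3<|e 2<|e 0<|e 1<|
 e 2<|e 3<|e 2<|e 0<|e 1<|e 2<|f))<|h (g 1703 (e 1<|e 2<|e 3<|e 1<|e 2<|e 0<|e 1<|e 2<|e 3<|e 2<|e 1<|e 2<|f))<|h (g 1771 (e 3<|e 2<|f))<|h (g 1775 (e 0<|e 1<|e 2<|e 3<|e 2<|e 1<|e 2<|e 0<|e 1<|
 e 2<|e 3<|e 2<|e 0<|e 1<|e 2<|f))<|h (g 1782 (e 3<|e 2<|e 0<|e 1<|e 2<|e 3<|e 1<|e 2<|f))<|h (g 1802 (e 1<|e 2<|e 3<|e 2<|e 1<|e 2<|e 0<|e 1<|e 2<|e 3<|e 2<|e 0<|e 1<|e 2<|f))<|i);
 (h (g 1652 (e 3<|e 1<|e 2<|e 0<|e 1<|e 2<|e 3<|f))<|h (g 1658 (e 3<|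
 e 1<|e 2<|e 0<|e 1<|e 2<|e 3<|e 1<|e 2<|e 0<|e 1<|e 2<|f))<|h (g 1666 (e 2<|e 1<|e 2<|e 0<|e 1<|e 2<|f))<|h (g 1671 (e 0<|e 1<|e 2<|e 3<|e 1<|e 2<|e 0<|e 1<|e 2<|e 3<|e 2<|e 1<|e 2<|f))<|
 h (g 1673 (e 3<|e 2<|e 1<|e 2<|e 0<|e 1<|e 2<|e 3<|e 2<|e 1<|e 2<|e 0<|e 1<|e 2<|e 3<|e 2<|f))<|h (g 1675 (e 3<|e 2<|e 1<|e 2<|e 3<|e 2<|e 0<|e 1<|e 2<|f))<|i)));
 (let i:=(let i:=(h (g 1610 (e 3<|e 1<|e 2<|e 0<|e 1<|e 2<|f))<|h (g 1615 (e 0<|e 1<|e 2<|e 3<|e 2<|e 1<|e 2<|e 0<|e 1<|e 2<|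
 e 3<|e 1<|e 2<|f))<|h (g 1631 (e 2<|e 3<|e 2<|e 1<|e 2<|e 0<|e 1<|e 2<|e 3<|e 2<|e 1<|e 2<|e 0<|e 1<|e 2<|f))<|h (g 1632 (e 2<|e 3<|e 2<|e 1<|e 2<|e 0<|e 1<|e 2<|e 3<|e 2<|f))<|h (g 1644 (e 2<|
 e 3<|e 2<|e 1<|e 2<|e 0<|e 1<|e 2<|e 3<|e 1<|e 2<|f))<|h (g 1646 (e 3<|e 1<|e 2<|e 0<|e 1<|e 2<|e 3<|e 2<|e 0<|e 1<|e 2<|f))<|i);
 (h (g 1507 (e 1<|e 2<|e 3<|e 2<|e 1<|e 2<|e 0<|e 1<|e 2<|e 3<|e 2<|e 1<|e 2<|e 0<|e 1<|e 2<|f))<|h (g 1508 (e 1<|e 2<|e 3<|e 2<|e 1<|e 2<|e 0<|e 1<|e 2<|e 3<|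
 e 2<|f))<|h (g 1568 (e 2<|e 1<|e 2<|e 0<|e 1<|e 2<|e 3<|e 2<|e 1<|e 2<|e 0<|e 1<|e 2<|e 3<|f))<|h (g 1570 (e 2<|e 1<|e 2<|e 3<|e 0<|e 1<|e 2<|f))<|h (g 1587 (e 2<|e 0<|e 1<|e 2<|e 3<|e 0<|e 1<|
 e 2<|f))<|h (g 1598 (e 1<|e 2<|e 3<|e 2<|e 1<|e 2<|e 0<|e 1<|e 2<|e 3<|e 1<|e 2<|f))<|i));
 (let i:=(h (g 1466 (e 3<|e 2<|e 1<|e 2<|e 3<|e 1<|e 2<|e 0<|e 1<|e 2<|f))<|h (g 1471 (e 3<|e 2<|e 1<|e 2<|f))<|h (g 1475 (e 0<|e 1<|e 2<|e 3<|e 2<|e 1<|e 2<|e 0<|e 1<|e 2<|e 3<|
 e 2<|e 1<|e 2<|e 0<|e 1<|e 2<|f))<|h (g 1481 (e 0<|e 1<|e 2<|e 3<|e 2<|e 1<|e 2<|e 0<|e 1<|e 2<|e 3<|e 2<|f))<|h (g 1483 (e 3<|e 2<|e 0<|e 1<|e 2<|f))<|h (g 1484 (e 2<|e 3<|e 1<|e 2<|e 0<|e 1<|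
 e 2<|e 3<|e 2<|e 1<|e 2<|f))<|i);
 (h (g 1423 (e 3<|
 e 2<|e 1<|e 2<|e 3<|f))<|h (g 1427 (e 3<|e 2<|e 1<|e 2<|e 0<|e 1<|e 2<|e 3<|e 2<|e 1<|e 2<|e 0<|e 1<|e 2<|e 3<|e 0<|e 1<|e 2<|f))<|h (g 1439 (e 3<|e 2<|e 0<|e 1<|e 2<|e 3<|e 1<|e 2<|e 0<|e 1<|
 e 2<|f))<|h (g 1440 (e 3<|e 2<|e 0<|e 1<|e 2<|e 3<|f))<|h (g 1456 (e 1<|e 2<|e 0<|e 1<|e 2<|e 3<|e 0<|e 1<|e 2<|f))<|h (g 1464 (e 3<|e 2<|e 1<|e 2<|e 0<|e 1<|e 2<|e 3<|e 2<|e 1<|e 2<|e 0<|e 1<|
 e 2<|e 3<|e 1<|e 2<|f))<|i)))));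
 (let i:=(let i:=(let i:=(let i:=(h (g 1328 (e 0<|e 1<|e 2<|e 3<|e 1<|e 2<|e 0<|e 1<|e 2<|e 3<|e 2<|
 e 1<|e 2<|e 0<|e 1<|e 2<|f))<|h (g 1334 (e 0<|e 1<|e 2<|e 3<|e 1<|e 2<|e 0<|e 1<|e 2<|e 3<|e 2<|f))<|h (g 1336 (e 2<|e 0<|e 1<|e 2<|f))<|h (g 1337 (e 2<|e 3<|e 2<|e 1<|e 2<|e 0<|e 1<|e 2<|e 3<|
 e 2<|e 1<|e 2<|f))<|h (g 1360 (e 1<|e 2<|e 3<|e 1<|e 2<|e 0<|e 1<|e 2<|e 3<|e 2<|e 1<|e 2<|e 0<|e 1<|e 2<|f))<|h (g 1361 (e 1<|e 2<|e 3<|e 1<|e 2<|e 0<|e 1<|e 2<|e 3<|e 2<|f))<|i);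
 (h (g 1292 (e 2<|e 0<|e 1<|e 2<|e 3<|e 1<|
 e 2<|e 0<|e 1<|e 2<|f))<|h (g 1293 (e 2<|e 0<|e 1<|e 2<|e 3<|f))<|h (g 1309 (e 3<|e 1<|e 2<|e 0<|e 1<|e 2<|e 3<|e 0<|e 1<|e 2<|f))<|h (g 1317 (e 2<|e 1<|e 2<|e 0<|e 1<|e 2<|e 3<|e 2<|e 1<|e 2<|
 e 0<|e 1<|e 2<|e 3<|e 1<|e 2<|f))<|h (g 1319 (e 2<|e 1<|e 2<|e 3<|e 1<|e 2<|e 0<|e 1<|e 2<|f))<|h (g 1324 (e 2<|e 1<|e 2<|f))<|i));
 (let i:=(h (g 1183 (e 2<|e 1<|e 2<|e 0<|e 1<|e 2<|e 3<|e 2<|e 1<|e 2<|e 0<|e 1<|e 2<|e 3<|
 e 2<|f))<|h (g 1185 (e 2<|e 1<|e 2<|e 3<|e 2<|e 0<|e 1<|e 2<|f))<|h (g 1202 (e 2<|e 0<|e 1<|e 2<|e 3<|e 2<|e 0<|e 1<|e 2<|f))<|h (g 1213 (e 1<|e 2<|e 3<|e 2<|e 1<|e 2<|e 0<|e 1<|e 2<|e 3<|e 2<|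
 e 1<|e 2<|f))<|h (g 1276 (e 2<|e 1<|e 2<|e 3<|f))<|h (g 1280 (e 2<|e 1<|e 2<|e 0<|e 1<|e 2<|e 3<|e 2<|e 1<|e 2<|e 0<|e 1<|e 2<|e 3<|e 0<|e 1<|e 2<|f))<|i);
 (h (g 1154 (e 2<|e 3<|e 1<|e 2<|e 0<|e 1<|e 2<|e 3<|e 1<|e 2<|f))<|h (g 1156 (e 1<|
 e 2<|e 0<|e 1<|e 2<|e 3<|e 2<|e 0<|e 1<|e 2<|f))<|h (g 1162 (e 1<|e 2<|e 0<|e 1<|e 2<|e 3<|f))<|h (g 1168 (e 1<|e 2<|e 0<|e 1<|e 2<|e 3<|e 1<|e 2<|e 0<|e 1<|e 2<|f))<|h (g 1176 (e 3<|e 2<|e 1<|
 e 2<|e 0<|e 1<|e 2<|f))<|h (g 1181 (e 0<|e 1<|e 2<|e 3<|e 2<|e 1<|e 2<|e 0<|e 1<|e 2<|e 3<|e 2<|e 1<|e 2<|f))<|i)));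
 (let i:=(let i:=(h (g 1097 (e 3<|e 2<|e 0<|e 1<|e 2<|e 3<|e 0<|e 1<|e 2<|f))<|h (g 1108 (e 1<|e 2<|e 3<|e 1<|
 e 2<|e 0<|e 1<|e 2<|e 3<|e 1<|e 2<|f))<|h (g 1120 (e 1<|e 2<|e 0<|e 1<|e 2<|f))<|h (g 1125 (e 0<|e 1<|e 2<|e 3<|e 1<|e 2<|e 0<|e 1<|e 2<|e 3<|e 1<|e 2<|f))<|h (g 1141 (e 2<|e 3<|e 1<|e 2<|e 0<|
 e 1<|e 2<|e 3<|e 2<|e 1<|e 2<|e 0<|e 1<|e 2<|f))<|h (g 1142 (e 2<|e 3<|e 1<|e 2<|e 0<|e 1<|e 2<|e 3<|e 2<|f))<|i);
 (h (g 998 (e 2<|e 0<|e 1<|e 2<|e 3<|e 1<|e 2<|f))<|h (g 1018 (e 1<|e 2<|e 3<|e 1<|e 2<|e 0<|e 1<|e 2<|e 3<|e 2<|e 0<|e 1<|e 2<|f))<|h (g 1022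
 (e 2<|e 1<|e 2<|e 0<|e 1<|e 2<|e 3<|e 2<|e 1<|e 2<|e 0<|e 1<|e 2<|e 3<|e 1<|e 2<|e 0<|e 1<|e 2<|f))<|h (g 1025 (e 2<|e 1<|e 2<|e 3<|e 1<|e 2<|f))<|h (g 1078 (e 3<|e 2<|e 1<|e 2<|e 0<|e 1<|e 2<|
 e 3<|e 2<|e 1<|e 2<|e 0<|e 1<|e 2<|e 3<|f))<|h (g 1080 (e 3<|e 2<|e 1<|e 2<|e 3<|e 0<|e 1<|e 2<|f))<|i));
 (let i:=(h (g 895 (e 2<|e 1<|e 2<|e 0<|e 1<|e 2<|e 3<|e 2<|e 1<|e 2<|e 0<|e 1<|e 2<|e 3<|e 2<|e 0<|e 1<|e 2<|f))<|h (g 907 (e 2<|e 0<|e 1<|e 2<|e 3<|e 2<|e 1<|
 e 2<|e 0<|e 1<|e 2<|f))<|h (g 908 (e 2<|e 0<|e 1<|e 2<|e 3<|e 2<|f))<|h (g 924 (e 3<|e 2<|e 1<|e 2<|e 0<|e 1<|e 2<|e 3<|e 0<|e 1<|e 2<|f))<|h (g 987 (e 2<|f))<|h (g 991 (e 0<|e 1<|e 2<|e 3<|e 1<|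
 e 2<|e 0<|e 1<|e 2<|e 3<|e 2<|e 0<|e 1<|e 2<|f))<|i);
 (h (g 862 (e 1<|e 2<|e 0<|e 1<|e 2<|e 3<|e 2<|f))<|h (g 874 (e 1<|e 2<|e 0<|e 1<|e 2<|e 3<|e 1<|e 2<|f))<|h (g 876 (e 3<|e 2<|e 1<|e 2<|e 0<|e 1<|e 2<|e 3<|
 e 2<|e 0<|e 1<|e 2<|f))<|h (g 883 (e 2<|e 1<|e 2<|e 0<|e 1<|e 2<|e 3<|e 2<|e 1<|e 2<|e 0<|e 1<|e 2<|e 3<|e 2<|e 1<|e 2<|f))<|h (g 885 (e 2<|e 1<|e 2<|e 3<|e 2<|e 1<|e 2<|e 0<|e 1<|e 2<|f))<|
 h (g 891 (e 2<|e 1<|e 2<|e 3<|e 2<|f))<|i))));
 (let i:=(let i:=(let i:=(h (g 799 (e 2<|e 3<|e 1<|e 2<|e 0<|e 1<|e 2<|e 3<|e 2<|e 0<|e 1<|e 2<|f))<|h (g 805 (e 2<|e 3<|e 1<|e 2<|e 0<|e 1<|e 2<|e 3<|f))<|h (g 811 (e 2<|e 3<|e 1<|e 2<|e 0<|e 1<|e 2<|e 3<|e 1<|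
 e 2<|e 0<|e 1<|e 2<|f))<|h (g 833 (e 3<|e 2<|e 1<|e 2<|e 0<|e 1<|e 2<|e 3<|f))<|h (g 839 (e 3<|e 2<|e 1<|e 2<|e 0<|e 1<|e 2<|e 3<|e 1<|e 2<|e 0<|e 1<|e 2<|f))<|h (g 861 (e 1<|e 2<|e 0<|e 1<|e 2<|
 e 3<|e 2<|e 1<|e 2<|e 0<|e 1<|e 2<|f))<|i);
 (h (g 766 (e 1<|e 2<|e 3<|e 1<|e 2<|e 0<|e 1<|e 2<|e 3<|f))<|h (g 778 (e 1<|e 2<|f))<|h (g 782 (e 0<|e 1<|e 2<|e 3<|e 1<|e 2<|e 0<|e 1<|e 2<|e 3<|e 1<|e 2<|e 0<|e 1<|e 2<|f))<|h (g 784
 (e 3<|e 2<|e 1<|e 2<|e 0<|e 1<|e 2<|e 3<|e 2<|e 1<|e 2<|e 0<|e 1<|e 2<|f))<|h (g 785 (e 3<|e 2<|e 1<|e 2<|e 0<|e 1<|e 2<|e 3<|e 2<|f))<|h (g 797 (e 3<|e 2<|e 1<|e 2<|e 0<|e 1<|e 2<|e 3<|e 1<|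
 e 2<|f))<|i));
 (let i:=(h (g 613 (e 2<|e 0<|e 1<|e 2<|e 3<|e 2<|e 1<|e 2<|f))<|h (g 633 (e 2<|e 1<|e 2<|e 3<|e 2<|e 1<|e 2<|e 0<|e 1<|e 2<|e 3<|e 0<|e 1<|e 2<|f))<|h (g 739 (e 0<|e 1<|e 2<|e 3<|e 1<|e 2<|e 0<|
 e 1<|e 2<|e 3<|f))<|h (g 741 (e 0<|e 1<|e 2<|f))<|h (g 742 (e 3<|e 2<|e 1<|e 2<|e 0<|e 1<|e 2<|e 3<|e 2<|e 1<|e 2<|f))<|h (g 765 (e 1<|e 2<|e 3<|e 1<|e 2<|e 0<|e 1<|e 2<|e 3<|e 1<|e 2<|e 0<|e 1<|
 e 2<|f))<|i);
 (h (g 566 (e 2<|e 3<|e 0<|e 1<|e 2<|f))<|h (g 567 (e 1<|e 2<|e 0<|e 1<|e 2<|e 3<|e 2<|e 1<|e 2<|f))<|h (g 588 (e 2<|e 1<|e 2<|e 0<|e 1<|e 2<|e 3<|e 2<|e 1<|e 2<|e 0<|e 1<|e 2<|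
 e 3<|e 2<|e 1<|e 2<|e 0<|e 1<|e 2<|f))<|h (g 591 (e 2<|e 1<|e 2<|e 3<|e 2<|e 1<|e 2<|f))<|h (g 602 (e 2<|e 3<|f))<|h (g 606 (e 2<|e 0<|e 1<|e 2<|e 3<|e 2<|e 1<|e 2<|e 0<|e 1<|e 2<|e 3<|e 0<|e 1<|
 e 2<|f))<|i)));
 (let i:=(let i:=(h (g 537 (e 0<|e 1<|e 2<|
 e 3<|e 0<|e 1<|e 2<|f))<|h (g 541 (e 2<|e 1<|e 2<|e 3<|e 2<|e 1<|e 2<|e 0<|e 1<|e 2<|e 3<|e 1<|e 2<|e 0<|e 1<|e 2<|f))<|h (g 542 (e 2<|e 1<|e 2<|e 3<|e 2<|e 1<|e 2<|e 0<|e 1<|e 2<|e 3<|f))<|
 h (g 554 (e 2<|e 3<|e 1<|e 2<|f))<|h (g 558 (e 2<|e 0<|e 1<|e 2<|e 3<|e 2<|e 1<|e 2<|e 0<|e 1<|e 2<|e 3<|e 1<|e 2<|e 0<|e 1<|e 2<|f))<|h (g 564 (e 2<|e 0<|e 1<|e 2<|e 3<|e 2<|e 1<|e 2<|e 0<|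
 e 1<|e 2<|e 3<|f))<|i);
 (h (g 482 (e 1<|e 2<|e 0<|e 1<|e 2<|e 3<|e 2<|e 1<|e 2<|e 0<|e 1<|e 2<|
 e 3<|e 0<|e 1<|e 2<|f))<|h (g 499 (e 2<|e 1<|e 2<|e 3<|e 2<|e 1<|e 2<|e 0<|e 1<|e 2<|e 3<|e 1<|e 2<|f))<|h (g 511 (e 2<|e 3<|e 1<|e 2<|e 0<|e 1<|e 2<|f))<|h (g 516 (e 2<|e 0<|e 1<|e 2<|e 3<|e 2<|
 e 1<|e 2<|e 0<|e 1<|e 2<|e 3<|e 1<|e 2<|f))<|h (g 518 (e 1<|e 2<|e 0<|e 1<|e 2<|e 3<|e 2<|e 1<|e 2<|e 0<|e 1<|e 2<|e 3<|f))<|h (g 520 (e 1<|e 2<|e 3<|e 0<|e 1<|e 2<|f))<|i));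
 (let i:=(h (g 445 (e 0<|e 1<|
 e 2<|e 3<|e 1<|e 2<|e 0<|e 1<|e 2<|f))<|h (g 446 (e 0<|e 1<|e 2<|e 3<|f))<|h (g 462 (e 2<|e 3<|e 1<|e 2<|e 0<|e 1<|e 2<|e 3<|e 0<|e 1<|e 2<|f))<|h (g 470 (e 1<|e 2<|e 0<|e 1<|e 2<|e 3<|e 2<|e 1<|
 e 2<|e 0<|e 1<|e 2<|e 3<|e 1<|e 2<|f))<|h (g 472 (e 1<|e 2<|e 3<|e 1<|e 2<|e 0<|e 1<|e 2<|f))<|h (g 478 (e 1<|e 2<|e 3<|f))<|i);
 (e (g 392 f)<|e (g 396 (e 0<|e 1<|e 2<|e 3<|e 1<|e 2<|e 0<|e 1<|e 2<|e 3<|e 0<|e 1<|e 2<|f))<|e (g 403 (e 0<|e 1<|e 2<|e 3<|e 1<|e 2<|f))<|e (g 423 (e 1<|e 2<|e 3<|e 1<|e 2<|e 0<|e 1<|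
 e 2<|e 3<|e 0<|e 1<|e 2<|f))<|e (g 427 (e 1<|e 2<|e 0<|e 1<|e 2<|e 3<|e 2<|e 1<|e 2<|e 0<|e 1<|e 2<|e 3<|e 1<|e 2<|e 0<|e 1<|e 2<|f))<|e (g 430 (e 1<|e 2<|e 3<|e 1<|e 2<|f))<|i)))))))

/-- the orbit of the code `8` -/
def tB : List (ℕ × List (Fin 4)) :=
  (beta% delta% lq26c8dddd0e fun e f g h _ _ _ _ _ =>
 (let i:=(let i:=(let i:=(let i:=(let i:=(h (g 2314 (e 2<|e 0<|e 1<|e 2<|e 3<|e 0<|e 1<|e 2<|e 0<|e 1<|f))<|h (g 2315
 (e 2<|e 0<|e 1<|e 2<|e 0<|e 1<|e 0<|f))<|h (g 2339 (e 2<|e 1<|e 2<|e 0<|e 1<|e 2<|e 3<|e 2<|e 0<|e 1<|e 2<|e 0<|e 1<|e 0<|f))<|h (g 2341 (e 2<|e 1<|e 2<|e 3<|e 0<|e 1<|e 2<|e 0<|e 1<|f))<|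
 h (g 2347 (e 2<|e 1<|e 2<|e 0<|e 1<|e 0<|f))<|h (g 2351 (e 2<|e 1<|e 2<|e 0<|e 1<|e 2<|e 3<|e 1<|e 2<|e 0<|e 1<|e 2<|e 0<|e 1<|e 0<|f))<|f);
 (h (g 2213 (e 2<|e 1<|e 2<|e 0<|e 1<|f))<|h (g 2217 (e 2<|e 1<|e 2<|e 0<|e 1<|e 2<|
 e 3<|e 1<|e 2<|e 0<|e 1<|e 2<|e 0<|e 1<|f))<|h (g 2223 (e 2<|e 0<|e 1<|e 2<|e 3<|e 0<|e 1<|e 2<|e 0<|e 1<|e 0<|f))<|h (g 2225 (e 2<|e 0<|e 1<|e 2<|e 0<|e 1<|f))<|h (g 2249 (e 2<|e 1<|e 2<|e 0<|
 e 1<|e 2<|e 3<|e 2<|e 0<|e 1<|e 2<|e 0<|e 1<|f))<|h (g 2250 (e 2<|e 1<|e 2<|e 3<|e 0<|e 1<|e 2<|e 0<|e 1<|e 0<|f))<|i));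
 (let i:=(h (g 2115 (e 2<|e 1<|e 2<|e 0<|e 1<|e 2<|e 3<|e 2<|e 1<|e 2<|e 0<|e 1<|f))<|h (g 2116 (e 2<|e 1<|
 e 2<|e 3<|e 0<|e 1<|e 2<|e 1<|e 0<|f))<|h (g 2122 (e 2<|e 1<|e 2<|e 3<|e 0<|e 1<|e 2<|e 1<|f))<|h (g 2127 (e 2<|e 1<|e 2<|e 0<|e 1<|e 2<|e 3<|e 2<|e 1<|e 2<|e 0<|e 1<|e 0<|f))<|h (g 2133 (e 2<|
 e 0<|e 1<|e 2<|e 3<|e 0<|e 1<|e 2<|e 1<|e 0<|f))<|h (g 2134 (e 2<|e 0<|e 1<|e 2<|e 3<|e 0<|e 1<|e 2<|e 1<|f))<|i);
 (h (g 2087 (e 1<|e 2<|e 0<|e 1<|e 2<|e 3<|e 0<|e 1<|e 2<|e 1<|e 0<|f))<|h (g 2088 (e 1<|e 2<|e 0<|e 1<|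
 e 2<|e 3<|e 0<|e 1<|e 2<|e 1<|f))<|h (g 2094 (e 1<|e 2<|e 0<|e 1<|e 2<|e 0<|e 1<|f))<|h (g 2099 (e 1<|e 2<|e 0<|e 1<|e 2<|e 3<|e 0<|e 1<|e 2<|e 0<|e 1<|e 0<|f))<|h (g 2105 (e 1<|e 2<|e 0<|e 1<|
 e 2<|e 3<|e 0<|e 1<|e 2<|e 0<|e 1<|f))<|h (g 2106 (e 1<|e 2<|e 0<|e 1<|e 2<|e 0<|e 1<|e 0<|f))<|i)));
 (let i:=(let i:=(h (g 2025 (e 3<|e 1<|e 2<|e 0<|e 1<|e 2<|e 3<|e 2<|e 0<|e 1<|e 2<|e 0<|e 1<|f))<|h (g 2026 (e 1<|e 2<|e 3<|
 e 2<|e 0<|e 1<|e 2<|e 0<|e 1<|e 0<|f))<|h (g 2038 (e 3<|e 1<|e 2<|e 0<|e 1<|f))<|h (g 2042 (e 3<|e 1<|e 2<|e 0<|e 1<|e 2<|e 3<|e 1<|e 2<|e 0<|e 1<|e 2<|e 0<|e 1<|f))<|h (g 2048 (e 0<|e 1<|e 2<|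
 e 3<|e 2<|e 0<|e 1<|e 2<|e 0<|e 1<|e 0<|f))<|h (g 2050 (e 3<|e 0<|e 1<|e 2<|e 0<|e 1<|f))<|i);
 (h (g 1877 (e 2<|e 3<|e 2<|e 1<|e 2<|e 0<|e 1<|e 2<|e 3<|e 2<|e 0<|e 1<|e 2<|e 0<|e 1<|e 0<|f))<|h (g 1879 (e 3<|e 2<|e 1<|e 2<|e 3<|e 2<|e 0<|e 1<|e 2<|e 0<|e 1<|f))<|h (g 1885 (e 2<|
 e 3<|e 2<|e 1<|e 2<|e 0<|e 1<|e 0<|f))<|h (g 1889 (e 2<|e 3<|e 2<|e 1<|e 2<|e 0<|e 1<|e 2<|e 3<|e 1<|e 2<|e 0<|e 1<|e 2<|e 0<|e 1<|e 0<|f))<|h (g 1901 (e 3<|e 2<|e 0<|e 1<|e 2<|e 3<|e 2<|e 0<|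
 e 1<|e 2<|e 0<|e 1<|f))<|h (g 1902 (e 2<|e 3<|e 2<|e 0<|e 1<|e 2<|e 0<|e 1<|e 0<|f))<|i));
 (let i:=(h (g 1829 (e 0<|e 1<|e 2<|e 3<|
 e 2<|e 1<|e 2<|e 0<|e 1<|e 0<|f))<|h (g 1831 (e 3<|e 0<|e 1<|e 2<|e 1<|f))<|h (g 1843 (e 1<|e 2<|e 3<|e 2<|e 1<|e 2<|e 0<|e 1<|e 2<|e 3<|e 1<|e 2<|e 0<|e 1<|e 2<|e 0<|e 1<|e 0<|f))<|h (g 1846
 (e 1<|e 2<|e 3<|e 2<|e 1<|e 2<|e 0<|e 1<|e 0<|f))<|h (g 1858 (e 3<|e 1<|e 2<|e 1<|f))<|h (g 1860 (e 0<|e 1<|e 2<|e 3<|e 2<|e 1<|e 2<|e 0<|e 1<|e 2<|e 3<|e 1<|e 2<|e 0<|e 1<|e 2<|e 0<|e 1<|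
 e 0<|f))<|i);
 (h (g 1724 (e 3<|e 2<|e 1<|f))<|h (g 1726 (e 0<|e 1<|e 2<|e 3<|e 2<|e 1<|e 2<|
 e 0<|e 1<|e 2<|e 3<|e 2<|e 0<|e 1<|e 2<|e 0<|e 1<|e 0<|f))<|h (g 1738 (e 3<|e 2<|e 0<|e 1<|e 2<|e 3<|e 1<|e 2<|e 0<|e 1<|e 2<|e 0<|e 1<|f))<|h (g 1741 (e 3<|e 2<|e 0<|e 1<|f))<|h (g 1753 (e 1<|
 e 2<|e 3<|e 2<|e 1<|e 2<|e 0<|e 1<|e 2<|e 3<|e 2<|e 0<|e 1<|e 2<|e 0<|e 1<|e 0<|f))<|h (g 1755 (e 3<|e 2<|e 1<|e 2<|e 3<|e 1<|e 2<|e 0<|e 1<|e 2<|e 0<|e 1<|f))<|i))));
 (let i:=(let i:=(let i:=(h (g 1534 (e 2<|e 1<|e 0<|f))<|h (g 1537 (e 0<|e 1<|e 2<|e 3<|e 1<|e 2<|e 0<|e 1<|e 2<|e 3<|e 2<|e 0<|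
 e 1<|e 2<|e 0<|e 1<|f))<|h (g 1543 (e 2<|e 0<|e 1<|e 2<|e 3<|e 1<|e 2<|e 0<|e 1<|e 2<|e 0<|e 1<|e 0<|f))<|h (g 1546 (e 2<|e 0<|e 1<|e 0<|f))<|h (g 1564 (e 1<|e 2<|e 3<|e 1<|e 2<|e 0<|e 1<|e 2<|
 e 3<|e 2<|e 0<|e 1<|e 2<|e 0<|e 1<|f))<|h (g 1565 (e 2<|e 1<|e 2<|e 3<|e 1<|e 2<|e 0<|e 1<|e 2<|e 0<|e 1<|e 0<|f))<|i);
 (h (g 1492 (e 1<|e 2<|e 0<|e 1<|e 2<|e 3<|e 2<|e 0<|e 1<|e 2<|e 0<|e 1<|e 0<|f))<|h (g 1494
 (e 1<|e 2<|e 3<|e 0<|e 1<|e 2<|e 0<|e 1<|f))<|h (g 1500 (e 1<|e 2<|e 0<|e 1<|e 0<|f))<|h (g 1504 (e 1<|e 2<|e 0<|e 1<|e 2<|e 3<|e 1<|e 2<|e 0<|e 1<|e 2<|e 0<|e 1<|e 0<|f))<|h (g 1516 (e 0<|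
 e 1<|e 2<|e 3<|e 0<|e 1<|e 2<|e 0<|e 1<|f))<|h (g 1517 (e 0<|e 1<|e 2<|e 0<|e 1<|e 0<|f))<|i));
 (let i:=(h (g 1430 (e 2<|e 3<|e 1<|e 2<|e 0<|e 1<|e 2<|e 3<|e 2<|e 0<|e 1<|e 2<|e 0<|e 1<|f))<|h (g 1431 (e 2<|e 1<|e 2<|e 3<|e 2<|e 0<|
 e 1<|e 2<|e 0<|e 1<|e 0<|f))<|h (g 1443 (e 2<|e 3<|e 1<|e 2<|e 0<|e 1<|f))<|h (g 1447 (e 2<|e 3<|e 1<|e 2<|e 0<|e 1<|e 2<|e 3<|e 1<|e 2<|e 0<|e 1<|e 2<|e 0<|e 1<|f))<|h (g 1453 (e 2<|e 0<|e 1<|
 e 2<|e 3<|e 2<|e 0<|e 1<|e 2<|e 0<|e 1<|e 0<|f))<|h (g 1455 (e 2<|e 3<|e 0<|e 1<|e 2<|e 0<|e 1<|f))<|i);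
 (h (g 1382 (e 0<|e 1<|e 2<|e 3<|e 1<|e 2<|e 0<|e 1<|f))<|h (g 1383 (e 0<|e 1<|e 2<|e 1<|e 0<|f))<|h (g 1401 (e 1<|e 2<|e 3<|
 e 1<|e 2<|e 0<|e 1<|e 2<|e 3<|e 1<|e 2<|e 0<|e 1<|e 2<|e 0<|e 1<|f))<|h (g 1404 (e 1<|e 2<|e 3<|e 1<|e 2<|e 0<|e 1<|f))<|h (g 1410 (e 1<|e 2<|e 1<|e 0<|f))<|h (g 1413 (e 0<|e 1<|e 2<|e 3<|e 1<|
 e 2<|e 0<|e 1<|e 2<|e 3<|e 1<|e 2<|e 0<|e 1<|e 2<|e 0<|e 1<|f))<|i)));
 (let i:=(let i:=(h (g 1345 (e 3<|e 1<|e 2<|e 0<|e 1<|e 2<|e 3<|e 2<|e 0<|e 1<|e 2<|e 0<|e 1<|e 0<|f))<|h (g 1347 (e 1<|e 2<|e 3<|e 2<|e 0<|e 1<|e 2<|e 0<|e 1<|f))<|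
 h (g 1353 (e 3<|e 1<|e 2<|e 0<|e 1<|e 0<|f))<|h (g 1357 (e 3<|e 1<|e 2<|e 0<|e 1<|e 2<|e 3<|e 1<|e 2<|e 0<|e 1<|e 2<|e 0<|e 1<|e 0<|f))<|h (g 1369 (e 0<|e 1<|e 2<|e 3<|e 2<|e 0<|e 1<|e 2<|
 e 0<|e 1<|f))<|h (g 1370 (e 3<|e 0<|e 1<|e 2<|e 0<|e 1<|e 0<|f))<|i);
 (h (g 1283 (e 2<|e 3<|e 2<|e 1<|
 e 2<|e 0<|e 1<|e 2<|e 3<|e 2<|e 0<|e 1<|e 2<|e 0<|e 1<|f))<|h (g 1284 (e 3<|e 2<|e 1<|e 2<|e 3<|e 2<|e 0<|e 1<|e 2<|e 0<|e 1<|e 0<|f))<|h (g 1296 (e 2<|e 3<|e 2<|e 1<|e 2<|e 0<|e 1<|f))<|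
 h (g 1300 (e 2<|e 3<|e 2<|e 1<|e 2<|e 0<|e 1<|e 2<|e 3<|e 1<|e 2<|e 0<|e 1<|e 2<|e 0<|e 1<|f))<|h (g 1306 (e 3<|e 2<|e 0<|e 1<|e 2<|e 3<|e 2<|e 0<|e 1<|e 2<|e 0<|e 1<|e 0<|f))<|h (g 1308
 (e 2<|e 3<|e 2<|e 0<|e 1<|e 2<|e 0<|e 1<|f))<|i));
 (let i:=(h (g 1235 (e 0<|e 1<|e 2<|e 3<|e 2<|e 1<|e 2<|e 0<|e 1<|f))<|
 h (g 1236 (e 3<|e 0<|e 1<|e 2<|e 1<|e 0<|f))<|h (g 1254 (e 1<|e 2<|e 3<|e 2<|e 1<|e 2<|e 0<|e 1<|e 2<|e 3<|e 1<|e 2<|e 0<|e 1<|e 2<|e 0<|e 1<|f))<|h (g 1257 (e 1<|e 2<|e 3<|e 2<|e 1<|e 2<|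
 e 0<|e 1<|f))<|h (g 1263 (e 3<|e 1<|e 2<|e 1<|e 0<|f))<|h (g 1266 (e 0<|e 1<|e 2<|e 3<|e 2<|e 1<|e 2<|e 0<|e 1<|e 2<|e 3<|e 1<|e 2<|e 0<|e 1<|e 2<|e 0<|e 1<|f))<|i);
 (h (g 1044 (e 3<|e 2<|e 1<|e 0<|f))<|h (g 1047 (e 0<|e 1<|e 2<|e 3<|e 2<|e 1<|e 2<|e 0<|e 1<|e 2<|e 3<|e 2<|e 0<|e 1<|e 2<|
 e 0<|e 1<|f))<|h (g 1053 (e 3<|e 2<|e 0<|e 1<|e 2<|e 3<|e 1<|e 2<|e 0<|e 1<|e 2<|e 0<|e 1<|e 0<|f))<|h (g 1056 (e 3<|e 2<|e 0<|e 1<|e 0<|f))<|h (g 1074 (e 1<|e 2<|e 3<|e 2<|e 1<|e 2<|e 0<|e 1<|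
 e 2<|e 3<|e 2<|e 0<|e 1<|e 2<|e 0<|e 1<|f))<|h (g 1075 (e 3<|e 2<|e 1<|e 2<|e 3<|e 1<|e 2<|e 0<|e 1<|e 2<|e 0<|e 1<|e 0<|f))<|i)))));
 (let i:=(let i:=(let i:=(let i:=(h (g 940 (e 2<|e 1<|f))<|h (g 942 (e 0<|e 1<|e 2<|e 3<|e 1<|e 2<|e 0<|e 1<|e 2<|e 3<|e 2<|e 0<|e 1<|e 2<|e 0<|e 1<|e 0<|f))<|h (g 954
 (e 2<|e 0<|e 1<|e 2<|e 3<|e 1<|e 2<|e 0<|e 1<|e 2<|e 0<|e 1<|f))<|h (g 957 (e 2<|e 0<|e 1<|f))<|h (g 969 (e 1<|e 2<|e 3<|e 1<|e 2<|e 0<|e 1<|e 2<|e 3<|e 2<|e 0<|e 1<|e 2<|e 0<|e 1<|e 0<|f))<|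
 h (g 971 (e 2<|e 1<|e 2<|e 3<|e 1<|e 2<|e 0<|e 1<|e 2<|e 0<|e 1<|f))<|i);
 (h (g 898 (e 1<|e 2<|e 0<|e 1<|e 2<|e 3<|e 2<|e 0<|e 1<|e 2<|e 0<|e 1<|f))<|h (g 899 (e 1<|e 2<|e 3<|
 e 0<|e 1<|e 2<|e 0<|e 1<|e 0<|f))<|h (g 911 (e 1<|e 2<|e 0<|e 1<|f))<|h (g 915 (e 1<|e 2<|e 0<|e 1<|e 2<|e 3<|e 1<|e 2<|e 0<|e 1<|e 2<|e 0<|e 1<|f))<|h (g 921 (e 0<|e 1<|e 2<|e 3<|e 0<|e 1<|e 2<|
 e 0<|e 1<|e 0<|f))<|h (g 923 (e 0<|e 1<|e 2<|e 0<|e 1<|f))<|i));
 (let i:=(h (g 750 (e 2<|e 3<|e 1<|e 2<|e 0<|e 1<|e 2<|e 3<|e 2<|e 0<|e 1<|e 2<|e 0<|e 1<|e 0<|f))<|h (g 752 (e 2<|e 1<|e 2<|e 3<|e 2<|e 0<|e 1<|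
 e 2<|e 0<|e 1<|f))<|h (g 758 (e 2<|e 3<|e 1<|e 2<|e 0<|e 1<|e 0<|f))<|h (g 762 (e 2<|e 3<|e 1<|e 2<|e 0<|e 1<|e 2<|e 3<|e 1<|e 2<|e 0<|e 1<|e 2<|e 0<|e 1<|e 0<|f))<|h (g 774 (e 2<|e 0<|e 1<|e 2<|
 e 3<|e 2<|e 0<|e 1<|e 2<|e 0<|e 1<|f))<|h (g 775 (e 2<|e 3<|e 0<|e 1<|e 2<|e 0<|e 1<|e 0<|f))<|i);
 (h (g 702 (e 0<|e 1<|e 2<|e 3<|e 1<|e 2<|e 0<|e 1<|e 0<|f))<|h (g 704 (e 0<|e 1<|e 2<|e 1<|f))<|h (g 716 (e 1<|e 2<|e 3<|e 1<|e 2<|
 e 0<|e 1<|e 2<|e 3<|e 1<|e 2<|e 0<|e 1<|e 2<|e 0<|e 1<|e 0<|f))<|h (g 719 (e 1<|e 2<|e 3<|e 1<|e 2<|e 0<|e 1<|e 0<|f))<|h (g 731 (e 1<|e 2<|e 1<|f))<|h (g 733 (e 0<|e 1<|e 2<|e 3<|e 1<|e 2<|e 0<|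
 e 1<|e 2<|e 3<|e 1<|e 2<|e 0<|e 1<|e 2<|e 0<|e 1<|e 0<|f))<|i)));
 (let i:=(let i:=(h (g 666 (e 3<|e 1<|e 2<|e 0<|e 1<|e 2<|e 3<|e 0<|e 1<|e 2<|e 1<|e 0<|f))<|h (g 667 (e 3<|e 1<|e 2<|e 0<|e 1<|e 2<|e 3<|e 0<|e 1<|e 2<|e 1<|f))<|h (g 673 (e 3<|e 1<|
 e 2<|e 0<|e 1<|e 2<|e 0<|e 1<|f))<|h (g 678 (e 3<|e 1<|e 2<|e 0<|e 1<|e 2<|e 3<|e 0<|e 1<|e 2<|e 0<|e 1<|e 0<|f))<|h (g 684 (e 3<|e 1<|e 2<|e 0<|e 1<|e 2<|e 3<|e 0<|e 1<|e 2<|e 0<|e 1<|f))<|
 h (g 685 (e 3<|e 1<|e 2<|e 0<|e 1<|e 2<|e 0<|e 1<|e 0<|f))<|i);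
 (h (g 550
 (e 3<|e 2<|e 0<|e 1<|e 2<|e 3<|e 0<|e 1<|e 2<|e 0<|e 1<|f))<|h (g 551 (e 3<|e 2<|e 0<|e 1<|e 2<|e 0<|e 1<|e 0<|f))<|h (g 575 (e 3<|e 2<|e 1<|e 2<|e 0<|e 1<|e 2<|e 3<|e 2<|e 0<|e 1<|e 2<|e 0<|
 e 1<|e 0<|f))<|h (g 577 (e 3<|e 2<|e 1<|e 2<|e 3<|e 0<|e 1<|e 2<|e 0<|e 1<|f))<|h (g 583 (e 3<|e 2<|e 1<|e 2<|e 0<|e 1<|e 0<|f))<|h (g 587 (e 3<|e 2<|e 1<|e 2<|e 0<|e 1<|e 2<|e 3<|e 1<|e 2<|e 0<|
 e 1<|e 2<|e 0<|e 1<|e 0<|f))<|i));
 (let i:=(h (g 449 (e 3<|e 2<|e 1<|e 2<|e 0<|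
 e 1<|f))<|h (g 453 (e 3<|e 2<|e 1<|e 2<|e 0<|e 1<|e 2<|e 3<|e 1<|e 2<|e 0<|e 1<|e 2<|e 0<|e 1<|f))<|h (g 459 (e 3<|e 2<|e 0<|e 1<|e 2<|e 3<|e 0<|e 1<|e 2<|e 0<|e 1<|e 0<|f))<|h (g 461 (e 3<|e 2<|
 e 0<|e 1<|e 2<|e 0<|e 1<|f))<|h (g 485 (e 3<|e 2<|e 1<|e 2<|e 0<|e 1<|e 2<|e 3<|e 2<|e 0<|e 1<|e 2<|e 0<|e 1<|f))<|h (g 486 (e 3<|e 2<|e 1<|e 2<|e 3<|e 0<|e 1<|e 2<|e 0<|e 1<|e 0<|f))<|i);
 (h (g 351 (e 3<|e 2<|e 1<|e 2<|e 0<|e 1<|e 2<|e 3<|e 2<|e 1<|e 2<|e 0<|e 1<|f))<|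
 h (g 352 (e 3<|e 2<|e 1<|e 2<|e 3<|e 0<|e 1<|e 2<|e 1<|e 0<|f))<|h (g 358 (e 3<|e 2<|e 1<|e 2<|e 3<|e 0<|e 1<|e 2<|e 1<|f))<|h (g 363 (e 3<|e 2<|e 1<|e 2<|e 0<|e 1<|e 2<|e 3<|e 2<|e 1<|e 2<|
 e 0<|e 1<|e 0<|f))<|h (g 369 (e 3<|e 2<|e 0<|e 1<|e 2<|e 3<|e 0<|e 1<|e 2<|e 1<|e 0<|f))<|h (g 370 (e 3<|e 2<|e 0<|e 1<|e 2<|e 3<|e 0<|e 1<|e 2<|e 1<|f))<|i))));
 (let i:=(let i:=(let i:=(h (g 309 (e 1<|e 2<|e 0<|e 1<|e 2<|e 3<|e 2<|e 1<|e 2<|e 0<|
 e 1<|f))<|h (g 310 (e 1<|e 2<|e 3<|e 0<|e 1<|e 2<|e 1<|e 0<|f))<|h (g 316 (e 1<|e 2<|e 3<|e 0<|e 1<|e 2<|e 1<|f))<|h (g 321 (e 1<|e 2<|e 0<|e 1<|e 2<|e 3<|e 2<|e 1<|e 2<|e 0<|e 1<|e 0<|f))<|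
 h (g 327 (e 0<|e 1<|e 2<|e 3<|e 0<|e 1<|e 2<|e 1<|e 0<|f))<|h (g 328 (e 0<|e 1<|e 2<|e 3<|e 0<|e 1<|e 2<|e 1<|f))<|i);
 (h (g 255 (e 2<|e 3<|e 1<|e 2<|e 1<|f))<|h (g 257 (e 2<|e 0<|e 1<|e 2<|e 3<|e 2<|e 1<|e 2<|e 0<|e 1<|e 2<|e 3<|e 1<|
 e 2<|e 0<|e 1<|e 2<|e 0<|e 1<|e 0<|f))<|h (g 275 (e 2<|e 0<|e 1<|e 2<|e 3<|e 2<|e 1<|e 2<|e 0<|e 1<|e 0<|f))<|h (g 277 (e 2<|e 3<|e 0<|e 1<|e 2<|e 1<|f))<|h (g 289 (e 2<|e 1<|e 2<|e 3<|e 2<|e 1<|
 e 2<|e 0<|e 1<|e 2<|e 3<|e 1<|e 2<|e 0<|e 1<|e 2<|e 0<|e 1<|e 0<|f))<|h (g 292 (e 2<|e 1<|e 2<|e 3<|e 2<|e 1<|e 2<|e 0<|e 1<|e 0<|f))<|i));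
 (let i:=(h (g 213 (e 1<|e 2<|e 3<|e 1<|e 2<|e 0<|e 1<|e 2<|e 3<|e 0<|e 1<|e 2<|e 0<|e 1<|f))<|h (g 214 (e 1<|
 e 2<|e 3<|e 1<|e 2<|e 0<|e 1<|e 2<|e 0<|e 1<|e 0<|f))<|h (g 232 (e 1<|e 0<|f))<|h (g 235 (e 0<|e 1<|e 2<|e 3<|e 1<|e 2<|e 0<|e 1<|e 2<|e 3<|e 0<|e 1<|e 2<|e 0<|e 1<|f))<|h (g 241 (e 0<|e 1<|e 2<|
 e 3<|e 1<|e 2<|e 0<|e 1<|e 2<|e 0<|e 1<|e 0<|f))<|h (g 244 (e 0<|e 1<|e 0<|f))<|i);
 (h (g 155 (e 2<|e 1<|e 2<|e 3<|e 2<|e 1<|e 2<|e 0<|e 1<|e 2<|e 3<|e 1<|e 2<|e 0<|e 1<|e 2<|e 0<|e 1<|f))<|h (g 158 (e 2<|e 1<|e 2<|e 3<|e 2<|e 1<|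
 e 2<|e 0<|e 1<|f))<|h (g 164 (e 2<|e 3<|e 1<|e 2<|e 1<|e 0<|f))<|h (g 167 (e 2<|e 0<|e 1<|e 2<|e 3<|e 2<|e 1<|e 2<|e 0<|e 1<|e 2<|e 3<|e 1<|e 2<|e 0<|e 1<|e 2<|e 0<|e 1<|f))<|h (g 185 (e 2<|e 0<|
 e 1<|e 2<|e 3<|e 2<|e 1<|e 2<|e 0<|e 1<|f))<|h (g 186 (e 2<|e 3<|e 0<|e 1<|e 2<|e 1<|e 0<|f))<|i)));
 (let i:=(let i:=(h (g 107 (e 0<|e 1<|e 2<|e 3<|e 1<|e 2<|e 0<|e 1<|e 2<|e 0<|e 1<|f))<|h (g 110 (e 0<|e 1<|f))<|h (g 122 (e 1<|e 2<|e 3<|
 e 1<|e 2<|e 0<|e 1<|e 2<|e 3<|e 0<|e 1<|e 2<|e 0<|e 1<|e 0<|f))<|h (g 124 (e 1<|e 2<|e 3<|e 1<|e 2<|e 0<|e 1<|e 2<|e 0<|e 1<|f))<|h (g 142 (e 1<|f))<|h (g 144 (e 0<|e 1<|e 2<|e 3<|e 1<|e 2<|e 0<|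
 e 1<|e 2<|e 3<|e 0<|e 1<|e 2<|e 0<|e 1<|e 0<|f))<|i);
 (h (g 71 (e 2<|e 3<|e 1<|e 2<|e 0<|e 1<|e 2<|e 3<|e 0<|e 1<|e 2<|e 1<|e 0<|f))<|h (g 72 (e 2<|e 3<|e 1<|e 2<|e 0<|e 1<|e 2<|e 3<|e 0<|e 1<|e 2<|e 1<|f))<|h (g 78 (e 2<|e 3<|
 e 1<|e 2<|e 0<|e 1<|e 2<|e 0<|e 1<|f))<|h (g 83 (e 2<|e 3<|e 1<|e 2<|e 0<|e 1<|e 2<|e 3<|e 0<|e 1<|e 2<|e 0<|e 1<|e 0<|f))<|h (g 89 (e 2<|e 3<|e 1<|e 2<|e 0<|e 1<|e 2<|e 3<|e 0<|e 1<|e 2<|e 0<|
 e 1<|f))<|h (g 90 (e 2<|e 3<|e 1<|e 2<|e 0<|e 1<|e 2<|e 0<|e 1<|e 0<|f))<|i));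
 (let i:=(h (g 32 (e 1<|e 2<|e 3<|e 1<|e 2<|e 0<|e 1<|e 2<|e 3<|e 0<|e 1<|e 2<|e 1<|
 e 0<|f))<|h (g 33 (e 1<|e 2<|e 3<|e 1<|e 2<|e 0<|e 1<|e 2<|e 3<|e 0<|e 1<|e 2<|e 1<|f))<|h (g 36 (e 1<|e 2<|e 0<|e 1<|e 2<|e 3<|e 2<|e 1<|e 2<|e 0<|e 1<|e 2<|e 3<|e 1<|e 2<|e 0<|e 1<|e 2<|e 0<|
 e 1<|f))<|h (g 40 (e 1<|e 2<|e 3<|e 1<|e 2<|e 1<|e 0<|f))<|h (g 46 (e 1<|e 2<|e 3<|e 1<|e 2<|e 1<|f))<|h (g 48 (e 1<|e 2<|e 0<|e 1<|e 2<|e 3<|e 2<|e 1<|e 2<|e 0<|e 1<|e 2<|e 3<|e 1<|e 2<|e 0<|e 1<|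
 e 2<|e 0<|e 1<|e 0<|f))<|i);
 (e (g 8 f)<|e (g 10 (e 0<|e 1<|e 2<|e 3<|e 1<|e 2<|e 0<|e 1<|e 2<|e 3<|e 0<|e 1<|e 2<|e 1<|e 0<|f))<|e (g 16 (e 0<|e 1<|e 2<|e 3<|e 1<|e 2<|e 0<|e 1<|e 2<|e 3<|e 0<|e 1<|e 2<|e 1<|f))<|
 e (g 20 (e 0<|f))<|e (g 23 (e 0<|e 1<|e 2<|e 3<|e 1<|e 2<|e 1<|e 0<|f))<|e (g 24 (e 0<|e 1<|e 2<|e 3<|e 1<|e 2<|e 1<|f))<|i)))))))

private noncomputable def _root_.Cfsg.Agent.KO926c3f9.k0 : ((x0 : Prop) → ((@Decidable @x0) → @Bool)) := @(fun (x0 : Prop) (x1 : @Decidable @x0) => @Decidable.rec.{1} @x0 @(fun (x2 : @Decidable @x0) => @Bool) @(fun (x2 : @Not @x0) => @Bool.false) @(fun (x2 : x0) => @Bool.true) @x1)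
private theorem _root_.Cfsg.Agent.KO926c3f9.e0 : @Decidable.decide = @_root_.Cfsg.Agent.KO926c3f9.k0 := by delta _root_.Cfsg.Agent.KO926c3f9.k0; rfl'
private noncomputable def _root_.Cfsg.Agent.KO926c3f9.k1 : (by first | exact type_of% @Cfsg.Agent.H938.EPK.F4W.dg | exact Unit : Sort _) := by first | (refine @Subtype.val _ (fun g => @Cfsg.Agent.H938.EPK.F4W.dg = @g) (@Subtype.mk _ _ (@(fun (x0 : @Nat) (x1 : @Nat) => @Nat.mod (@Nat.div @x0 (@Nat.pow (nat_lit 7) @x1)) (nat_lit 7))) ?_); rfl') | exact @Cfsg.Agent.H938.EPK.F4W.dg | exact ()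
private theorem _root_.Cfsg.Agent.KO926c3f9.e1 : (by first | exact @Cfsg.Agent.H938.EPK.F4W.dg = @_root_.Cfsg.Agent.KO926c3f9.k1 | exact True : Prop) := by first | (delta _root_.Cfsg.Agent.KO926c3f9.k1; exact @Subtype.property _ (fun g => @Cfsg.Agent.H938.EPK.F4W.dg = @g) _) | rfl | trivial
private noncomputable def _root_.Cfsg.Agent.KO926c3f9.k3 : (by first | exact type_of% @Cfsg.Agent.H938.EPK.F4W.mk4 | exact Unit : Sort _) := by first | (refine @Subtype.val _ (fun g => @Cfsg.Agent.H938.EPK.F4W.mk4 = @g) (@Subtype.mk _ _ (@(fun (x0 : @Nat) (x1 : @Nat) (x2 : @Nat) (x3 : @Nat) => @Nat.add (@Nat.add (@Nat.add @x0 (@Nat.mul @x1 (nat_lit 7))) (@Nat.mul @x2 (nat_lit 49))) (@Nat.mul @x3 (nat_lit 343)))) ?_); rfl') | exact @Cfsg.Agent.H938.EPK.F4W.mk4 | exact ()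
private theorem _root_.Cfsg.Agent.KO926c3f9.e3 : (by first | exact @Cfsg.Agent.H938.EPK.F4W.mk4 = @_root_.Cfsg.Agent.KO926c3f9.k3 | exact True : Prop) := by first | (delta _root_.Cfsg.Agent.KO926c3f9.k3; exact @Subtype.property _ (fun g => @Cfsg.Agent.H938.EPK.F4W.mk4 = @g) _) | rfl | trivial
private theorem _root_.Cfsg.Agent.KO926c3f9.e4.{ku, kv} {α : Type kv} {M : List α → Sort ku} (φ : ∀ l, M l) {z : M List.nil} {s : ∀ a l, M l → M (List.cons a l)} (h0 : φ List.nil = z) (hs : ∀ a l, φ (List.cons a l) = s a l (φ l)) (l : List α) : φ l = @List.rec α M z s l := List.rec h0 (fun a l ih => (hs a l).trans (congrArg (s a l) ih)) l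
private noncomputable def _root_.Cfsg.Agent.KO926c3f9.k6.{ku0} : ((x0 : Sort (ku0+1)) → ((@List.{ku0} @x0) → (@Nat → @Option.{ku0} @x0))) := @(fun (x0 : Sort (ku0+1)) (x1 : @List.{ku0} @x0) (x2 : @Nat) => @List.rec.{(ku0+1), ku0} @x0 @(fun (x3 : @List.{ku0} @x0) => (@Nat → @Option.{ku0} @x0)) @(fun (x3 : @Nat) => @Option.none.{ku0} @x0) @(fun (x3 : x0) (x4 : @List.{ku0} @x0) (x5 : (@Nat → @Option.{ku0} @x0)) (x6 : @Nat) => @Nat.rec.{(ku0+1)} @(fun (x7 : @Nat) => @Option.{ku0} @x0) (@Option.some.{ku0} @x0 @x3) @(fun (x7 : @Nat) (x8 : @Option.{ku0} @x0) => @x5 @x7) @x6) @x1 @x2)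
private theorem _root_.Cfsg.Agent.KO926c3f9.e6.{ku0} : @List.get?Internal.{ku0} = @_root_.Cfsg.Agent.KO926c3f9.k6.{ku0} := by delta _root_.Cfsg.Agent.KO926c3f9.k6; funext a0 a1 a2; refine (congrFun (_root_.Cfsg.Agent.KO926c3f9.e4 (fun a1 a2 => @List.get?Internal.{ku0} a0 a1 a2) ?_ (fun c0 c1 => ?_) a1) a2 :) <;> [(funext b0; (rfl')); (funext b0; (cases b0 with | @zero  => (rfl') | @succ b0_0 => (rfl')))]
private noncomputable def _root_.Cfsg.Agent.KO926c3f9.k7 : (by first | exact type_of% @Cfsg.Agent.H938.EPK.F4W.rs | exact Unit : Sort _) := by first | (refine @Subtype.val _ (fun g => @Cfsg.Agent.H938.EPK.F4W.rs = @g) (@Subtype.mk _ _ (@(fun (x0 : @Nat) (x1 : @Nat) => @Cfsg.Agent.KO926c3f9.k3 (@Nat.mod (@Nat.add (@Cfsg.Agent.KO926c3f9.k1 @x1 (nat_lit 0)) (@Nat.mul (@Option.rec.{1, 0} @Nat @(fun (x2 : @Option.{0} @Nat) => @Nat) (nat_lit 0) @(fun (x2 : @Nat) => x2) (@Cfsg.Agent.KO926c3f9.k6.{0} @Nat (@Option.rec.{1, 0} (@List.{0}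 @Nat) @(fun (x2 : @Option.{0} (@List.{0} @Nat)) => @List.{0} @Nat) (@List.nil.{0} @Nat) @(fun (x2 : @List.{0} @Nat) => x2) (@Cfsg.Agent.KO926c3f9.k6.{0} (@List.{0} @Nat) @Cfsg.Agent.H938.EPK.F4W.mt @x0)) (nat_lit 0))) (@Cfsg.Agent.KO926c3f9.k1 @x1 @x0))) (nat_lit 7)) (@Nat.mod (@Nat.add (@Cfsg.Agent.KO926c3f9.k1 @x1 (nat_lit 1)) (@Nat.mul (@Option.rec.{1, 0} @Nat @(fun (x2 : @Option.{0} @Nat) => @Nat) (nat_lit 0) @(fun (x2 : @Nat) => x2) (@Cfsg.Agent.KO926c3f9.k6.{0} @Nat (@Option.rec.{1, 0} (@List.{0} @Nat) @(fun (x2 : @Option.{0} (@List.{0} @Nat)) => @List.{0} @Nat) (@List.nil.{0} @Nat) @(fun (x2 : @List.{0} @Nat) => x2) (@Cfsg.Agent.KO926c3f9.k6.{0} (@List.{0} @Nat) @Cfsg.Agent.H938.EPK.F4W.mt @x0)) (nat_lit 1))) (@Cfsg.Agent.KO926c3f9.k1 @x1 @x0))) (nat_lit 7)) (@Nat.mod (@Nat.add (@Cfsg.Agent.KO926c3f9.k1 @x1 (nat_lit 2)) (@Nat.mul (@Option.rec.{1, 0} @Nat @(fun (x2 : @Option.{0} @Nat) => @Nat) (nat_lit 0) @(fun (x2 : @Nat)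 => x2) (@Cfsg.Agent.KO926c3f9.k6.{0} @Nat (@Option.rec.{1, 0} (@List.{0} @Nat) @(fun (x2 : @Option.{0} (@List.{0} @Nat)) => @List.{0} @Nat) (@List.nil.{0} @Nat) @(fun (x2 : @List.{0} @Nat) => x2) (@Cfsg.Agent.KO926c3f9.k6.{0} (@List.{0} @Nat) @Cfsg.Agent.H938.EPK.F4W.mt @x0)) (nat_lit 2))) (@Cfsg.Agent.KO926c3f9.k1 @x1 @x0))) (nat_lit 7)) (@Nat.mod (@Nat.add (@Cfsg.Agent.KO926c3f9.k1 @x1 (nat_lit 3)) (@Nat.mul (@Option.rec.{1, 0} @Nat @(fun (x2 : @Option.{0} @Nat) => @Nat) (nat_lit 0) @(fun (x2 : @Nat) => x2) (@Cfsg.Agent.KO926c3f9.k6.{0} @Nat (@Option.rec.{1, 0} (@List.{0} @Nat) @(fun (x2 : @Option.{0} (@List.{0} @Nat)) => @List.{0} @Nat) (@List.nil.{0} @Nat) @(fun (x2 : @List.{0} @Nat) => x2) (@Cfsg.Agent.KO926c3f9.k6.{0} (@List.{0} @Nat) @Cfsg.Agent.H938.EPK.F4W.mt @x0)) (nat_lit 3))) (@Cfsg.Agent.KO926c3f9.k1 @x1 @x0))) (nat_lit 7)))) ?_); rewrite [← Cfsg.Agent.KO926c3f9.e3, ← Cfsg.Agent.KO926c3f9.e1, ← Cfsg.Agent.KO926c3f9.e6.{0}];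 (try delta Cfsg.Agent.H938.EPK.F4W.rs Cfsg.Agent.H938.EPK.F4W.mm); (try generalize @Cfsg.Agent.H938.EPK.F4W.mk4 = g0); (try generalize @Cfsg.Agent.H938.EPK.F4W.dg = g1); (try generalize @Cfsg.Agent.H938.EPK.F4W.mt = g2); rfl') | exact @Cfsg.Agent.H938.EPK.F4W.rs | exact ()
private theorem _root_.Cfsg.Agent.KO926c3f9.e7 : (by first | exact @Cfsg.Agent.H938.EPK.F4W.rs = @_root_.Cfsg.Agent.KO926c3f9.k7 | exact True : Prop) := by first | (delta _root_.Cfsg.Agent.KO926c3f9.k7; exact @Subtype.property _ (fun g => @Cfsg.Agent.H938.EPK.F4W.rs = @g) _) | rfl | trivial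
private noncomputable def _root_.Cfsg.Agent.KO926c3f9.k9 : ((x0 : @Nat) → ((x1 : @Nat) → @Decidable (@Eq.{1} @Nat @x0 @x1))) := @(fun (x0 : @Nat) (x1 : @Nat) => @Bool.rec.{1} @(fun (x2 : @Bool) => ((@Eq.{1} @Bool (@Nat.beq @x0 @x1) @x2) → @Decidable (@Eq.{1} @Nat @x0 @x1))) @(fun (x2 : @Eq.{1} @Bool (@Nat.beq @x0 @x1) @Bool.false) => @Decidable.isFalse (@Eq.{1} @Nat @x0 @x1) (@Nat.ne_of_beq_eq_false @x0 @x1 @x2)) @(fun (x2 : @Eq.{1} @Bool (@Nat.beq @x0 @x1) @Bool.true) => @Decidable.isTrue (@Eq.{1} @Nat @x0 @x1) (@Nat.eq_of_beq_eq_true @x0 @x1 @x2)) (@Nat.beq @x0 @x1) (@Eq.refl.{1} @Bool (@Nat.beq @x0 @x1)))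
private theorem _root_.Cfsg.Agent.KO926c3f9.e9 : @Nat.decEq = @_root_.Cfsg.Agent.KO926c3f9.k9 := by delta _root_.Cfsg.Agent.KO926c3f9.k9; rfl'
private noncomputable def _root_.Cfsg.Agent.KO926c3f9.k10 : @DecidableEq.{1} @Nat := @Cfsg.Agent.KO926c3f9.k9
private theorem _root_.Cfsg.Agent.KO926c3f9.e10 : @instDecidableEqNat = @_root_.Cfsg.Agent.KO926c3f9.k10 := by delta _root_.Cfsg.Agent.KO926c3f9.k10; rewrite [← Cfsg.Agent.KO926c3f9.e9]; rfl'
private noncomputable def _root_.Cfsg.Agent.KO926c3f9.k12 : ((x0 : Prop) → ((x1 : Prop) → ((@Decidable @x0) → ((@Decidable @x1) → @Decidable (@And @x0 @x1))))) := @(fun (x0 : Prop) (x1 : Prop) (x2 : @Decidable @x0) (x3 : @Decidable @x1) => @Decidable.rec.{1} @x0 @(fun (x4 : @Decidable @x0) => @Decidable (@And @x0 @x1)) @(fun (x4 : @Not @x0) => @Decidable.isFalse (@And @x0 @x1) (@instDecidableAnd._proof_2 @x0 @x1 @x4)) @(fun (x4 : x0) => @Decidable.rec.{1} @x1 @(fun (x5 : @Decidable @x1) =>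 @Decidable (@And @x0 @x1)) @(fun (x5 : @Not @x1) => @Decidable.isFalse (@And @x0 @x1) (@instDecidableAnd._proof_1 @x0 @x1 @x5)) @(fun (x5 : x1) => @Decidable.isTrue (@And @x0 @x1) (@And.intro @x0 @x1 @x4 @x5)) @x3) @x2)
private theorem _root_.Cfsg.Agent.KO926c3f9.e12 : @instDecidableAnd = @_root_.Cfsg.Agent.KO926c3f9.k12 := by delta _root_.Cfsg.Agent.KO926c3f9.k12; rfl'
private noncomputable def _root_.Cfsg.Agent.KO926c3f9.k13 : (by first | exact type_of% @Cfsg.Agent.H938.EPK.F4W.aw | exact Unit : Sort _) := by first | (refine @Subtype.val _ (fun g => @Cfsg.Agent.H938.EPK.F4W.aw = @g) (@Subtype.mk _ _ (@(fun (x0 : @List.{0} (@Fin (@OfNat.ofNat.{0} @Nat (nat_lit 4) (@instOfNatNat (nat_lit 4))))) (x1 : @Nat) => @List.rec.{1, 0} (@Fin (@OfNat.ofNat.{0} @Nat (nat_lit 4) (@instOfNatNat (nat_lit 4)))) @(fun (x2 : @List.{0} (@Fin (@OfNat.ofNat.{0} @Nat (nat_lit 4) (@instOfNatNat (nat_lit 4))))) => (@Nat → @Nat)) @(fun (x2 : @Nat) =>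 x2) @(fun (x2 : @Fin (@OfNat.ofNat.{0} @Nat (nat_lit 4) (@instOfNatNat (nat_lit 4)))) (x3 : @List.{0} (@Fin (@OfNat.ofNat.{0} @Nat (nat_lit 4) (@instOfNatNat (nat_lit 4))))) (x4 : (@Nat → @Nat)) (x5 : @Nat) => @x4 (@Cfsg.Agent.KO926c3f9.k7 (@Fin.val (nat_lit 4) @x2) @x5)) @x0 @x1)) ?_); rewrite [← Cfsg.Agent.KO926c3f9.e7]; funext a0 a1; refine (congrFun (_root_.Cfsg.Agent.KO926c3f9.e4 (fun a0 a1 => @Cfsg.Agent.H938.EPK.F4W.aw a0 a1) ?_ (fun c0 c1 => ?_) a0) a1 :) <;> ((try delta Cfsg.Agent.H938.EPK.F4W.aw Cfsg.Agent.H938.EPK.F4W.aw._f); (try generalize @Cfsg.Agent.H938.EPK.F4W.rs = g0); rfl')) | exact @Cfsg.Agent.H938.EPK.F4W.aw | exact ()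
private theorem _root_.Cfsg.Agent.KO926c3f9.e13 : (by first | exact @Cfsg.Agent.H938.EPK.F4W.aw = @_root_.Cfsg.Agent.KO926c3f9.k13 | exact True : Prop) := by first | (delta _root_.Cfsg.Agent.KO926c3f9.k13; exact @Subtype.property _ (fun g => @Cfsg.Agent.H938.EPK.F4W.aw = @g) _) | rfl | trivial
private noncomputable def _root_.Cfsg.Agent.KO926c3f9.k14.{ku0} : ((x0 : Sort (ku0+1)) → ((x1 : (x0 → Prop)) → ((@DecidablePred.{(ku0+1)} @x0 @x1) → ((x3 : @List.{ku0} @x0) → @Decidable ((x4 : x0) → ((@Membership.mem.{ku0, ku0} @x0 (@List.{ku0} @x0) (@List.instMembership.{ku0} @x0) @x3 @x4) → @x1 @x4)))))) := @(fun (x0 : Sort (ku0+1)) (x1 : (x0 → Prop)) (x2 : @DecidablePred.{(ku0+1)} @x0 @x1) (x3 : @List.{ku0} @x0) => @List.rec.{1, ku0} @x0 @(fun (x4 : @List.{ku0} @x0) => @Decidable ((x5 : x0) → ((@Membership.mem.{ku0, ku0} @x0 (@List.{ku0} @x0) (@List.instMembership.{ku0} @x0) @x4 @x5) → @x1 @x5))) (@Decidable.isTrue ((x4 : x0) → ((@Membership.mem.{ku0,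 ku0} @x0 (@List.{ku0} @x0) (@List.instMembership.{ku0} @x0) (@List.nil.{ku0} @x0) @x4) → @x1 @x4)) (@List.decidableBAll._proof_1.{ku0} @x0 @x1)) @(fun (x4 : x0) (x5 : @List.{ku0} @x0) (x6 : @Decidable ((x6 : x0) → ((@Membership.mem.{ku0, ku0} @x0 (@List.{ku0} @x0) (@List.instMembership.{ku0} @x0) @x5 @x6) → @x1 @x6))) => @Decidable.rec.{1} (@x1 @x4) @(fun (x7 : @Decidable (@x1 @x4)) => @Decidable ((x8 : x0) → ((@Membership.mem.{ku0, ku0} @x0 (@List.{ku0} @x0) (@List.instMembership.{ku0} @x0) (@List.cons.{ku0} @x0 @x4 @x5) @x8) → @x1 @x8))) @(fun (x7 : @Not (@x1 @x4)) => @Decidable.isFalse ((x8 : x0) → ((@Membership.mem.{ku0, ku0} @x0 (@List.{ku0} @x0) (@List.instMembership.{ku0} @x0) (@List.cons.{ku0} @x0 @x4 @x5) @x8) → @x1 @x8)) (@List.decidableBAll._proof_4.{ku0} @x0 @x1 @x4 @x5 @x7)) @(fun (x7 : @x1 @x4) => @Decidable.rec.{1} ((x8 : x0) → ((@Membership.mem.{ku0, ku0} @x0 (@List.{ku0} @x0) (@List.instMembership.{ku0} @x0) @x5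 @x8) → @x1 @x8)) @(fun (x8 : @Decidable ((x8 : x0) → ((@Membership.mem.{ku0, ku0} @x0 (@List.{ku0} @x0) (@List.instMembership.{ku0} @x0) @x5 @x8) → @x1 @x8))) => @Decidable ((x9 : x0) → ((@Membership.mem.{ku0, ku0} @x0 (@List.{ku0} @x0) (@List.instMembership.{ku0} @x0) (@List.cons.{ku0} @x0 @x4 @x5) @x9) → @x1 @x9))) @(fun (x8 : @Not ((x8 : x0) → ((@Membership.mem.{ku0, ku0} @x0 (@List.{ku0} @x0) (@List.instMembership.{ku0} @x0) @x5 @x8) → @x1 @x8))) => @Decidable.isFalse ((x9 : x0) → ((@Membership.mem.{ku0, ku0} @x0 (@List.{ku0} @x0) (@List.instMembership.{ku0} @x0) (@List.cons.{ku0} @x0 @x4 @x5) @x9) → @x1 @x9)) (@List.decidableBAll._proof_3.{ku0} @x0 @x1 @x4 @x5 @x8)) @(fun (x8 : ((x8 : x0) → ((@Membership.mem.{ku0, ku0} @x0 (@List.{ku0} @x0) (@List.instMembership.{ku0} @x0) @x5 @x8) → @x1 @x8))) => @Decidable.isTrue ((x9 : x0) → ((@Membership.mem.{ku0, ku0} @x0 (@List.{ku0} @x0) (@List.instMembership.{ku0} @x0) (@List.cons.{ku0}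 @x0 @x4 @x5) @x9) → @x1 @x9)) (@List.decidableBAll._proof_2.{ku0} @x0 @x1 @x4 @x5 @x7 @x8)) @x6) (@x2 @x4)) @x3)
private theorem _root_.Cfsg.Agent.KO926c3f9.e14.{ku0} : @List.decidableBAll.{ku0} = @_root_.Cfsg.Agent.KO926c3f9.k14.{ku0} := by delta _root_.Cfsg.Agent.KO926c3f9.k14; funext a0 a1 a2 a3; refine (_root_.Cfsg.Agent.KO926c3f9.e4 (fun a3 => @List.decidableBAll.{ku0} a0 a1 a2 a3) ?_ (fun c0 c1 => ?_) a3 :) <;> (rfl')
private noncomputable def _root_.Cfsg.Agent.KO926c3f9.k15.{ku0} : ((x0 : Sort ku0) → ((x1 : @Bool) → ((x2 : @Bool) → ((@Eq.{1} @Bool @x1 @x2) → @Bool.noConfusionType.{ku0} @x0 @x1 @x2)))) := @(fun (x0 : Sort ku0) (x1 : @Bool) (x2 : @Bool) (x3 : @Eq.{1} @Bool @x1 @x2) => @Eq.rec.{ku0, 1} @Bool @x1 @(fun (x4 : @Bool) (x5 : @Eq.{1} @Bool @x1 @x4) => @Bool.noConfusionType.{ku0} @x0 @x1 @x4) (@Bool.rec.{ku0} @(fun (x4 : @Bool) => @Bool.noConfusionType.{ku0} @x0 @x4 @x4) @(fun (x4 : x0) => x4) @(fun (x4 : x0) =>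 x4) @x1) @x2 @x3)
private theorem _root_.Cfsg.Agent.KO926c3f9.e15.{ku0} : @Bool.noConfusion.{ku0} = @_root_.Cfsg.Agent.KO926c3f9.k15.{ku0} := by delta _root_.Cfsg.Agent.KO926c3f9.k15; rfl'
private noncomputable def _root_.Cfsg.Agent.KO926c3f9.k16 : ((x0 : @Bool) → ((x1 : @Bool) → @Decidable (@Eq.{1} @Bool @x0 @x1))) := @(fun (x0 : @Bool) (x1 : @Bool) => @Bool.rec.{1} @(fun (x2 : @Bool) => @Decidable (@Eq.{1} @Bool @x2 @x1)) (@Bool.rec.{1} @(fun (x2 : @Bool) => @Decidable (@Eq.{1} @Bool @Bool.false @x2)) (@Decidable.isTrue (@Eq.{1} @Bool @Bool.false @Bool.false) (@rfl.{1} @Bool @Bool.false)) (@Decidable.isFalse (@Eq.{1} @Bool @Bool.false @Bool.true) @(fun (x2 : @Eq.{1} @Bool @Bool.false @Bool.true) => @Cfsg.Agent.KO926c3f9.k15.{0} @False @Bool.false @Bool.true @x2)) @x1) (@Bool.rec.{1} @(fun (x2 : @Bool) => @Decidable (@Eq.{1} @Bool @Bool.true @x2)) (@Decidable.isFalse (@Eq.{1} @Bool @Bool.true @Bool.false) @(fun (x2 : @Eq.{1}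 @Bool @Bool.true @Bool.false) => @Cfsg.Agent.KO926c3f9.k15.{0} @False @Bool.true @Bool.false @x2)) (@Decidable.isTrue (@Eq.{1} @Bool @Bool.true @Bool.true) (@rfl.{1} @Bool @Bool.true)) @x1) @x0)
private theorem _root_.Cfsg.Agent.KO926c3f9.e16 : @Bool.decEq = @_root_.Cfsg.Agent.KO926c3f9.k16 := by delta _root_.Cfsg.Agent.KO926c3f9.k16; rewrite [← Cfsg.Agent.KO926c3f9.e15.{0}]; rfl'
private noncomputable def _root_.Cfsg.Agent.KO926c3f9.k17 : ((x0 : @Nat) → ((x1 : @Nat) → @Decidable (@LE.le.{0} @Nat @instLENat @x0 @x1))) := @(fun (x0 : @Nat) (x1 : @Nat) => @Decidable.rec.{1} (@Eq.{1} @Bool (@Nat.ble @x0 @x1) @Bool.true) @(fun (x2 : @Decidable (@Eq.{1} @Bool (@Nat.ble @x0 @x1) @Bool.true)) => @Decidable (@LE.le.{0} @Nat @instLENat @x0 @x1)) @(fun (x2 : @Not (@Eq.{1} @Bool (@Nat.ble @x0 @x1) @Bool.true)) => @Decidable.isFalse (@LE.le.{0} @Nat @instLENat @x0 @x1) (@Nat.not_le_of_not_ble_eq_true @x0 @x1 @x2)) @(fun (x2 : @Eq.{1} @Bool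 (@Nat.ble @x0 @x1) @Bool.true) => @Decidable.isTrue (@LE.le.{0} @Nat @instLENat @x0 @x1) (@Nat.le_of_ble_eq_true @x0 @x1 @x2)) (@Cfsg.Agent.KO926c3f9.k16 (@Nat.ble @x0 @x1) @Bool.true))
private theorem _root_.Cfsg.Agent.KO926c3f9.e17 : @Nat.decLe = @_root_.Cfsg.Agent.KO926c3f9.k17 := by delta _root_.Cfsg.Agent.KO926c3f9.k17; rewrite [← Cfsg.Agent.KO926c3f9.e16]; rfl'
private noncomputable def _root_.Cfsg.Agent.KO926c3f9.k18 : ((x0 : @Nat) → ((x1 : @Nat) → @Decidable (@LT.lt.{0} @Nat @instLTNat @x0 @x1))) := @(fun (x0 : @Nat) (x1 : @Nat) => @Cfsg.Agent.KO926c3f9.k17 (@Nat.succ @x0) @x1)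
private theorem _root_.Cfsg.Agent.KO926c3f9.e18 : @Nat.decLt = @_root_.Cfsg.Agent.KO926c3f9.k18 := by delta _root_.Cfsg.Agent.KO926c3f9.k18; rewrite [← Cfsg.Agent.KO926c3f9.e17]; rfl'

theorem tA_aw : ∀ e ∈ tA, aw e.2 e.1 = 392 ∧ e.1 < 2401 := by (first | (refine of_decide_eq_true ?_; rewrite [Cfsg.Agent.KO926c3f9.e0, Cfsg.Agent.KO926c3f9.e13, Cfsg.Agent.KO926c3f9.e14.{0}, Cfsg.Agent.KO926c3f9.e12, Cfsg.Agent.KO926c3f9.e10, Cfsg.Agent.KO926c3f9.e18]; decide +kernel) | decide +kernel)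

theorem tB_aw : ∀ e ∈ tB, aw e.2 e.1 = 8 ∧ e.1 < 2401 := by (first | (refine of_decide_eq_true ?_; rewrite [Cfsg.Agent.KO926c3f9.e0, Cfsg.Agent.KO926c3f9.e13, Cfsg.Agent.KO926c3f9.e14.{0}, Cfsg.Agent.KO926c3f9.e12, Cfsg.Agent.KO926c3f9.e10, Cfsg.Agent.KO926c3f9.e18]; decide +kernel) | decide +kernel)

private noncomputable def msk (l : List (ℕ × List (Fin 4))) : ℕ :=
  List.rec (motive := fun _ => ℕ) 0 (fun e _ ih => Nat.lor (Nat.pow 2 e.1) ih) l

private theorem msk_spec {l : List (ℕ × List (Fin 4))} {n : ℕ} (h : (msk l).testBit n = true) : ∃ e ∈ l, e.1 = n := by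
  induction l with
  | nil => exact absurd ((Nat.zero_testBit n).symm.trans h) Bool.false_ne_true
  | cons e l ih =>
    have e0 : msk (e :: l) = 2 ^ e.1 ||| msk l := rfl
    rw [e0, Nat.testBit_or, Bool.or_eq_true, Nat.testBit_two_pow, decide_eq_true_eq] at h
    rcases h with h | h
    · exact ⟨e, List.mem_cons_self, h⟩
    · obtain ⟨x, hx, h1⟩ := ih h
      exact ⟨x, List.mem_cons_of_mem _ hx, h1⟩

private noncomputable def c4b (M a b c d : ℕ) : Bool :=
  Nat.rec (motive := fun _ => Bool) (M.testBit (mk4 a b c d)) (fun _ _ => true) (q4 a b c d)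

theorem cover : ∀ n < 2401, n = 0 ∨ Qn n ≠ 0 ∨ (∃ e ∈ tA, e.1 = n) ∨ ∃ e ∈ tB, e.1 = n := by
  intro n hn
  have h : c4b (2 ^ 0 ||| (msk tA ||| msk tB)) (dg n 0) (dg n 1) (dg n 2) (dg n 3) = true :=
    al4 (p := c4b (2 ^ 0 ||| (msk tA ||| msk tB))) (by decide +kernel) n
  generalize hA : msk tA = A at h
  generalize hB : msk tB = B at h
  by_cases hq : Qn n = 0
  · have e : c4b (2 ^ 0 ||| (A ||| B)) (dg n 0) (dg n 1) (dg n 2) (dg n 3) = Nat.rec (motive := fun _ => Bool)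
      ((2 ^ 0 ||| (A ||| B)).testBit (mk4 (dg n 0) (dg n 1) (dg n 2) (dg n 3))) (fun _ _ => true) (Qn n) := rfl
    rw [e, hq, mk4_dg hn] at h
    have h' : (2 ^ 0 ||| (A ||| B)).testBit n = true := h
    rw [Nat.testBit_or, Nat.testBit_or, Bool.or_eq_true, Bool.or_eq_true, Nat.testBit_two_pow, decide_eq_true_eq] at h'
    rcases h' with h' | h' | h'
    · exact Or.inl h'.symm
    · exact Or.inr (Or.inr (Or.inl (msk_spec (hA ▸ h'))))
    · exact Or.inr (Or.inr (Or.inr (msk_spec (hB ▸ h'))))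
  · exact Or.inr (Or.inl hq)

/-- **The eigenfunctionals.** -/
theorem exists_word {q : ℕ} (hq : q = 2 ∨ q = 4) {f : (Fin 4 → ℤ) →+ ZMod 7} (hf : f ≠ 0) {w : W4}
    (h : ∀ y, f (rp w y) = q • f y) :
    ∃ v : W4, f.comp (rp v).toAddMonoidHom = fn 392 ∨ f.comp (rp v).toAddMonoidHom = fn 8 := by
  have h0 : code f ≠ 0 := by
    intro h1
    apply hf
    rw [← fn_code f, h1]
    refine hom_ext fun i => ?_
    rw [fn_sr]
    unfold dg
    simp
  have key : ∀ e : ℕ × List (Fin 4), e.1 = code f → f.comp (rp (c4.wordProd e.2)).toAddMonoidHom = fn (aw e.2 e.1) := by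
    intro e he
    refine AddMonoidHom.ext fun x => ?_
    rw [he, ← comp_word, fn_code]
    rfl
  rcases cover _ (code_lt f) with h1 | h1 | ⟨e, he, h1⟩ | ⟨e, he, h1⟩
  · exact absurd h1 h0
  · exact absurd (Qn_eq_zero hq h) h1
  · exact ⟨c4.wordProd e.2, Or.inl (by rw [key e h1, (tA_aw e he).1])⟩
  · exact ⟨c4.wordProd e.2, Or.inr (by rw [key e h1, (tB_aw e he).1])⟩

end Cfsg.Agent.H938.EPK.F4W
end

-- part: H938/EPK/F4Val
section
/-!
# The value of the formula for the two functionals (S5745, CrossK; helper938)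

* `stab` : the stabiliser of the code `392` (`8`) in `W(F₄)` consists of the six words in `0, 1` (`2, 3`);
* `val_le` : `val ≤ (q ^ 2 + q + 1) ^ 2 * (q ^ 3 * (1 + 2 q + 2 q ^ 2 + q ^ 3))`, `q = 2, 4`.
-/

set_option autoImplicit false
set_option linter.unusedSectionVars false

namespace Cfsg.Agent.H938.EPK.F4W

open CoxeterSystem Cfsg Cfsg.Lie Cfsg.Lie.ChevalleyDatum
open Cfsg.Agent.ChevalleyStructure Cfsg.Agent.ChevalleyStructure.Elts Cfsg.Agent.ChevalleyStructure.CoxeterGeom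
  Cfsg.Agent.ChevalleyStructure.CoxeterGeomTypes Cfsg.Agent.ChevalleyStructure.NPerm
open Cfsg.Agent.Tits.Roots Cfsg.Agent.Tits.Core Cfsg.Agent.Nodes Cfsg.Agent.Nodes.Reps Cfsg.Agent.Nodes.BNOf
  Cfsg.Agent.Nodes.RGDChev
open Cfsg.Agent.BpExc Cfsg.Agent.H129.TorusChar Cfsg.Agent.H130.WeylCk Cfsg.Agent.H130.WeylTab
  Cfsg.Agent.H972.CS Cfsg.Agent.H972.CS.Main Cfsg.Agent.H972.CS.Torus Cfsg.Agent.H129.TorusMain

theorem finW4 : Finite W4 := finite_W hF c4

theorem card_W4 : Nat.card W4 = 1152 := Cfsg.Agent.H795.RowsA.card_F4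

/-- the stabiliser -/
def St (m : ℕ) : Set W4 := {v | ∀ x, fn m (rp v x) = fn m x}

/-- the stabiliser of `m` has at most `1152 / N` elements if the table has `N` codes conjugate to `m` -/
theorem card_St {m : ℕ} {t : List (ℕ × List (Fin 4))} (ht : ∀ e ∈ t, aw e.2 e.1 = m ∧ e.1 < 2401)
    (hn : (t.map Prod.fst).Nodup) : Nat.card (St m) * t.length ≤ 1152 := by
  have := finW4
  rw [← card_W4]
  let v : Fin t.length → W4 := fun i => (c4.wordProd (t.get i).2)⁻¹
  have hv : ∀ i x, fn m (rp (v i) x) = fn (t.get i).1 x := by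
    intro i x
    have h1 := comp_word (t.get i).2 (t.get i).1 (rp (v i) x)
    rw [(ht _ (t.get_mem i)).1] at h1
    rw [← h1]
    change fn _ (rep c4 hF.isCartan _ (rep c4 hF.isCartan _ x)) = _
    rw [← rep_mul_apply, mul_inv_cancel, map_one, Module.End.one_apply]
  have hinj : Function.Injective (fun p : St m × Fin t.length => p.1.1 * v p.2) := by
    rintro ⟨⟨s, hs⟩, i⟩ ⟨⟨s', hs'⟩, j⟩ h
    have h : s * v i = s' * v j := h
    have h1 : fn (t.get i).1 = fn (t.get j).1 := by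
      have e1 : ∀ (a : W4) (ha : a ∈ St m) (l : Fin t.length) (x : Fin 4 → ℤ),
          fn (t.get l).1 x = fn m (rep c4 hF.isCartan (a * v l) x) := by
        intro a ha l x
        rw [rep_mul_apply]
        exact (hv l x).symm.trans (ha (rp (v l) x)).symm
      exact AddMonoidHom.ext fun x => by rw [e1 s hs i x, e1 s' hs' j x, h]
    have h2 : (t.get i).1 = (t.get j).1 := by
      rw [← code_fn (ht _ (t.get_mem i)).2, ← code_fn (ht _ (t.get_mem j)).2, h1]
    have h3 : i = j := by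
      have h4 := List.nodup_iff_injective_get.1 hn
      have h5 := @h4 ⟨i.1, by rw [List.length_map]; exact i.2⟩ ⟨j.1, by rw [List.length_map]; exact j.2⟩ (by
        simpa using h2)
      exact Fin.ext (Fin.mk.inj_iff.1 h5)
    subst h3
    have h4 : s = s' := mul_right_cancel h
    subst h4
    rfl
  have h1 := Nat.card_le_card_of_injective _ hinj
  rwa [Nat.card_prod, Nat.card_eq_fintype_card (α := Fin _), Fintype.card_fin] at h1

private noncomputable def _root_.Cfsg.Agent.KO926c3f9.k22.{ku0, ku1} : ((x0 : Sort (ku0+1)) → ((x1 : Sort (ku1+1)) → ((x0 → x1) → ((@List.{ku0} @x0) → @List.{ku1} @x1)))) := @(fun (x0 : Sort (ku0+1)) (x1 : Sort (ku1+1)) (x2 : (x0 → x1)) (x3 : @List.{ku0} @x0) => @List.rec.{(ku1+1), ku0} @x0 @(fun (x4 : @List.{ku0} @x0) => @List.{ku1} @x1) (@List.nil.{ku1} @x1) @(fun (x4 : x0) (x5 : @List.{ku0} @x0) (x6 : @List.{ku1} @x1) => @List.cons.{ku1} @x1 (@x2 @x4) @x6) @x3)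
private theorem _root_.Cfsg.Agent.KO926c3f9.e22.{ku0, ku1} : @List.map.{ku0, ku1} = @_root_.Cfsg.Agent.KO926c3f9.k22.{ku0, ku1} := by delta _root_.Cfsg.Agent.KO926c3f9.k22; funext a0 a1 a2 a3; refine (_root_.Cfsg.Agent.KO926c3f9.e4 (fun a3 => @List.map.{ku0, ku1} a0 a1 a2 a3) ?_ (fun c0 c1 => ?_) a3 :) <;> (rfl')
private noncomputable def _root_.Cfsg.Agent.KO926c3f9.k23.{ku0} : ((x0 : Sort (ku0+1)) → ((@List.{ku0} @x0) → @Nat)) := @(fun (x0 : Sort (ku0+1)) (x1 : @List.{ku0} @x0) => @List.rec.{1, ku0} @x0 @(fun (x2 : @List.{ku0} @x0) => @Nat) (nat_lit 0) @(fun (x2 : x0) (x3 : @List.{ku0} @x0) (x4 : @Nat) => @Nat.add @x4 (nat_lit 1)) @x1)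
private theorem _root_.Cfsg.Agent.KO926c3f9.e23.{ku0} : @List.length.{ku0} = @_root_.Cfsg.Agent.KO926c3f9.k23.{ku0} := by delta _root_.Cfsg.Agent.KO926c3f9.k23; funext a0 a1; refine (_root_.Cfsg.Agent.KO926c3f9.e4 (fun a1 => @List.length.{ku0} a0 a1) ?_ (fun c0 c1 => ?_) a1 :) <;> (rfl')
private noncomputable def _root_.Cfsg.Agent.KO926c3f9.k24.{ku0} : ((x0 : Sort (ku0+1)) → ((x1 : (x0 → (x0 → Prop))) → ((@DecidableRel.{(ku0+1), (ku0+1)} @x0 @x0 @x1) → ((x3 : @List.{ku0} @x0) → @Decidable (@List.Pairwise.{ku0} @x0 @x1 @x3))))) := @(fun (x0 : Sort (ku0+1)) (x1 : (x0 → (x0 → Prop))) (x2 : @DecidableRel.{(ku0+1), (ku0+1)} @x0 @x0 @x1) (x3 : @List.{ku0} @x0) => @List.rec.{1, ku0} @x0 @(fun (x4 : @List.{ku0} @x0) => @Decidable (@List.Pairwise.{ku0} @x0 @x1 @x4)) (@Decidable.isTrue (@List.Pairwise.{ku0} @x0 @x1 (@List.nil.{ku0} @x0)) (@List.Pairwise.nil.{ku0} @x0 @x1)) @(fun (x4 : x0) (x5 : @List.{ku0} @x0) (x6 : @Decidable (@List.Pairwise.{ku0}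 @x0 @x1 @x5)) => @Decidable.rec.{1} (@List.Pairwise.{ku0} @x0 @x1 @x5) @(fun (x7 : @Decidable (@List.Pairwise.{ku0} @x0 @x1 @x5)) => @Decidable (@List.Pairwise.{ku0} @x0 @x1 (@List.cons.{ku0} @x0 @x4 @x5))) @(fun (x7 : @Not (@List.Pairwise.{ku0} @x0 @x1 @x5)) => @Decidable.isFalse (@List.Pairwise.{ku0} @x0 @x1 (@List.cons.{ku0} @x0 @x4 @x5)) (@List.instDecidablePairwise._proof_3.{ku0} @x0 @x1 @x4 @x5 @x7)) @(fun (x7 : @List.Pairwise.{ku0} @x0 @x1 @x5) => @Decidable.rec.{1} ((x8 : x0) → ((@Membership.mem.{ku0, ku0} @x0 (@List.{ku0} @x0) (@List.instMembership.{ku0} @x0) @x5 @x8) → @x1 @x4 @x8)) @(fun (x8 : @Decidable ((x8 : x0) → ((@Membership.mem.{ku0, ku0} @x0 (@List.{ku0} @x0) (@List.instMembership.{ku0} @x0) @x5 @x8) → @x1 @x4 @x8))) => @Decidable (@List.Pairwise.{ku0} @x0 @x1 (@List.cons.{ku0} @x0 @x4 @x5))) @(fun (x8 : @Not ((x8 : x0) → ((@Membership.mem.{ku0, ku0} @x0 (@List.{ku0} @x0) (@List.instMembership.{ku0} @x0) @x5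 @x8) → @x1 @x4 @x8))) => @Decidable.isFalse (@List.Pairwise.{ku0} @x0 @x1 (@List.cons.{ku0} @x0 @x4 @x5)) (@List.instDecidablePairwise._proof_1.{ku0} @x0 @x1 @x4 @x5 @x8)) @(fun (x8 : ((x8 : x0) → ((@Membership.mem.{ku0, ku0} @x0 (@List.{ku0} @x0) (@List.instMembership.{ku0} @x0) @x5 @x8) → @x1 @x4 @x8))) => @Decidable.isTrue (@List.Pairwise.{ku0} @x0 @x1 (@List.cons.{ku0} @x0 @x4 @x5)) (@List.instDecidablePairwise._proof_2.{ku0} @x0 @x1 @x4 @x5 @x7 @x8)) (@Cfsg.Agent.KO926c3f9.k14.{ku0} @x0 (@x1 @x4) (@x2 @x4) @x5)) @x6) @x3)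
private theorem _root_.Cfsg.Agent.KO926c3f9.e24.{ku0} : @List.instDecidablePairwise.{ku0} = @_root_.Cfsg.Agent.KO926c3f9.k24.{ku0} := by delta _root_.Cfsg.Agent.KO926c3f9.k24; rewrite [← Cfsg.Agent.KO926c3f9.e14.{ku0}]; funext a0 a1 a2 a3; refine (_root_.Cfsg.Agent.KO926c3f9.e4 (fun a3 => @List.instDecidablePairwise.{ku0} a0 a1 a2 a3) ?_ (fun c0 c1 => ?_) a3 :) <;> (rfl')
private noncomputable def _root_.Cfsg.Agent.KO926c3f9.k25.{ku0} : ((x0 : Sort (ku0+1)) → ((@DecidableEq.{(ku0+1)} @x0) → ((x2 : @List.{ku0} @x0) → @Decidable (@List.Nodup.{ku0} @x0 @x2)))) := @(fun (x0 : Sort (ku0+1)) (x1 : @DecidableEq.{(ku0+1)} @x0) => @Cfsg.Agent.KO926c3f9.k24.{ku0} @x0 @(fun (x2 : x0) (x3 : x0) => @Ne.{(ku0+1)} @x0 @x2 @x3) @(fun (x2 : x0) (x3 : x0) => @Decidable.rec.{1} (@Eq.{(ku0+1)} @x0 @x2 @x3) @(fun (x4 : @Decidable (@Eq.{(ku0+1)} @x0 @x2 @x3)) => @Decidable (@Not (@Eq.{(ku0+1)} @x0 @x2 @x3))) @(fun (x4 : @Not (@Eq.{(ku0+1)} @x0 @x2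 @x3)) => @Decidable.isTrue (@Not (@Eq.{(ku0+1)} @x0 @x2 @x3)) @x4) @(fun (x4 : @Eq.{(ku0+1)} @x0 @x2 @x3) => @Decidable.isFalse (@Not (@Eq.{(ku0+1)} @x0 @x2 @x3)) (@absurd.{0} (@Eq.{(ku0+1)} @x0 @x2 @x3) @False @x4)) (@x1 @x2 @x3)))
private theorem _root_.Cfsg.Agent.KO926c3f9.e25.{ku0} : @List.nodupDecidable.{ku0} = @_root_.Cfsg.Agent.KO926c3f9.k25.{ku0} := by delta _root_.Cfsg.Agent.KO926c3f9.k25; rewrite [← Cfsg.Agent.KO926c3f9.e24.{ku0}]; rfl'

theorem nodup_A : (tA.map Prod.fst).Nodup ∧ tA.length = 192 := by (first | (refine of_decide_eq_true ?_; rewrite [Cfsg.Agent.KO926c3f9.e0, Cfsg.Agent.KO926c3f9.e22.{0, 0}, Cfsg.Agent.KO926c3f9.e23.{0}, Cfsg.Agent.KO926c3f9.e12, Cfsg.Agent.KO926c3f9.e25.{0}, Cfsg.Agent.KO926c3f9.e10]; decide +kernel) | decide +kernel)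

theorem nodup_B : (tB.map Prod.fst).Nodup ∧ tB.length = 192 := by (first | (refine of_decide_eq_true ?_; rewrite [Cfsg.Agent.KO926c3f9.e0, Cfsg.Agent.KO926c3f9.e22.{0, 0}, Cfsg.Agent.KO926c3f9.e23.{0}, Cfsg.Agent.KO926c3f9.e12, Cfsg.Agent.KO926c3f9.e25.{0}, Cfsg.Agent.KO926c3f9.e10]; decide +kernel) | decide +kernel)

/-- the words of the stabiliser -/
def us (a b : Fin 4) : Fin 6 → List (Fin 4) := (beta% delta% lq26c8dddd0e fun e f _ _ _ _ l _ n =>
 (l f<|l (e a<|f)<|l (e b<|f)<|l (e a<|e b<|f)<|l (e b<|e a<|f)<|l (e a<|e b<|e a<|f)<|n))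

/-- the image of a simple root -/
def im (L : List (Fin 4)) (j : Fin 4) : List ℤ := ac alF4 L (bas 4 j)

theorem rp_word (L : List (Fin 4)) (j : Fin 4) : rp (c4.wordProd L) (sr j) = toFn 4 (im L j) := by
  have h := Cfsg.Agent.H720.RowsNeg.rep_word lists_F4 c4 hF.isCartan L 1 j
  rw [pow_one] at h
  exact h

theorem us_inj {a b : Fin 4} (hab : (a = 0 ∧ b = 1) ∨ (a = 2 ∧ b = 3)) :
    Function.Injective fun i : Fin 6 => c4.wordProd (us a b i) := by
  have key : ∀ i j : Fin 6, c4.wordProd (us a b i) = c4.wordProd (us a b j) →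
      ∀ s, toFn 4 (im (us a b i) s) = toFn 4 (im (us a b j) s) := by
    intro i j h s
    rw [← rp_word, ← rp_word, h]
  intro i j h
  have h1 := key i j h
  clear h key
  rcases hab with ⟨rfl, rfl⟩ | ⟨rfl, rfl⟩ <;> revert i j <;> decide +kernel

/-- the stabiliser consists of six words -/
theorem St_eq {m : ℕ} {a b : Fin 4} (hab : (a = 0 ∧ b = 1) ∨ (a = 2 ∧ b = 3)) (h6 : Nat.card (St m) ≤ 6)
    (hm : ∀ i, aw (us a b i) m = m) {v : W4} (hv : v ∈ St m) : ∃ i, v = c4.wordProd (us a b i) := by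
  have := finW4
  let g : Fin 6 → St m := fun i => ⟨c4.wordProd (us a b i), fun x => by rw [comp_word, hm]⟩
  have hg : Function.Injective g := fun i j h => us_inj hab (congrArg Subtype.val h)
  have h1 : Function.Bijective g := by
    refine (Nat.bijective_iff_injective_and_card g).2 ⟨hg, ?_⟩
    refine le_antisymm (Nat.card_le_card_of_injective g hg) ?_
    rwa [Nat.card_eq_fintype_card (α := Fin 6), Fintype.card_fin]
  obtain ⟨i, hi⟩ := h1.2 ⟨v, hv⟩
  exact ⟨i, (congrArg Subtype.val hi).symm⟩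

/-- the two functionals -/
def Is (m : ℕ) (a b : Fin 4) : Prop := (m = 392 ∧ a = 0 ∧ b = 1) ∨ (m = 8 ∧ a = 2 ∧ b = 3)

theorem Is.ab {m : ℕ} {a b : Fin 4} (h : Is m a b) : (a = 0 ∧ b = 1) ∨ (a = 2 ∧ b = 3) := by
  rcases h with ⟨-, h⟩ | ⟨-, h⟩
  · exact Or.inl h
  · exact Or.inr h

theorem Is.card {m : ℕ} {a b : Fin 4} (h : Is m a b) : Nat.card (St m) ≤ 6 := by
  rcases h with ⟨rfl, -⟩ | ⟨rfl, -⟩
  · have h1 := card_St tA_aw nodup_A.1
    rw [nodup_A.2] at h1
    omega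
  · have h1 := card_St tB_aw nodup_B.1
    rw [nodup_B.2] at h1
    omega

theorem Is.fix {m : ℕ} {a b : Fin 4} (h : Is m a b) : ∀ i, aw (us a b i) m = m := by
  rcases h with ⟨rfl, rfl, rfl⟩ | ⟨rfl, rfl, rfl⟩ <;> decide +kernel

theorem stab {m : ℕ} {a b : Fin 4} (h : Is m a b) {v : W4} (hv : ∀ x, fn m (rp v x) = fn m x) :
    ∃ i, v = c4.wordProd (us a b i) := St_eq h.ab h.card h.fix hv

/-- the eigenelement -/
def w0 (m q : ℕ) : List (Fin 4) :=
  if m = 392 then (if q = 2 then (beta% delta% lq26c8dddd0e fun e f _ _ _ _ _ _ _ =>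
 (e 2<|e 1<|e 2<|e 0<|e 1<|e 2<|e 3<|e 2<|e 1<|e 2<|e 0<|e 1<|e 2<|e 3<|f) :
 List (Fin 4)) else (beta% delta% lq26c8dddd0e fun e f _ _ _ _ _ _ _ =>
 (e 3<|e 2<|e 1<|e 2<|e 0<|e 1<|e 2<|e 3<|e 2<|e 1<|e 2<|e 0<|e 1<|e 2<|f) :
 List (Fin 4)))
  else (if q = 2 then (beta% delta% lq26c8dddd0e fun e f _ _ _ _ _ _ _ =>
 (e 1<|e 2<|e 3<|e 1<|e 2<|e 0<|e 1<|e 2<|e 3<|e 0<|e 1<|e 2<|e 1<|e 0<|f) :
 List (Fin 4)) else (beta% delta% lq26c8dddd0e fun e f _ _ _ _ _ _ _ =>
 (e 0<|e 1<|e 2<|e 3<|e 1<|e 2<|e 0<|e 1<|e 2<|e 3<|e 0<|e 1<|e 2<|e 1<|f) :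
 List (Fin 4)))

theorem w0_aw {m q : ℕ} {a b : Fin 4} (h : Is m a b) (hq : q = 2 ∨ q = 4) : aw (w0 m q) m = mq q m := by
  rcases h with ⟨rfl, rfl, rfl⟩ | ⟨rfl, rfl, rfl⟩ <;> rcases hq with rfl | rfl <;> decide +kernel

/-- the elements `w` with `f ∘ w = q f` -/
theorem eig {m q : ℕ} {a b : Fin 4} (h : Is m a b) (hq : q = 2 ∨ q = 4) {w : W4}
    (hw : ∀ x, fn m (rp w x) = q • fn m x) : ∃ i, w = c4.wordProd (us a b i ++ w0 m q) := by
  have h0 : ∀ x, fn m (rp (c4.wordProd (w0 m q)) x) = q • fn m x := fun x => by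
    rw [comp_word, w0_aw h hq, fn_mq]
  obtain ⟨i, hi⟩ := stab h (v := w * (c4.wordProd (w0 m q))⁻¹) fun x => by
    change fn m (rep c4 hF.isCartan _ x) = _
    rw [rep_mul_apply]
    have h1 := hw (rep c4 hF.isCartan (c4.wordProd (w0 m q))⁻¹ x)
    have h2 := h0 (rep c4 hF.isCartan (c4.wordProd (w0 m q))⁻¹ x)
    rw [← h2] at h1
    refine h1.trans ?_
    change fn m (rep c4 hF.isCartan _ (rep c4 hF.isCartan _ x)) = _
    rw [← rep_mul_apply, mul_inv_cancel, map_one, Module.End.one_apply]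
  refine ⟨i, ?_⟩
  rw [CoxeterSystem.wordProd_append, ← hi, inv_mul_cancel_right]

end Cfsg.Agent.H938.EPK.F4W
end

-- part: H938/EPK/F4Num
section
/-!
# The value of the formula for the two functionals, II (S5745, CrossK; helper938)
-/

set_option autoImplicit false
set_option linter.unusedSectionVars false

namespace Cfsg.Agent.H938.EPK.F4W

open CoxeterSystem Cfsg Cfsg.Lie Cfsg.Lie.ChevalleyDatum
open Cfsg.Agent.ChevalleyStructure Cfsg.Agent.ChevalleyStructure.Elts Cfsg.Agent.ChevalleyStructure.CoxeterGeom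
  Cfsg.Agent.ChevalleyStructure.CoxeterGeomTypes Cfsg.Agent.ChevalleyStructure.NPerm
open Cfsg.Agent.Tits.Roots Cfsg.Agent.Tits.Core Cfsg.Agent.Nodes Cfsg.Agent.Nodes.Reps Cfsg.Agent.Nodes.BNOf
  Cfsg.Agent.Nodes.RGDChev
open Cfsg.Agent.BpExc Cfsg.Agent.H129.TorusChar Cfsg.Agent.H130.WeylCk Cfsg.Agent.H130.WeylTab
  Cfsg.Agent.H972.CS Cfsg.Agent.H972.CS.Main Cfsg.Agent.H972.CS.Torus Cfsg.Agent.H129.TorusMain

/-- the determinant of order four -/
def dt (M : Fin 4 → Fin 4 → ℤ) : ℤ :=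
  M 0 0 * (M 1 1 * (M 2 2 * M 3 3 - M 2 3 * M 3 2) - M 1 2 * (M 2 1 * M 3 3 - M 2 3 * M 3 1) +
      M 1 3 * (M 2 1 * M 3 2 - M 2 2 * M 3 1)) -
    M 0 1 * (M 1 0 * (M 2 2 * M 3 3 - M 2 3 * M 3 2) - M 1 2 * (M 2 0 * M 3 3 - M 2 3 * M 3 0) +
      M 1 3 * (M 2 0 * M 3 2 - M 2 2 * M 3 0)) +
    M 0 2 * (M 1 0 * (M 2 1 * M 3 3 - M 2 3 * M 3 1) - M 1 1 * (M 2 0 * M 3 3 - M 2 3 * M 3 0) +
      M 1 3 * (M 2 0 * M 3 1 - M 2 1 * M 3 0)) -
    M 0 3 * (M 1 0 * (M 2 1 * M 3 2 - M 2 2 * M 3 1) - M 1 1 * (M 2 0 * M 3 2 - M 2 2 * M 3 0) +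
      M 1 2 * (M 2 0 * M 3 1 - M 2 1 * M 3 0))

theorem det_eq (M : Matrix (Fin 4) (Fin 4) ℤ) : M.det = dt M := by
  rw [Matrix.det_succ_row_zero]
  simp only [Fin.sum_univ_succ, Matrix.det_fin_three, Matrix.submatrix_apply, dt]
  simp [Fin.succAbove, Fin.lt_def]
  ring

/-- the matrix of `w - q` -/
def mw (L : List (Fin 4)) (q : ℕ) (i j : Fin 4) : ℤ := toFn 4 (im L j) i - if i = j then (q : ℤ) else 0

theorem det_gq (L : List (Fin 4)) (q : ℕ) :
    LinearMap.det (gq (theta hF c4 (c4.wordProd L) (AddEquiv.refl _)) q) = dt (mw L q) := by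
  rw [← LinearMap.det_toMatrix', det_eq]
  congr 1
  funext i j
  rw [LinearMap.toMatrix'_apply]
  have h3 : gq (theta hF c4 (c4.wordProd L) (AddEquiv.refl _)) q (sr j) i = mw L q i j := by
    rw [gq_apply]
    change (rp (c4.wordProd L) (sr j) - (q : ℤ) • (sr j : Fin 4 → ℤ)) i = _
    rw [rp_word, Pi.sub_apply, Pi.smul_apply, smul_eq_mul]
    unfold mw
    congr 1
    by_cases hij : i = j
    · subst hij; rw [if_pos rfl, sr_self, mul_one]
    · rw [if_neg hij, sr_ne hij, mul_zero]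
  exact h3

theorem det_le {m q : ℕ} {a b : Fin 4} (h : Is m a b) (hq : q = 2 ∨ q = 4) :
    ∀ i, (dt (mw (us a b i ++ w0 m q) q)).natAbs ≤ (q ^ 2 + q + 1) ^ 2 := by
  rcases h with ⟨rfl, rfl, rfl⟩ | ⟨rfl, rfl, rfl⟩ <;> rcases hq with rfl | rfl <;> decide +kernel

/-- the positive roots killed by the functional -/
def ps (a b : Fin 4) : List (List ℤ) := [bas 4 a, bas 4 b, (bas 4 a).zipWith (· + ·) (bas 4 b)]

theorem psi_tab {m : ℕ} {a b : Fin 4} (h : Is m a b) : ∀ r < 48, (∀ j : Fin 4, 0 ≤ vec chevF4 4 r j) →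
    (∑ j : Fin 4, vec chevF4 4 r j * (dg m j : ℤ)) % 7 = 0 → ∃ l ∈ ps a b, ∀ j : Fin 4, vec chevF4 4 r j = toFn 4 l j := by
  rcases h with ⟨rfl, rfl, rfl⟩ | ⟨rfl, rfl, rfl⟩ <;> decide +kernel

theorem mem_psi {m : ℕ} {a b : Fin 4} (h : Is m a b) {x : Fin 4 → ℤ} (hx : x ∈ psi c4 hF.isCartan (fn m)) :
    ∃ l ∈ ps a b, x = toFn 4 l := by
  obtain ⟨h1, h2, h3⟩ := hx
  obtain ⟨r, hr, rfl⟩ := (isRoot_iff hF c4 x).1 h1
  suffices h5 : ∃ l ∈ ps a b, ∀ j : Fin 4, vec chevF4 4 r j = toFn 4 l j by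
    obtain ⟨l, hl, h6⟩ := h5
    exact ⟨l, hl, funext h6⟩
  refine psi_tab h r hr h2 ?_
  rw [fn_apply] at h3
  have h4 : ((∑ j : Fin 4, vec chevF4 4 r j * (dg m j : ℤ) : ℤ) : ZMod 7) = 0 := by
    rw [Int.cast_sum, ← h3]
    exact Finset.sum_congr rfl fun j _ => by rw [Int.cast_mul, Int.cast_natCast]
  exact Int.emod_eq_zero_of_dvd ((ZMod.intCast_zmod_eq_zero_iff_dvd _ 7).1 h4)

theorem ncard_le_of {S : Set (Fin 4 → ℤ)} {t : List (List ℤ)} (h : ∀ x ∈ S, ∃ l ∈ t, x = toFn 4 l) :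
    S.ncard ≤ t.length := by
  classical
  have h1 : S ⊆ ↑((t.map (toFn 4)).toFinset) := by
    intro x hx
    obtain ⟨l, hl, rfl⟩ := h x hx
    rw [Finset.mem_coe, List.mem_toFinset, List.mem_map]
    exact ⟨l, hl, rfl⟩
  refine (Set.ncard_le_ncard h1 (Finset.finite_toSet _)).trans ?_
  rw [Set.ncard_coe_finset]
  exact (List.toFinset_card_le _).trans (by rw [List.length_map])

/-- the bounds of the lengths -/
def ln : Fin 6 → ℕ := ![0, 1, 1, 2, 2, 3]

theorem ps_len (a b : Fin 4) : (ps a b).length = 3 := rfl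

theorem ps_bas {a b : Fin 4} (hab : (a = 0 ∧ b = 1) ∨ (a = 2 ∧ b = 3)) : ∀ l ∈ ps a b, l.length = 4 := by
  rcases hab with ⟨rfl, rfl⟩ | ⟨rfl, rfl⟩ <;> decide +kernel

theorem len_tab {a b : Fin 4} (hab : (a = 0 ∧ b = 1) ∨ (a = 2 ∧ b = 3)) : ∀ i : Fin 6,
    ((ps a b).filter fun l => decide (∀ j : Fin 4, toFn 4 (ac alF4 (us a b i) l) j ≤ 0)).length ≤ ln i := by
  rcases hab with ⟨rfl, rfl⟩ | ⟨rfl, rfl⟩ <;> decide +kernel

theorem rp_list (L : List (Fin 4)) {l : List ℤ} (hl : l.length = 4) :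
    rp (c4.wordProd L) (toFn 4 l) = toFn 4 (ac alF4 L l) := by
  have h := toFn_acn c4 hF.isCartan lists_F4 L 1 l hl
  rw [pow_one] at h
  exact h.symm

theorem psiN_le {m : ℕ} {a b : Fin 4} (h : Is m a b) (i : Fin 6) :
    (psiN c4 hF.isCartan (fn m) (c4.wordProd (us a b i))).ncard ≤ ln i := by
  refine le_trans (ncard_le_of ?_) (len_tab h.ab i)
  rintro x ⟨h1, h2, h3, h4⟩
  obtain ⟨l, hl, rfl⟩ := mem_psi h ⟨h1, h2, h3⟩
  refine ⟨l, ?_, rfl⟩
  rw [List.mem_filter]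
  refine ⟨hl, decide_eq_true fun j => ?_⟩
  rw [← rp_list _ (ps_bas h.ab l hl)]
  exact h4 j

open Classical in
/-- the set `Cw` -/
noncomputable def Cs (a b : Fin 4) : Finset W4 := Finset.univ.image fun i : Fin 6 => c4.wordProd (us a b i)

theorem cov {m : ℕ} {a b : Fin 4} (h : Is m a b) (g : (Fin 4 → ℤ) ≃+ (Fin 4 → ℤ)) (w : W4) :
    Cov hF c4 g (fn m) w (Cs a b) := by
  intro v hv _
  obtain ⟨i, hi⟩ := stab h hv
  classical
  unfold Cs
  exact Finset.mem_image.2 ⟨i, Finset.mem_univ _, hi.symm⟩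

/-- **The bound.** -/
theorem val_le {m q : ℕ} {a b : Fin 4} (h : Is m a b) (hq : q = 2 ∨ q = 4) {w : W4}
    (hw : Pair hF c4 (AddEquiv.refl _) q 7 (fn m) w) :
    val hF c4 (AddEquiv.refl _) q (fn m) w (Cs a b) ≤
      (q ^ 2 + q + 1) ^ 2 * (q ^ 3 * (1 + 2 * q + 2 * q ^ 2 + q ^ 3)) := by
  classical
  obtain ⟨i, rfl⟩ := eig h hq (w := w) fun x => hw.mul x
  have hq0 : 0 < q := by rcases hq with rfl | rfl <;> norm_num
  unfold val
  refine Nat.mul_le_mul ?_ (Nat.mul_le_mul ?_ ?_)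
  · rw [det_gq]
    exact det_le h hq i
  · refine Nat.pow_le_pow_right hq0 ?_
    have h1 := ncard_le_of (t := ps a b) fun x hx => mem_psi h hx
    rwa [ps_len] at h1
  · unfold Cs
    rw [Finset.sum_image fun i _ j _ hij => us_inj h.ab hij]
    have h1 : ∀ i : Fin 6, q ^ (psiN c4 hF.isCartan (fn m) (c4.wordProd (us a b i))).ncard ≤ q ^ ln i :=
      fun i => Nat.pow_le_pow_right hq0 (psiN_le h i)
    refine (Finset.sum_le_sum fun i _ => h1 i).trans (le_of_eq ?_)
    simp only [Fin.sum_univ_succ, ln]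
    simp
    ring

end Cfsg.Agent.H938.EPK.F4W
end

-- part: H896/EPX/Line
section
/-!
# S5745, `k ≥ 1`: the line bound for the frame `EPS` (helper896)

* `card_H_le` : `|H| ≤ k! |Aut T| ^ k`;
* `index_le_line` : if `c ≤ |N ∩ H^x|` for all `x ∉ H` then `|G : H| ≤ 1 + r * (2 * (|N| / c))`, `r` the number of the
  two-point stabilisers `H ∩ H^x`.
-/

set_option autoImplicit false
set_option linter.unusedSectionVars false

namespace Cfsg.Agent.H896.EPX

open MulAction Subgroup Cfsg.Agent.H284 Cfsg.Agent.H209.EPX Cfsg.Agent.H758.EPX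

variable {G : Type*} [Group G] {H N : Subgroup G} {T : Type} [Group T] {k : ℕ} {e : N ≃* (Fin k → T)}

/-- `|H| ≤ k! |Aut T| ^ k` -/
theorem card_H_le [Finite G] (h : EPS H N e) : Nat.card H ≤ k.factorial * Nat.card (MulAut T) ^ k := by
  have hfin : Finite T := Finite.of_injective _ (inj_injective e ⟨0, h.pos⟩)
  have hco : ∀ (g : H) (i : Fin k), ∃ α : MulAut T, ∀ n : N,
      e ⟨(g : G) * n * (g : G)⁻¹, h.nrm g g.2 n n.2⟩ (Cfsg.Agent.H758.EPX.perm h g i) = α (e n i) := fun g i =>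
    EPS.coord h g.2 (Cfsg.Agent.H758.EPX.perm_spec h g i)
  choose α hα using hco
  have hinj : Function.Injective (fun g : H => (Cfsg.Agent.H758.EPX.perm h g, α g)) := by
    intro g g' hg
    have h1 : Cfsg.Agent.H758.EPX.perm h g = Cfsg.Agent.H758.EPX.perm h g' := congrArg Prod.fst hg
    have h2 : α g = α g' := congrArg Prod.snd hg
    have h3 : ∀ n : N, (g : G) * n * (g : G)⁻¹ = (g' : G) * n * (g' : G)⁻¹ := by
      intro n
      have h4 : (⟨(g : G) * n * (g : G)⁻¹, h.nrm g g.2 n n.2⟩ : N) =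
          ⟨(g' : G) * n * (g' : G)⁻¹, h.nrm g' g'.2 n n.2⟩ := by
        apply e.injective
        funext j
        have h5 : Cfsg.Agent.H758.EPX.perm h g ((Cfsg.Agent.H758.EPX.perm h g).symm j) = j :=
          Equiv.apply_symm_apply _ j
        have h6 := hα g ((Cfsg.Agent.H758.EPX.perm h g).symm j) n
        have h7 := hα g' ((Cfsg.Agent.H758.EPX.perm h g).symm j) n
        rw [← h1] at h7
        rw [h5] at h6 h7
        rw [h6, h7, h2]
      exact Subtype.ext_iff.1 h4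
    have h8 : (g : G)⁻¹ * g' ∈ Subgroup.centralizer (N : Set G) := by
      rw [Subgroup.mem_centralizer_iff]
      intro n hn
      have h9 := h3 ⟨n, hn⟩
      calc n * ((g : G)⁻¹ * g') = (g : G)⁻¹ * ((g : G) * n * (g : G)⁻¹) * g' := by group
        _ = (g : G)⁻¹ * ((g' : G) * n * (g' : G)⁻¹) * g' := by rw [h9]
        _ = (g : G)⁻¹ * g' * n := by group
    rw [h.cent, Subgroup.mem_bot, inv_mul_eq_one] at h8
    exact Subtype.ext h8
  have h9 := Nat.card_le_card_of_injective _ hinj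
  rw [Nat.card_prod, Nat.card_perm, Nat.card_fun, Nat.card_fin] at h9
  exact h9

/-- `|H| |N ∩ H^x| ≤ |N| |H ∩ H^x|` -/
theorem card_fac [Finite G] (h : EPS H N e) {x : G} (hx : x ∉ H) :
    Nat.card H * Nat.card (N ⊓ cj x H : Subgroup G) ≤ Nat.card N * Nat.card (H ⊓ cj x H : Subgroup G) := by
  have h1 : ∀ g : H, ∃ n : N, ∃ m : (H ⊓ cj x H : Subgroup G), (g : G) = n * m := by
    intro g
    obtain ⟨n, hn, m, hm, e1⟩ := h.ep.fac h.le h.nrm h.ne hx g.2
    exact ⟨⟨n, hn⟩, ⟨m, hm⟩, e1⟩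
  choose a b hab using h1
  rw [← Nat.card_prod, ← Nat.card_prod]
  refine Nat.card_le_card_of_injective (fun p : H × (N ⊓ cj x H : Subgroup G) =>
    ((a p.1 * ⟨(p.2 : G), (mem_inf.1 p.2.2).1⟩ : N),
      ((⟨(p.2 : G)⁻¹, (H ⊓ cj x H).inv_mem ⟨h.le (mem_inf.1 p.2.2).1, (mem_inf.1 p.2.2).2⟩⟩ :
        (H ⊓ cj x H : Subgroup G)) * b p.1 : (H ⊓ cj x H : Subgroup G)))) ?_
  rintro ⟨g, d⟩ ⟨g', d'⟩ hg
  have h2 : (a g : G) * d = a g' * d' := congrArg (fun z : N × (H ⊓ cj x H : Subgroup G) => (z.1 : G)) hg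
  have h3 : (d : G)⁻¹ * b g = (d' : G)⁻¹ * b g' :=
    congrArg (fun z : N × (H ⊓ cj x H : Subgroup G) => (z.2 : G)) hg
  have h4 : g = g' := by
    apply Subtype.ext
    rw [hab, hab]
    calc (a g : G) * b g = (a g * d) * ((d : G)⁻¹ * b g) := by group
      _ = (a g' * d') * ((d' : G)⁻¹ * b g') := by rw [h2, h3]
      _ = (a g' : G) * b g' := by group
  subst h4
  have h5 : d = d' := Subtype.ext (mul_left_cancel h2)
  rw [h5]

/-- **the line bound** -/
theorem index_le_line [Finite G] (h : EPS H N e) {c r : ℕ} (hc : 0 < c)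
    (hM : ∀ x, x ∉ H → c ≤ Nat.card (N ⊓ cj x H : Subgroup G))
    (hr : {M : Subgroup G | ∃ x, x ∉ H ∧ M = H ⊓ cj x H}.ncard ≤ r) :
    H.index ≤ 1 + r * (2 * (Nat.card N / c)) := by
  have := h.ep.faithful
  have hst : ∀ x : G, stabilizer G (x : G ⧸ H) = cj x H := by
    intro x
    have h1 : (x : G ⧸ H) = x • ((1 : G) : G ⧸ H) := by
      rw [MulAction.Quotient.smul_coe, smul_eq_mul, mul_one]
    rw [h1, stab_smul, MulAction.stabilizer_quotient]
  -- `|H| ≤ (|N| / c) |M|`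
  have key : ∀ x, x ∉ H → Nat.card H ≤ Nat.card N / c * Nat.card (H ⊓ cj x H : Subgroup G) := by
    intro x hx
    have h1 := card_fac h hx
    have h2 : Nat.card (N ⊓ cj x H : Subgroup G) ∣ Nat.card N := Subgroup.card_dvd_of_le inf_le_left
    obtain ⟨d, hd⟩ := h2
    have h3 : 0 < Nat.card (N ⊓ cj x H : Subgroup G) := Nat.card_pos
    have h4 : Nat.card H ≤ d * Nat.card (H ⊓ cj x H : Subgroup G) := by
      rw [hd, mul_assoc, mul_comm (Nat.card H)] at h1
      exact Nat.le_of_mul_le_mul_left h1 h3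
    refine h4.trans (Nat.mul_le_mul_right _ ?_)
    rw [Nat.le_div_iff_mul_le hc, hd, mul_comm]
    exact Nat.mul_le_mul_right _ (hM x hx)
  have hMne : ∀ x, x ∉ H → H ⊓ cj x H ≠ ⊥ := by
    intro x hx h0
    obtain ⟨a, b, hab⟩ := h.nab
    have hi : Fin k := ⟨0, h.pos⟩
    have ha : zpowers (inj e hi a) ≤ H := by
      rw [zpowers_le]
      exact h.le (inj_mem_N e hi a)
    rcases h.ep.two x hx _ (by rw [h0]; exact bot_le) ha with h1 | h1
    · rw [h0, zpowers_eq_bot] at h1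
      have h2 : a = 1 := inj_injective e hi (by rw [h1, map_one])
      apply hab
      rw [h2, one_mul, mul_one]
    · have h2 : inj e hi b ∈ zpowers (inj e hi a) := by
        rw [h1]
        exact h.le (inj_mem_N e hi b)
      obtain ⟨n, hn⟩ := h2
      apply hab
      apply inj_injective e hi
      rw [map_mul, map_mul, ← hn]
      exact (Commute.refl (inj e hi a)).zpow_right n
  have h1 := Cfsg.Agent.H173.EP.card_le_line (G := G) (Ω := G ⧸ H) h.ep.toEPA (D := Nat.card N / c) (by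
    intro p q hpq
    obtain ⟨y, rfl⟩ := QuotientGroup.mk_surjective p
    obtain ⟨z, rfl⟩ := QuotientGroup.mk_surjective q
    have hx : y⁻¹ * z ∉ H := by
      intro h1
      apply hpq
      rw [eq_comm, QuotientGroup.eq]
      exact h1
    have h2 := key _ hx
    have h3 : stabilizer G (y : G ⧸ H) = cj y H := hst y
    have h4 : stabilizer G (y : G ⧸ H) ⊓ stabilizer G (z : G ⧸ H) = cj y (H ⊓ cj (y⁻¹ * z) H) := by
      rw [hst, hst, cj_inf, ← cj_mul, mul_inv_cancel_left]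
    rw [h4, h3]
    rw [card_cj, card_cj]
    exact h2) ((1 : G) : G ⧸ H) (by
    intro b hb
    obtain ⟨z, rfl⟩ := QuotientGroup.mk_surjective b
    have hz : z ∉ H := by
      intro h1
      apply hb
      rw [eq_comm, QuotientGroup.eq, inv_one, one_mul]
      exact h1
    rw [MulAction.stabilizer_quotient, hst]
    exact hMne z hz)
  rw [EP.twoSet_eq] at h1
  refine h1.trans ?_
  have h2 : (EP.twoSet H).ncard ≤ r := hr
  gcongr

end Cfsg.Agent.H896.EPX
end

-- part: H896/EPX/Two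
section
/-!
# S5745, `k = 2`: the line bound in terms of the admissible subgroups of `T` (helper896)

`card_le_two` : if the admissible subgroups of `T` have order at least `c ≥ 1`, `c ^ 2 ≤ |T|`, and there are at most `a`
of them, then `|G| ≤ 2 |Aut T| ^ 2 (1 + (a ^ 2 + |Aut T|) (2 |T| ^ 2 / c ^ 2))`.
-/

set_option autoImplicit false
set_option linter.unusedSectionVars false

namespace Cfsg.Agent.H896.EPX

open MulAction Subgroup Cfsg.Agent.H284 Cfsg.Agent.H209.EPX Cfsg.Agent.H758.EPX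
open Cfsg.Agent.H417.EP (Adm)

/-- the members of `LocK` are admissible -/
theorem adm_of_locK {L : Type*} [Group L] [Finite L] {K : Subgroup L} (hK : K ∈ Cfsg.Agent.H273.EPU.LocK L)
    (ht : K ≠ ⊤) : Adm K where
  ne_bot := hK.1
  ne_top := ht
  norm := by
    intro X hX hX0 hinv g hg
    have hY : (X.subgroupOf K).Characteristic := by
      rw [Subgroup.characteristic_iff_le_comap]
      intro φ y hy
      exact hinv φ y hy
    have hm : (X.subgroupOf K).map K.subtype = X := Subgroup.map_subgroupOf_eq_of_le hX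
    have hY0 : X.subgroupOf K ≠ ⊥ := by
      intro h0
      apply hX0
      rw [← hm, h0, Subgroup.map_bot]
    have h1 := hK.2 _ hY hY0
    rw [hm] at h1
    exact h1 (mem_normalizer_fintype hg)

theorem ncard_locK_le {L L' : Type*} [Group L] [Group L'] [Finite L'] (f : L ≃* L') :
    (Cfsg.Agent.H273.EPU.LocK L \ {⊤}).ncard ≤ {K : Subgroup L' | Adm K}.ncard := by
  refine Set.ncard_le_ncard_of_injOn (fun K => K.map f.toMonoidHom) ?_ ?_ (Set.toFinite _)
  · rintro K ⟨hK, ht⟩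
    refine adm_of_locK (Cfsg.Agent.H273.EPU.map_mem_locK f hK) ?_
    intro h0
    apply ht
    rw [Set.mem_singleton_iff, eq_top_iff]
    intro x _
    have h1 : f x ∈ K.map f.toMonoidHom := by rw [h0]; exact mem_top _
    obtain ⟨y, hy, hxy⟩ := h1
    have h2 : y = x := f.injective hxy
    exact h2 ▸ hy
  · intro K _ K' _ h
    exact Subgroup.map_injective f.injective h

variable {G : Type*} [Group G] {H N : Subgroup G} {T : Type} [Group T] {e : N ≃* (Fin 2 → T)}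

/-- the intersections `N ∩ H^x` -/
theorem card_inf_ge [Finite G] (h : EPS H N e) (hsch : Cfsg.Agent.Schreier.Basic.Sch T) {L : Type*} [Group L]
    (f : T ≃* L) {c : ℕ} (hc : ∀ K : Subgroup L, Adm K → c ≤ Nat.card K) (hc2 : c * c ≤ Nat.card L) {x : G}
    (hx : x ∉ H) : c * c ≤ Nat.card (N ⊓ cj x H : Subgroup G) := by
  have hfin : Finite T := Finite.of_injective _ (inj_injective e ⟨0, h.pos⟩)
  have hfinL : Finite L := Finite.of_equiv T f.toEquiv
  by_cases h0 : ∃ i, Kt e H x i ≠ ⊥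
  · obtain ⟨i, hi⟩ := h0
    have hk : ∀ j, c ≤ Nat.card (Kt e H x j) := by
      intro j
      have h1 := EPS.mem_LocK h hx (EPS.Kt_ne h hx hi j)
      have h2 := EPS.Kt_ne_top h hx j
      have h3 : Adm ((Kt e H x j).map f.toMonoidHom) := by
        refine adm_of_locK (Cfsg.Agent.H273.EPU.map_mem_locK f h1) ?_
        intro h0
        apply h2
        rw [eq_top_iff]
        intro x' _
        have h1 : f x' ∈ (Kt e H x j).map f.toMonoidHom := by rw [h0]; exact mem_top _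
        obtain ⟨y, hy, hxy⟩ := h1
        have h2 : y = x' := f.injective hxy
        exact h2 ▸ hy
      have h4 := hc _ h3
      rwa [Subgroup.card_map_of_injective f.injective] at h4
    calc c * c ≤ Nat.card (Kt e H x 0) * Nat.card (Kt e H x 1) := Nat.mul_le_mul (hk 0) (hk 1)
      _ = Nat.card (Kt e H x 0 × Kt e H x 1) := (Nat.card_prod _ _).symm
      _ ≤ Nat.card (N ⊓ cj x H : Subgroup G) := by
        refine Nat.card_le_card_of_injective (fun p => (⟨inj e 0 p.1 * inj e 1 p.2,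
          N.mul_mem (inj_mem_N e 0 _) (inj_mem_N e 1 _), (cj x H).mul_mem p.1.2 p.2.2⟩ : (N ⊓ cj x H : Subgroup G))) ?_
        rintro ⟨a, b⟩ ⟨a', b'⟩ hab
        have h1 : inj e 0 (a : T) * inj e 1 (b : T) = inj e 0 (a' : T) * inj e 1 (b' : T) := congrArg Subtype.val hab
        have h2 : (⟨inj e 0 (a : T), inj_mem_N e 0 _⟩ : N) * ⟨inj e 1 (b : T), inj_mem_N e 1 _⟩ =
            ⟨inj e 0 (a' : T), inj_mem_N e 0 _⟩ * ⟨inj e 1 (b' : T), inj_mem_N e 1 _⟩ := Subtype.ext h1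
        have h3 := congrArg e h2
        rw [map_mul, map_mul, e_inj, e_inj, e_inj, e_inj] at h3
        have h4 := congrFun h3 0
        have h5 := congrFun h3 1
        simp only [Pi.mul_apply, Pi.mulSingle_eq_same] at h4 h5
        rw [Pi.mulSingle_eq_of_ne (by decide), Pi.mulSingle_eq_of_ne (by decide), mul_one, mul_one] at h4
        rw [Pi.mulSingle_eq_of_ne (by decide), Pi.mulSingle_eq_of_ne (by decide), one_mul, one_mul] at h5
        exact Prod.ext (Subtype.ext h4) (Subtype.ext h5)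
  · push Not at h0
    have hD := EPS.Dt_ne_bot h hsch (by norm_num) hx
    have hS := EPS.subdirect h hx h0 hD
    choose d hd hdt using hS 0
    refine hc2.trans ?_
    rw [← Nat.card_congr f.toEquiv]
    refine Nat.card_le_card_of_injective (fun t => (⟨((e.symm (d t) : N) : G), (e.symm (d t)).2, hd t⟩ :
      (N ⊓ cj x H : Subgroup G))) ?_
    intro t t' htt
    have h1 : e.symm (d t) = e.symm (d t') :=
      Subtype.ext (congrArg (fun z : (N ⊓ cj x H : Subgroup G) => (z : G)) htt)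
    have h2 := e.symm.injective h1
    rw [← hdt t, ← hdt t', h2]

/-- **the bound for `soc(H) = T²`** -/
theorem card_le_two [Finite G] (h : EPS H N e) (hsch : Cfsg.Agent.Schreier.Basic.Sch T) {L : Type*} [Group L]
    (f : T ≃* L) {c a A l : ℕ} (hc0 : 0 < c) (hc : ∀ K : Subgroup L, Adm K → c ≤ Nat.card K) (hl : Nat.card L = l)
    (hc2 : c * c ≤ l) (ha : {K : Subgroup L | Adm K}.ncard ≤ a) (hA : Nat.card (MulAut L) ≤ A) :
    Nat.card G ≤ (2 * A ^ 2) * (1 + (a ^ 2 + A) * (2 * (l ^ 2 / (c * c)))) := by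
  have hfin : Finite T := Finite.of_injective _ (inj_injective e ⟨0, h.pos⟩)
  have hfinL : Finite L := Finite.of_equiv T f.toEquiv
  have hTL : Nat.card T = l := by rw [Nat.card_congr f.toEquiv, hl]
  have hAT : Nat.card (MulAut T) ≤ A := by rwa [Nat.card_congr (MulAut.congr f).toEquiv]
  have hN : Nat.card N = l ^ 2 := by
    rw [Nat.card_congr e.toEquiv, Nat.card_fun, Nat.card_fin, hTL]
  have h1 : {M : Subgroup G | ∃ x, x ∉ H ∧ M = H ⊓ cj x H}.ncard ≤ a ^ 2 + A := by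
    refine (EPS.ncard_total h hsch (by norm_num)).trans (add_le_add ?_ ?_)
    · exact Nat.pow_le_pow_left ((ncard_locK_le f).trans ha) 2
    · exact (Sub.ncard_Dg_two h.simple h.nab).trans hAT
  have h2 := index_le_line h (c := c * c) (Nat.mul_pos hc0 hc0)
    (fun x hx => card_inf_ge h hsch f hc (by rw [hl]; exact hc2) hx) h1
  rw [hN] at h2
  have h3 := card_H_le h
  have h4 : Nat.card H ≤ 2 * A ^ 2 := by
    refine h3.trans ?_
    have : (2 : ℕ).factorial = 2 := rfl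
    rw [this]
    exact Nat.mul_le_mul_left _ (Nat.pow_le_pow_left hAT 2)
  rw [← Subgroup.card_mul_index H]
  exact Nat.mul_le_mul h4 h2

end Cfsg.Agent.H896.EPX
end

-- part: H896/EPX/ASixTwo
section
/-!
# S5745, `soc(H) = A₆ × A₆`: `|G| < 10 ^ 15` (helper896)

This removes `F₄(2)` (`|F₄(2)| = 3311126603366400`) and `³D₄(4)` (`|³D₄(4)| = 67802350642790400`).
-/

set_option autoImplicit false

namespace Cfsg.Agent.H896.EPX

open Subgroup Equiv Equiv.Perm Cfsg.Agent.H284 Cfsg.Agent.H209.EPX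
open Cfsg.Agent.H417.EP (Adm)
open Cfsg.Agent.H417.EP.Six (A6)

theorem sch_A6 : Cfsg.Agent.Schreier.Basic.Sch A6 := by
  intro C hC
  rw [← hC, Subgroup.commutator_le]
  intro α _ β _
  rw [commutatorElement_def]
  refine Cfsg.Agent.H417.EP.Six.out_comm (fun z hz => Cfsg.Agent.H417.EP.Six.center_A6 z hz) ?_ α β
  rw [Cfsg.Agent.H417.EP.Six.card_aut, Cfsg.Agent.H417.EP.Six.card_A6]

/-- the admissible subgroups of `A₆` have order at least `8` -/
theorem adm_ge {K : Subgroup A6} (hK : Adm K) : 8 ≤ Nat.card K := by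
  rcases Cfsg.Agent.H417.EP.Six.adm_ty hK with ⟨⟨e⟩⟩ | ⟨⟨e⟩⟩ | ⟨⟨e⟩⟩ | ⟨⟨e⟩⟩ | ⟨hc, -⟩
  · rw [Nat.card_congr e.toEquiv, DihedralGroup.nat_card]
  · rw [Nat.card_congr e.toEquiv, DihedralGroup.nat_card]
    norm_num
  · rw [Nat.card_congr e.toEquiv, Nat.card_perm, Nat.card_fin]
    decide
  · have h : 2 * Nat.card (alternatingGroup (Fin 5)) = Nat.card (Perm (Fin 5)) :=
      two_mul_nat_card_alternatingGroup (α := Fin 5)
    rw [Nat.card_perm, Nat.card_fin] at h
    have h1 : Nat.factorial 5 = 120 := by decide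
    rw [Nat.card_congr e.toEquiv]
    omega
  · rw [hc]
    norm_num

variable {G : Type*} [Group G] {H N : Subgroup G} {T : Type} [Group T] {e : N ≃* (Fin 2 → T)}

/-- **`soc(H) = A₆ × A₆` implies `|G| < 10 ^ 15`** -/
theorem card_lt_aSix_two [Finite G] (h : EPS H N e) (f : T ≃* alternatingGroup (Fin 6)) : Nat.card G < 10 ^ 15 := by
  have h1 := card_le_two h (Cfsg.Agent.Schreier.Basic.Sch.of_equiv f.symm sch_A6) (L := A6) f (c := 8) (a := 166)
    (A := 1440) (l := 360) (by norm_num) (fun K hK => adm_ge hK) Cfsg.Agent.H417.EP.Six.card_A6 (by norm_num)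
    Cfsg.Agent.H417.EP.Six.ncard_adm Cfsg.Agent.H417.EP.Six.card_aut.le
  exact h1.trans_lt (by norm_num)

end Cfsg.Agent.H896.EPX
end

-- part: H896/EPX/ASixKill
section
/-!
# S5745, row `k.f4.2+td4.4.A6^2`: `soc(H) = A₆ × A₆` in `F₄(q)` (all `q`) and `³D₄(q)`, `q ≥ 4` (helper896)
-/

set_option autoImplicit false

namespace Cfsg.Agent.H896.EPX

open Cfsg Cfsg.Agent.H284 Cfsg.Agent.H209.EPX

/-- `F₄(q)`, any `q` -/
theorem f4_aSix {F : Type*} [Field F] [Fintype F] {H N : Subgroup ↥(Lie.chevF4.group F)} {T : Type} [Group T]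
    {e : N ≃* (Fin 2 → T)} (h : EPS H N e) (f : T ≃* alternatingGroup (Fin 6)) : False := by
  have h1 := Cfsg.Agent.S1062.result (F := F) rfl
  have h2 : 2 ≤ Fintype.card F := Fintype.one_lt_card
  generalize Fintype.card F = q at h1 h2
  have hfin : Finite ↥(Lie.chevF4.group F) := by
    apply Nat.finite_of_card_ne_zero
    rw [h1]
    have e2 : 2 ^ 2 ≤ q ^ 2 := Nat.pow_le_pow_left h2 2
    have e6 : 2 ^ 6 ≤ q ^ 6 := Nat.pow_le_pow_left h2 6
    have e8 : 2 ^ 8 ≤ q ^ 8 := Nat.pow_le_pow_left h2 8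
    have e12 : 2 ^ 12 ≤ q ^ 12 := Nat.pow_le_pow_left h2 12
    have e24 : 2 ^ 24 ≤ q ^ 24 := Nat.pow_le_pow_left h2 24
    have : 0 < q ^ 24 * (q ^ 2 - 1) * (q ^ 6 - 1) * (q ^ 8 - 1) * (q ^ 12 - 1) := by
      refine Nat.mul_pos (Nat.mul_pos (Nat.mul_pos (Nat.mul_pos ?_ ?_) ?_) ?_) ?_ <;> omega
    omega
  have h3 := card_lt_aSix_two h f
  have h4 : 2 ^ 24 * (2 ^ 2 - 1) * (2 ^ 6 - 1) * (2 ^ 8 - 1) * (2 ^ 12 - 1) ≤
      q ^ 24 * (q ^ 2 - 1) * (q ^ 6 - 1) * (q ^ 8 - 1) * (q ^ 12 - 1) := by gcongr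
  rw [← h1] at h4
  norm_num at h4
  omega

/-- `³D₄(q)`, `q ≥ 4` -/
theorem td4_aSix {K : Type*} [Field K] [Fintype K] {q : ℕ} (hq : IsPrimePow q) (hK : Fintype.card K = q ^ 3)
    (hq4 : 4 ≤ q) {H N : Subgroup ↥(Lie.twistedD4 K q)} {T : Type} [Group T]
    {e : N ≃* (Fin 2 → T)} (h : EPS H N e) (f : T ≃* alternatingGroup (Fin 6)) : False := by
  have h1 := Cfsg.Agent.S1067.result hq hK
  have h4 : 4 ^ 12 * (4 ^ 2 - 1) * (4 ^ 6 - 1) * (4 ^ 8 + 4 ^ 4 + 1) ≤
      q ^ 12 * (q ^ 2 - 1) * (q ^ 6 - 1) * (q ^ 8 + q ^ 4 + 1) := by gcongr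
  rw [← h1] at h4
  norm_num at h4
  have hfin : Finite ↥(Lie.twistedD4 K q) := by
    apply Nat.finite_of_card_ne_zero
    omega
  have h3 := card_lt_aSix_two h f
  omega

end Cfsg.Agent.H896.EPX
end

private theorem dce_4b51ae978d1a : _root_.True := by
  try have : _root_.True := by simp only [_root_.Cfsg.Agent.H938.EPK.F4W.ln.eq_1]
  try have : _root_.True := by simp only [_root_.Cfsg.Agent.H938.EPK.F4W.dt.eq_1]
  exact _root_.True.intro
end

-- part: H938/EPK/F4Seven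
section
set_option linter.all false
open scoped Cfsg.Agent.FastGrp

/-!
# The centralizers of the elements of order `7` of `F₄(2)` and `F₄(4)` (S5745, CrossK; helper938)

`cent7` : `|C(x)| ≤ (q ^ 2 + q + 1) ^ 2 q ^ 3 (1 + q) (1 + q + q ^ 2)`; `cent7_two`, `cent7_four` : the numbers.
-/

set_option autoImplicit false
set_option linter.unusedSectionVars false

namespace Cfsg.Agent.H938.EPK.F4W

open CoxeterSystem Cfsg Cfsg.Lie Cfsg.Lie.ChevalleyDatum
open Cfsg.Agent.ChevalleyStructure Cfsg.Agent.ChevalleyStructure.Elts Cfsg.Agent.ChevalleyStructure.CoxeterGeom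
  Cfsg.Agent.ChevalleyStructure.CoxeterGeomTypes Cfsg.Agent.ChevalleyStructure.NPerm
open Cfsg.Agent.Tits.Roots Cfsg.Agent.Tits.Core Cfsg.Agent.Nodes Cfsg.Agent.Nodes.Reps Cfsg.Agent.Nodes.BNOf
  Cfsg.Agent.Nodes.RGDChev
open Cfsg.Agent.GpExc.Field Cfsg.Agent.BpExc.Tow Cfsg.Agent.BpExc.TowChev Cfsg.Agent.BpExc.Fr
open Cfsg.Agent.BpExc Cfsg.Agent.H129.TorusChar Cfsg.Agent.H130.WeylCk Cfsg.Agent.H130.WeylTab
  Cfsg.Agent.H972.CS Cfsg.Agent.H972.CS.Main Cfsg.Agent.H972.CS.Torus Cfsg.Agent.H129.TorusMain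
  Cfsg.Agent.H129.TorusUntw Cfsg.Agent.H795.Untw Cfsg.Agent.H765.KE

universe u

/-- `|C(x)| ≤ (q ^ 2 + q + 1) ^ 2 q ^ 3 (1 + q) (1 + q + q ^ 2)` for `x` of order `7` in `F₄(q)`, `q = 2, 4` -/
theorem cent7 {F : Type u} [Field F] [Fintype F] (hq : Fintype.card F = 2 ∨ Fintype.card F = 4)
    {x : ↥(chevF4.group F)} (hx : orderOf x = 7) :
    Nat.card (Subgroup.centralizer ({x} : Set ↥(chevF4.group F))) ≤
      (Fintype.card F ^ 2 + Fintype.card F + 1) ^ 2 * (Fintype.card F ^ 3 *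
        (1 + 2 * Fintype.card F + 2 * Fintype.card F ^ 2 + Fintype.card F ^ 3)) := by
  classical
  obtain ⟨r, e, hr, hrF, hrk, he, hqe, hk⟩ := exists_closure (F := F) rfl
  have h7 : Fact (Nat.Prime 7) := ⟨by norm_num⟩
  have hr7 : 7 ≠ r := by
    rintro rfl
    have h1 : 7 ∣ Fintype.card F := hqe ▸ dvd_pow_self 7 he.ne'
    rcases hq with h2 | h2 <;> · rw [h2] at h1; norm_num at h1
  have hset := setup_untw hF hk (algebraMap F (AlgebraicClosure F)) he hqe invC_F4 one_ne_zero (Or.inl rfl) (p := 7)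
    (by norm_num)
  have hW : ¬ 7 ∣ Nat.card W4 := by rw [card_W4]; norm_num
  have hGf : Finite ↥(chevF4.group F) := inferInstance
  have hP : IsPGroup 7 (Subgroup.zpowers x) := IsPGroup.of_card (n := 1) (by rw [Nat.card_zpowers, hx, pow_one])
  obtain ⟨S, hS⟩ := hP.exists_le_sylow
  obtain ⟨z, hz⟩ := toral hF hk hr7 hW (emb hF.inList (algebraMap F (AlgebraicClosure F))) S
  have hxS := hz x (hS (Subgroup.mem_zpowers x))
  obtain ⟨f, hf, hf0, w, hw, hb⟩ := bound_setup hk hset invC_F4 one_ne_zero h7.out hr7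
    (Rf := {f | f = fn 392 ∨ f = fn 8 ∨ f = 0 ∨ ¬ ∃ w : W4, ∀ y, f (rp w y) = Fintype.card F • f y}) (fun f => by
      have h1 : f.comp (rep CoxeterMatrix.F₄.toCoxeterSystem hF.isCartan 1).toAddMonoidHom = f := by
        rw [map_one]; rfl
      by_cases h0 : f = 0
      · exact ⟨1, by rw [h1]; exact Or.inr (Or.inr (Or.inl h0))⟩
      · by_cases h2 : ∃ w : W4, ∀ y, f (rp w y) = Fintype.card F • f y
        · obtain ⟨w, hw⟩ := h2
          obtain ⟨v, hv⟩ := exists_word hq h0 hw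
          exact ⟨v, hv.elim Or.inl fun h => Or.inr (Or.inl h)⟩
        · exact ⟨1, by rw [h1]; exact Or.inr (Or.inr (Or.inr h2))⟩) (by rw [← hx, pow_orderOf_eq_one])
    (by rintro rfl; rw [orderOf_one] at hx; norm_num at hx) rfl hxS
  rw [← hqe] at hw hb
  rcases hf with rfl | rfl | hf | hf
  · exact (hb _ (cov (a := 0) (b := 1) (Or.inl ⟨rfl, rfl, rfl⟩) _ w)).trans
      (val_le (Or.inl ⟨rfl, rfl, rfl⟩) hq hw)
  · exact (hb _ (cov (a := 2) (b := 3) (Or.inr ⟨rfl, rfl, rfl⟩) _ w)).trans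
      (val_le (Or.inr ⟨rfl, rfl, rfl⟩) hq hw)
  · exact absurd hf hf0
  · exact absurd ⟨w, fun y => hw.mul y⟩ hf

/-- `F₄(2)` : `|C(x)| ≤ 8232` -/
theorem cent7_two {F : Type u} [Field F] [Fintype F] (hq : Fintype.card F = 2)
    {x : ↥(chevF4.group F)} (hx : orderOf x = 7) :
    Nat.card (Subgroup.centralizer ({x} : Set ↥(chevF4.group F))) ≤ 8232 := by
  have h := cent7 (Or.inl hq) hx
  rw [hq] at h
  exact h.trans (by norm_num)

/-- `F₄(4)` : `|C(x)| ≤ 2963520` -/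
theorem cent7_four {F : Type u} [Field F] [Fintype F] (hq : Fintype.card F = 4)
    {x : ↥(chevF4.group F)} (hx : orderOf x = 7) :
    Nat.card (Subgroup.centralizer ({x} : Set ↥(chevF4.group F))) ≤ 2963520 := by
  have h := cent7 (Or.inr hq) hx
  rw [hq] at h
  exact h.trans (by norm_num)

end Cfsg.Agent.H938.EPK.F4W
end

-- part: H938/EPK/F4X
section
set_option linter.all false
open scoped Cfsg.Agent.FastGrp

/-!
# Functionals modulo `13` on the root lattice of type `F₄` (S5745, CrossK; helper938)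

The functional `f : ℤ^4 →+ ZMod 13` has the code `n = ∑ f (sr j) 13 ^ j < 28561`.

* `Qf_eq_zero` : the functionals `f` with `f ∘ w = 4 f` are isotropic;
* `exists_word` : they are conjugate to one of five codes (`f ≠ 0`);
* `pt` : for an isotropic code the first letter of a word to its representative (three bits of a numeral).
-/

set_option autoImplicit false
set_option linter.unusedSectionVars false

namespace Cfsg.Agent.H938.EPK.F4X

open CoxeterSystem Cfsg Cfsg.Lie Cfsg.Lie.ChevalleyDatum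
open Cfsg.Agent.ChevalleyStructure Cfsg.Agent.ChevalleyStructure.Elts Cfsg.Agent.ChevalleyStructure.CoxeterGeom
  Cfsg.Agent.ChevalleyStructure.CoxeterGeomTypes Cfsg.Agent.ChevalleyStructure.NPerm
open Cfsg.Agent.Tits.Roots Cfsg.Agent.Tits.Core Cfsg.Agent.Nodes Cfsg.Agent.Nodes.Reps Cfsg.Agent.Nodes.BNOf
  Cfsg.Agent.Nodes.RGDChev
open Cfsg.Agent.BpExc Cfsg.Agent.H129.TorusChar Cfsg.Agent.H130.WeylCk Cfsg.Agent.H130.WeylTab
open Cfsg.Agent.H938.EPK.F4W (W4 c4 hF rp finW4 card_W4)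

/-- the digits -/
def dg (n j : ℕ) : ℕ := n / 13 ^ j % 13

/-- the code with given digits -/
def mk4 (a b c d : ℕ) : ℕ := a + b * 13 + c * 169 + d * 2197

theorem dg_lt (n j : ℕ) : dg n j < 13 := Nat.mod_lt _ (by norm_num)

theorem dg_mk4 {a b c d : ℕ} (ha : a < 13) (hb : b < 13) (hc : c < 13) (hd : d < 13) :
    dg (mk4 a b c d) 0 = a ∧ dg (mk4 a b c d) 1 = b ∧ dg (mk4 a b c d) 2 = c ∧ dg (mk4 a b c d) 3 = d := by
  unfold dg mk4
  refine ⟨?_, ?_, ?_, ?_⟩ <;> norm_num <;> omega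

theorem mk4_dg {n : ℕ} (hn : n < 28561) : mk4 (dg n 0) (dg n 1) (dg n 2) (dg n 3) = n := by
  unfold dg mk4
  norm_num
  omega

theorem mk4_lt {a b c d : ℕ} (ha : a < 13) (hb : b < 13) (hc : c < 13) (hd : d < 13) : mk4 a b c d < 28561 := by
  unfold mk4; omega

/-- minus the Cartan matrix modulo `13` -/
def mt : List (List ℕ) := [[11, 1, 0, 0], [1, 11, 2, 0], [0, 1, 11, 1], [0, 0, 1, 11]]

def mm (i j : ℕ) : ℕ := (mt.getD i []).getD j 0

/-- the reflection on codes -/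
def rs (i n : ℕ) : ℕ :=
  mk4 ((dg n 0 + mm i 0 * dg n i) % 13) ((dg n 1 + mm i 1 * dg n i) % 13) ((dg n 2 + mm i 2 * dg n i) % 13)
    ((dg n 3 + mm i 3 * dg n i) % 13)

theorem rs_lt (i n : ℕ) : rs i n < 28561 :=
  mk4_lt (Nat.mod_lt _ (by norm_num)) (Nat.mod_lt _ (by norm_num)) (Nat.mod_lt _ (by norm_num))
    (Nat.mod_lt _ (by norm_num))

theorem dg_rs (n i : ℕ) (j : Fin 4) : dg (rs i n) j = (dg n j + mm i j * dg n i) % 13 := by
  obtain ⟨h0, h1, h2, h3⟩ := dg_mk4 (a := (dg n 0 + mm i 0 * dg n i) % 13) (b := (dg n 1 + mm i 1 * dg n i) % 13)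
    (c := (dg n 2 + mm i 2 * dg n i) % 13) (d := (dg n 3 + mm i 3 * dg n i) % 13) (Nat.mod_lt _ (by norm_num))
    (Nat.mod_lt _ (by norm_num)) (Nat.mod_lt _ (by norm_num)) (Nat.mod_lt _ (by norm_num))
  fin_cases j
  · exact h0
  · exact h1
  · exact h2
  · exact h3

/-- the functional with code `n` -/
def fn (n : ℕ) : (Fin 4 → ℤ) →+ ZMod 13 :=
  AddMonoidHom.mk' (fun x => ∑ j : Fin 4, ((x j : ℤ) : ZMod 13) * ((dg n j : ℕ) : ZMod 13)) fun x y => by
    rw [← Finset.sum_add_distrib]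
    exact Finset.sum_congr rfl fun j _ => by rw [Pi.add_apply, Int.cast_add, add_mul]

theorem fn_apply (n : ℕ) (x : Fin 4 → ℤ) :
    fn n x = ∑ j : Fin 4, ((x j : ℤ) : ZMod 13) * ((dg n j : ℕ) : ZMod 13) := rfl

theorem fn_sr (n : ℕ) (i : Fin 4) : fn n (sr i) = ((dg n i : ℕ) : ZMod 13) := by
  rw [fn_apply, Finset.sum_eq_single i]
  · rw [sr_self, Int.cast_one, one_mul]
  · intro j _ hj
    rw [sr_ne hj, Int.cast_zero, zero_mul]
  · intro h
    exact absurd (Finset.mem_univ i) h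

theorem hom_ext {f g : (Fin 4 → ℤ) →+ ZMod 13} (h : ∀ i, f (sr i) = g (sr i)) : f = g := by
  refine AddMonoidHom.ext fun x => ?_
  rw [IsMC.eq_sum_sr x, map_sum, map_sum]
  refine Finset.sum_congr rfl fun i _ => ?_
  rw [map_zsmul, map_zsmul, h i]

/-- the code of a functional -/
def code (f : (Fin 4 → ℤ) →+ ZMod 13) : ℕ := mk4 (f (sr 0)).val (f (sr 1)).val (f (sr 2)).val (f (sr 3)).val

theorem code_lt (f : (Fin 4 → ℤ) →+ ZMod 13) : code f < 28561 :=
  mk4_lt (ZMod.val_lt _) (ZMod.val_lt _) (ZMod.val_lt _) (ZMod.val_lt _)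

theorem dg_code (f : (Fin 4 → ℤ) →+ ZMod 13) (j : Fin 4) : dg (code f) j = (f (sr j)).val := by
  obtain ⟨h0, h1, h2, h3⟩ := dg_mk4 (ZMod.val_lt (f (sr 0))) (ZMod.val_lt (f (sr 1))) (ZMod.val_lt (f (sr 2)))
    (ZMod.val_lt (f (sr 3)))
  fin_cases j
  · exact h0
  · exact h1
  · exact h2
  · exact h3

theorem fn_code (f : (Fin 4 → ℤ) →+ ZMod 13) : fn (code f) = f := by
  refine hom_ext fun i => ?_
  rw [fn_sr, dg_code, ZMod.natCast_zmod_val]

theorem code_fn {n : ℕ} (hn : n < 28561) : code (fn n) = n := by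
  have h : ∀ j : Fin 4, (fn n (sr j)).val = dg n j := fun j => by
    rw [fn_sr, ZMod.val_natCast, Nat.mod_eq_of_lt (dg_lt n j)]
  unfold code
  rw [h 0, h 1, h 2, h 3]
  exact mk4_dg hn

theorem cast_A : ∀ i j : Fin 4, ((cartanOf chevF4 4 i j : ℤ) : ZMod 13) + ((mm i j : ℕ) : ZMod 13) = 0 := by
  decide +kernel

theorem rep_sr (f : (Fin 4 → ℤ) →+ ZMod 13) (i j : Fin 4) :
    f (rp (c4.simple i) (sr j)) = f (sr j) - ((cartanOf chevF4 4 i j : ℤ) : ZMod 13) * f (sr i) := by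
  change f (rep c4 hF.isCartan (c4.simple i) (sr j)) = _
  rw [rep_simple_eq, map_sub, map_zsmul]
  have h1 : pairing (cartanOf chevF4 4) i (sr j) = cartanOf chevF4 4 i j := by
    unfold pairing
    rw [Finset.sum_eq_single j]
    · rw [sr_self, mul_one]
    · intro k _ hk
      rw [sr_ne hk, mul_zero]
    · intro h
      exact absurd (Finset.mem_univ j) h
  rw [h1, zsmul_eq_mul]

theorem comp_simple (n : ℕ) (i : Fin 4) (x : Fin 4 → ℤ) : fn n (rp (c4.simple i) x) = fn (rs i n) x := by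
  refine DFunLike.congr_fun (hom_ext (f := (fn n).comp (rp (c4.simple i)).toAddMonoidHom) (g := fn (rs i n)) fun j => ?_) x
  change fn n (rp (c4.simple i) (sr j)) = _
  rw [rep_sr, fn_sr, fn_sr, fn_sr, dg_rs, ZMod.natCast_mod, Nat.cast_add, Nat.cast_mul]
  linear_combination (-(((dg n i : ℕ) : ZMod 13))) * cast_A i j

/-- a word on codes -/
def aw : List (Fin 4) → ℕ → ℕ
  | [], n => n
  | i :: L, n => aw L (rs i n)

theorem aw_lt : ∀ (L : List (Fin 4)) {n : ℕ}, n < 28561 → aw L n < 28561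
  | [], _, h => h
  | i :: L, n, _ => aw_lt L (rs_lt i n)

theorem comp_word : ∀ (L : List (Fin 4)) (n : ℕ) (x : Fin 4 → ℤ), fn n (rp (c4.wordProd L) x) = fn (aw L n) x
  | [], n, x => by
    rw [CoxeterSystem.wordProd_nil]
    change fn n (rep c4 hF.isCartan 1 x) = _
    rw [map_one, Module.End.one_apply]
    rfl
  | i :: L, n, x => by
    rw [CoxeterSystem.wordProd_cons, rep_mul_apply]
    have h := comp_simple n i (rp (c4.wordProd L) x)
    rw [h, comp_word L (rs i n) x]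
    rfl

/-- the quadratic form -/
def qp (a b c d : ZMod 13) : ZMod 13 :=
  2 * (a * a) + 6 * (a * b) + 4 * (a * c) + 2 * (a * d) + 6 * (b * b) + 8 * (b * c) + 4 * (b * d) + 3 * (c * c) +
    3 * (c * d) + d * d

/-- the quadratic form on functionals -/
def Qf (f : (Fin 4 → ℤ) →+ ZMod 13) : ZMod 13 := qp (f (sr 0)) (f (sr 1)) (f (sr 2)) (f (sr 3))

theorem cartan_F4 : ∀ i j : Fin 4, cartanOf chevF4 4 i j =
    (![![2, -1, 0, 0], ![-1, 2, -2, 0], ![0, -1, 2, -1], ![0, 0, -1, 2]] : Fin 4 → Fin 4 → ℤ) i j := by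
  decide +kernel

theorem Qf_simple (f : (Fin 4 → ℤ) →+ ZMod 13) (i : Fin 4) : Qf (f.comp (rp (c4.simple i)).toAddMonoidHom) = Qf f := by
  have h : ∀ j, (f.comp (rp (c4.simple i)).toAddMonoidHom) (sr j) =
      f (sr j) - ((cartanOf chevF4 4 i j : ℤ) : ZMod 13) * f (sr i) := fun j => rep_sr f i j
  unfold Qf
  rw [h 0, h 1, h 2, h 3, cartan_F4, cartan_F4, cartan_F4, cartan_F4]
  unfold qp
  fin_cases i <;> simp <;> ring

theorem Qf_word (f : (Fin 4 → ℤ) →+ ZMod 13) : ∀ L : List (Fin 4),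
    Qf (f.comp (rp (c4.wordProd L)).toAddMonoidHom) = Qf f
  | [] => by
    have h : f.comp (rep c4 hF.isCartan (c4.wordProd [])).toAddMonoidHom = f := by
      rw [CoxeterSystem.wordProd_nil, map_one]; rfl
    exact congrArg Qf h
  | i :: L => by
    have h : f.comp (rep c4 hF.isCartan (c4.wordProd (i :: L))).toAddMonoidHom =
        (f.comp (rp (c4.simple i)).toAddMonoidHom).comp (rp (c4.wordProd L)).toAddMonoidHom := by
      refine AddMonoidHom.ext fun x => ?_
      change f (rep c4 hF.isCartan (c4.wordProd (i :: L)) x) = _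
      rw [CoxeterSystem.wordProd_cons, rep_mul_apply]
      rfl
    exact (congrArg Qf h).trans ((Qf_word _ L).trans (Qf_simple f i))

/-- the eigenfunctionals are isotropic -/
theorem Qf_eq_zero {f : (Fin 4 → ℤ) →+ ZMod 13} {w : W4} (h : ∀ y, f (rp w y) = 4 • f y) : Qf f = 0 := by
  obtain ⟨L, rfl⟩ := c4.wordProd_surjective w
  have h1 := Qf_word f L
  have h2 : Qf (f.comp (rp (c4.wordProd L)).toAddMonoidHom) = 16 * Qf f := by
    have e : ∀ j, (f.comp (rp (c4.wordProd L)).toAddMonoidHom) (sr j) = 4 * f (sr j) := fun j => by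
      have := h (sr j)
      rw [nsmul_eq_mul] at this
      exact this
    unfold Qf
    rw [e 0, e 1, e 2, e 3]
    unfold qp
    ring
  rw [h2] at h1
  have h3 : (15 : ZMod 13) * Qf f = 0 := by linear_combination h1
  have h4 : ∀ t : ZMod 13, 15 * t = 0 → t = 0 := by decide +kernel
  exact h4 _ h3

/-- the quadratic form on digits -/
def qn (a b c d : ℕ) : ℕ := (2 * (a * a) + 6 * (a * b) + 4 * (a * c) + 2 * (a * d) + 6 * (b * b) + 8 * (b * c) +
  4 * (b * d) + 3 * (c * c) + 3 * (c * d) + d * d) % 13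

/-- the quadratic form on codes -/
def Qn (n : ℕ) : ℕ := qn (dg n 0) (dg n 1) (dg n 2) (dg n 3)

theorem Qn_code (f : (Fin 4 → ℤ) →+ ZMod 13) : ((Qn (code f) : ℕ) : ZMod 13) = Qf f := by
  unfold Qn qn
  rw [ZMod.natCast_mod]
  have h : ∀ j : Fin 4, ((dg (code f) j : ℕ) : ZMod 13) = f (sr j) := fun j => by
    rw [dg_code, ZMod.natCast_zmod_val]
  have h0 := h 0
  have h1 := h 1
  have h2 := h 2
  have h3 := h 3
  unfold Qf qp
  rw [← h0, ← h1, ← h2, ← h3]
  push_cast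
  rfl

theorem Qn_eq_zero {f : (Fin 4 → ℤ) →+ ZMod 13} {w : W4} (h : ∀ y, f (rp w y) = 4 • f y) : Qn (code f) = 0 := by
  have h1 := Qn_code f
  rw [Qf_eq_zero h, ZMod.natCast_eq_zero_iff] at h1
  have h2 : Qn (code f) < 13 := Nat.mod_lt _ (by norm_num)
  exact Nat.eq_zero_of_dvd_of_lt h1 h2

/-- multiplication by `q` on codes -/
def mq (q n : ℕ) : ℕ := mk4 (q * dg n 0 % 13) (q * dg n 1 % 13) (q * dg n 2 % 13) (q * dg n 3 % 13)

theorem fn_mq (q n : ℕ) (x : Fin 4 → ℤ) : fn (mq q n) x = q • fn n x := by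
  have h : fn (mq q n) = (AddMonoidHom.mulLeft ((q : ℕ) : ZMod 13)).comp (fn n) := by
    refine hom_ext fun j => ?_
    change _ = ((q : ℕ) : ZMod 13) * fn n (sr j)
    rw [fn_sr, fn_sr]
    have h1 : dg (mq q n) j = q * dg n j % 13 := by
      obtain ⟨h0, h1, h2, h3⟩ := dg_mk4 (a := q * dg n 0 % 13) (b := q * dg n 1 % 13) (c := q * dg n 2 % 13)
        (d := q * dg n 3 % 13) (Nat.mod_lt _ (by norm_num)) (Nat.mod_lt _ (by norm_num)) (Nat.mod_lt _ (by norm_num))
        (Nat.mod_lt _ (by norm_num))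
      fin_cases j
      · exact h0
      · exact h1
      · exact h2
      · exact h3
    rw [h1, ZMod.natCast_mod, Nat.cast_mul]
  rw [h]
  change ((q : ℕ) : ZMod 13) * fn n x = _
  rw [nsmul_eq_mul]

theorem mq_lt (q n : ℕ) : mq q n < 28561 :=
  mk4_lt (Nat.mod_lt _ (by norm_num)) (Nat.mod_lt _ (by norm_num)) (Nat.mod_lt _ (by norm_num))
    (Nat.mod_lt _ (by norm_num))

/-- the letters, three bits for each code (`4` at the representatives) -/
def tab : ℕ := 0x30006000000006000030000000000000120000000000000000000000000000036000000000000020000100000000100020000000000000000000000000000000000004000000000000000000000000000020020000000000d80000000180000000c00000000d80000000000004000000800000000000000000000020000000000c00030000000000184000100000000000000000100020000030c00010000002000000002010804000000004000000800020800000c0018000000000090000010010000000000000000000000000000000000000000000010010000000000000003000000000400000010010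0020000000000c06000000100000000000000000000000000000180000000000000000000000006c00000000000000000000000020000000000000000000000000104c00030000000030000c06000000030000000000000000000000000000000080002000020100000000000000000000000000002010000100004000000000000000000000000004004000000000000c00000000000000000c06000000030000000000000000030000000000000000000000000480000000000000000000000006000000000000000000000000030c00000000000000000030010002000000000080400000010000000000000002002000000000000000000000000000000000000000000000000000000000000000000000c00000000000400000080000000080420100000000100000020000410000010002000000000024000002000080000000000c30000000000000000000000000000000000000000000080080000000004800000000800000004000000004800000000000020000004000000000000000000000000000000000004000000000000000000000010002000000002000010000000000000090000000000000000000000000000000000000000000030000000000000000030000000000000000000000810000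000000010400000000000020000020000000000000000000100000000000000000000000000000000c00000000000000000000000006000000000000000030180000000000000000000000000000000002000000000000000002000002000000000000186000000000000000000000000006000006000000000000900000000100000000800000000900000000000006000000c00000000000000000000030000000000000c000000000000000000000000000060068200000000200000008000000000000000009001b0000000000000000030000000c00000000c30000000000000000000000000000000000000000000000000000180030000000000000000000000000000000c00000000000030180000000000000000010000400000000000000400000180030000000000000000000000004000000800004000000000000820000000000000000000000000000000000004000800100000100000000000000000000000000000020800000000000100004000000800000000804180000000000c000001800061800000800100000000000b0000010000400000000004180006000004800000000006000c00000000000180000000000000120000000000c00000000006100004000004c000000000040008000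00410000800000100000000180820100000000100000020000820000000000104000000000000000000000000000000000000400080010000010000000000000000000000000000004100000000000000000100000020000000000000000000000000000c00000180000000000000000004000020000000000000402000000000000000000c00030000000000000020000006000000000000000000000000000000000000000000000000000000004100000000100000004000000000000000004800900000000000000000100000004000000004100000000000000000000000000000000100000000000002000000000000000000000000000020020000000000900000000100000000800000000900000000000000000000c00000180000000000000000000000000080080000000000000400400000000000000000000000000c00000000180000000000000000000000000000000180000000000006000c00000000c00006000000000000012000000000000000000000000000006c00000000000006000000000000000006000000000000000000000000000000000000000000030080000c0003000000000000000000000000003003000000000000018018000000000000000000000000000000600003018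0000800000000000000000800020800000c00180000000000480000180006000000000020800020000036000000000020004000006180006000000c00000000c06000000000000020100000000000000000020000800000000000000400000100020000000000000000000000000020004000000800000000000000000000000100000000800000000000000000000000000410000000000000400000400000000000000000402000000000000000000000000000000020000000000000000000000000024000000000000000000000000000000080000400000000000000000000000000402004000000004000000004000000000000000000004000000000800000800000000800800000090000000000000000000000000000000000000000000000000000000000000000900000020000000000000000020000000000000000000000000000006000000000000000006c04020000000000000000000000000020000100000000000000000000000000100800800000000800000000800000100800000000000000000000000000000004020000000000000000020000020000000000000820000000000020800000000000020000020000000000000000000000000010000002000400000000000000000000000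000400080000020000000000000000000000004000000000000000000000000000000000100004000000006000186000002000400000000002400000400010000000000086000180000120000000000180030000000000020000004000000004020c00000000000000000000186000000000000000000000000000000000006000030000800800000000030030000800004000000000000000000000000000000000004100000000000000010000000000000400000000000000000000000000002002000000000120000000020000000100000000120000000000000000000180000000000000006006000000000090000000010000000080000000090000000000000800000100000000000000000000006000000000000100000000000000000000000000000000000000000000000000000000002000180180000000002002000180000c00000000000000000000000000000000000c30000000000000000000000000000000000030030000000000000000000000000000000000000000000030030000000000000006000000000800000020030006000000000180c00000020000000000000000000000000000000030c00000000000180000c00000180000c000000000001860000000000000000000000000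00000000000c00180030000030000000800000000000000000000000000402006000000006000000006000000000000000000004000000000000000004804000000000000000000000000000100000800030000000000000800800000000180000000000000000000000000000000000082000000000000000820000000000000000000000000000000000000000000000000000000000082000000000000000c30000000000000000000000000000000000030000180004000000000000180180000000020000000000000000000000000100800c00000000c00000000c00000000000000000000800000000000000000900804000000000000000000000000004000020000000000000000000006000000000000000000000000000000820000000000002000020000004000010000000000004100000000000000000000000000000000000000006000000000c00000180000000002010000000400000000000000080080000000000000000000000000000000000000000000180000000000000000000000000000000000000030000000000000000000000000000002400000000000000000030000000010002000000000000000000000000000000c00000000000000000c00010c00000c0018000000000048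0000180006000000000020c00000000024000000000030006000006180004000000800000000804180000000000000000180000000000000000000082000000002000000080000000000000000090024000000000000000004000000100000000104000000000000000000000000000000000000c06080000000000000000080002080000100020000000000090000030000800000000006180000000006c00000000000000c00000830000c00000180000006000c00000000000000000000000000000180030000000010000180000000000000d80000000000000000000000000000180000000000000180000c00000000000000000900000000000000000000000004000000000000000000000000020900004000000004000100800000004000000000000000004000000000000000820000800000100000000100830180000000180000030000410000020004000000000036000004000100000000000820000000000900000000000000100000000000000000000030000000000000000030000000000080000080000000080080000012000000000000000000000000000000000000000000000000000000000000000000000000000000000000000000010000080004004000000000080080004000020000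0000000000000000000000000000000208000000000000000000000000000000000000000000000000000001b0000004004000000004000004000000000030000030000000030030000004800000000000000000000000000004800000800020000000000182000080000120000000000080010000020800020000004000000004020804000000004000000800000000000800100000180000000000000000000000000c32000080000000080002010000000080000000000000000080000000000000000000000000000000000000000000000000000000000000000000c00000000410000000000000000000000000000000000000000000000000104000000004000000100000000000000000120030000000000000030000000000c06000000080000000000000010010000000000000000000000000000000000000000000030000000000000000006000000000000000030180030000000000000000000000000030006000000800000000000000000020000100000000000006030000000000000000004000100000000000000100000000000000000000000080000000000002010000000000000000002000080000000000000080000030000000000000000000000000000000000c000000000000000000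10000000000000006006000000000000000000000000000000000000000000006006000000000000000c00000000000000006006000c00000000030182400000000000000000400000010000000010400000000000000000000000000000000000000000000000006180000000180000006000000000000000006c00000c06000000000800000000000000000000000000400400000000000006006000000000000000000000000006000180000800000000000000000000000000000000000820000800000d80000000000800100000186000180000030000000030184030000000020000004000104000006000c00000000006800000c00030000000000800000000000000000000c00000000000000000d80c06000000000000000000000000006000030000000000000000000000000030180100000000100c00000000000000000000000000000000030000000000000000000000000010080100000000100000000100000000000000000000100000000000000000120180000000000000030000010400030000006000000002030804000000004000000800010400000800000000000000900000000004000000000020c0000000000000000000002010000000003000000000000000000000000001001000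0000000000100100000000000000000000000000100004000030000000000000000000000000c00000000000000006000000002002000000480000000000000000000000000000000000000000000000000000000000000006000000180000000000000000000000000186c00030000000030000c04000000020000000000000000020000000000000000000000000d80000000000000000000000006000000000000000000000000000010400000000000080000400000080000400000000000082000000000000000000000000000000000000000180000000030000000000000000000010000000000000000000000000080000000000004100000000000082000000000000100000100000000000000000100800000000000000000000000000c00180030000030000000000000000000000000000004100000000000030000100000020000180000000000020800000000000000000000000000000000000000000000000000000090000000000000000000000000c000000000000000000000000061b0000000000000000030180000000c00000000000000000c000000320000000000000000000000000000000000000000000000000000000000000001b0000006006000000000000006000000000030000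030000000030030000000000000000004120000800000000800020100000000800000000000000000800000000000000000000000024000000000000000000000000100000000000000000000000000000c30000000000002000030000006000010000000000006180000000000000000000000000000000000000004000000000800000000000000000000c00000000000000000000000006000000000000186000000000002080000000000006000006000000000000000006030000000000000000000000000020004000800000800000000000000000000000000000104000000000000800004000000800004000000000000820000000000000000000000000000000000000000000000000000002400000000000000000000000010000000000000000000000000082800000000000000000804000000020000000000000000020000000880000000000000000000000000000000000000000000000000000000000000004800000100100000000000000100000000000800000800000000800800004020000000006000000000000000000000000002002000000000000020020000000000000000000000000020000800006000000000000000000000000000000000006180006000002400000000006000c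00000820000400000080000000080420100000000100000020000c30000020004000000000024000004000100000000006000000000000000000002000000000000000002404020000000000000000000000000020000100000000000000000000000000100800c00000000c00000000000000000000000000000000000080000000000000000000000000080400800000000800000000800000000000000000000c00000000000000000d80000000000000000080000082000080000010000000010084020000000020000004000082000006000000000000004800000000030000000000180000000000000000000000180c00000000080000000000000000000000000080080000000000000c00c00000000000000000000000000c0003000000000000000000000000000000200000000000000001000000001001000000240000000000000000000000000000000000000000000000000000000000000000000000000000000000000010000000000402000000040000000000000008008000000000000000000000000000000000000000000010000000000000000002000000000000000010080010000000000000000000000000010002000000600000000000000000010000080000000000002010000000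0000000000030000c00000000000000800000000000000000000000c00000000000010080000000000000000010000400000000000000400000100000000000000000000000000000000004000000000000000000080000000000000020020000000000000000000000000000000000000000000020020000000000000004000000000000000020020004000000000100836000000000000000006000000180000000186000000000000000000000000000000000000000000000000020800000000800000020000000000000000024000000000000000900000000000000000000000004000000000000000000000000020900004000000004000100800000004000000000000000004000000000000000820000c00000180000000180c10080000000080000010000410000020004000000000012000004000100000000000830000000000d80000000000000180000000000000000000010000000000000000010000000000080000080000000080080000012000000000000000000000000000000000000000000000000000000000000000000000000000000000000000000010000080004004000000000080080004000020000000000000000000000000000000000020800000000000000000000000000000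000000000000000000000000120000004004000000004000004000000000020000020000000020020000004800000000000000000000000000006c00000c00030000000000082000080000120000000000080010000030c00020000004000000004020c06000000006000000c00000000000c001800000800000000000000000000000004120000800000000800020300000001800000000000000001800000000000000000000000000000000000000000000000000000000000000000004000000004100000000000000000000000000000000000000000000000001860000000060000001800000000000000001b0000000000000010400000800100000000000480000100004000000000020000000000036000000000010002000004100006000000c00000000c061000000000000000001000000000000000000001860000000060000001800000000000000001b00240000000000000000040000001000000001040000000000000000000000000000000000008041800000000000000001800020800001000200000000000900000200008000000000021000000000048000000000000008000008200008000001000000040008000000000000000000000000000001000200000000100001000000000000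00900000000000000000000000000000100000000000000100000800000000000000004004000000000000000000000000000000000000000000004004000000000000000800000000100000004004000800000000020100000004000000000000000000000000000000002080000000000020000080000010000100000000000010400000000000000000000000000000000000100020004000004000000180000000000000000000000000080400400000000400000000400000000000000000000800000000000000000900c00000000000000000000000000030000180000000000000000180180000000010000000000000000000000000000000000010400000000000000186000000000000000000000000000000000000000000000000000000000010400000000000000104000000000000000000000000000000000004000020000c00000000000020020000000006000000000000000000000000030180080000000080000000080000000000000000000100000000000000000120180c00000000000000000000000000c0000600000000000000000000040000000000000000000000000000010400000000000040000400000080000200000000000082000000000000000000000000000000000000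0001000000000080000010000000000402000000080000000000000010010000000000000000000000000000000000000000000000000000000000000000000000000000000000002000000000000000000000000000000480000000000000000000000000002000400000000000000000000000000000000000000000000000200000000000006000000000000080000000000000000000000000000c00c00000000024000000004000000020000000024000000000000000000020000000000000000800800000000036000000006000000030000000036000000000000100000020000000000000000000000800000000000020000000000000000000000000000000000000000000000000000000000c00020020000000000400400020000100000000000000000000000000000000000104000000000000000c00000030000000000000000030000820000020004000000000012000004000100000000000820000800000900000000000800100000104000100000020000000020100000000000000804000000000000000000c00030000000000000010000004000800000000000000000000000000800100000030000000000000000000000006000000030000000000000000000000000010400000000000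010000010000000000000000010080000000000000000000000000000000c00000000000000000000000000d80000000000000000000000000000002000010000000000000000000000000010080100000000100000000100000000000000000000180000000030000030000000030030000002400000000000000000000000000000000000000000000000000000000000000036000000c00000000000000000c00000000000000000000000000000080000000000000000090100800000000000000000000000000800004000000000000000000000000004020030000000030000000030000006030000000000000000000000000000000100800000000000000000800000800000000000030c00000000000820000000000000c00000c00000000000000000000000000400000080010000000000000000000000000010002000000c00000000000000000000000180000000000000000000000000000000006000180000000080004100000080010000000000090000010000400000000006100004000006c00000000004000800000000000c00000180000000180c000000000000000000000020800000000000000000000000000000000000800004000300300000000004004000300001800000000000000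00000000000000000000186000000000000100020000000020000100000000000000480000000000000000000000000000120000000000000100000000000000000100000000000000000000000000000000000000000000802000020000800000000000000000000000000800800000000000004004000000000000000000000000000000100000804000000000000006c00000000c00000006000000006c00000000000010000002000000000000000000000100000000000002000000000000000000000000000020026180000000180000006000000000000000006c00480000000000000000080000002000000002080000000000000000000000000000000000000000000000000000800100000000000000000000000000000002000000000000100800000000000000000080002000000000000002000000800100000000000000000000000030000006000020000000000006180000000000000000000000000000000000020004000800000800000000000000000000000000000186000000000000800030000006000000006030000000000002000000400020800000400080000000000480000080002000000000020800020000036000000000020004000000000000000000000000000d8000000000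2000000000010800020000024000000000020004000002080004000000800000000804180c00000000c00000180004100000000000c30000000000000000000000000000000000002000400080000080000000000000000000000000000030c00000000000000000c00000180000000000000000000000000002000000800000000000000000020000100000000000002010000000000000000004000100000000000000100000000000000000000000000000000000000000000000000000000000000020800000000800000020000000000000000024006c00000000000000000c00000030000000030c00000000000000000000000000000000800000000000010000000000000000000000000000100100000000006c00000000c00000006000000006c00000000000000000008000000400000000000000000000000000400400000000000002002000000000000000000000000000000000000000000000000000000000000000000001000000000000000000100800000000000000000000000000000000030000000000000000010000010000000000000820000000000030000000000000020000020020004000000004000020000000000000120000000000000000000000000000024000000000000020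0001000000001000200000000000000000000000000000000000040000000000000000000000000000300300000000004800000000800000004000000004800000000000040000008000000000000000000000300000000008000200000000001040001800000000000000001000200000208000100000020000000020108040000000040000008000308000008001000000000009000001001000000000000000000000000000000000000000000001001000000000000000200000000040000001001000200000000008040000001000000000000000000000000000001000000000000000000000000048000000000000000000000000200000000000000000000000001048000200000000200008040000000200000000000000000000000000000000800020000201000000000000000000000000000020100001000040000000000000000000000000040040000000000000000000000000000004020000000100000000000000000100000000000000000000000004800000000000000000000000040000000000000000000000000208000000000000000000100100020000000000804000000100000000000000020020000000000000000000000000000000000000000000000000000000000000000000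00400000c00000400000080000000080420100000000100000020000410000030006000000000024000002000180000000000800000000000000000000000000000000000000000000080080000000004800000000800000004000000004800000000000030000006000000000000000000000000000000000006000000000000000000000010002000000002000010000000000000090000000000000000000000000000000000000000000000000000000000000040000000000000000000000c1000000000001040000000000003000003000000000000000000018000000000000000000000000000000000000000000000000000000000800041000000000002080000000000000000000000000000000000000008000000000000000000000000000000080400000000000000000400000400000000000000000000000010010000000000000080080000000000000000000000000080002000010080000000000000000000000000002010000080002000000000000000000000000000000000400002000000000000000002002000040000200000000000000000000000000000000000208000000000000002080000000000000000000480000000000000400002000000002000400000000000000000000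000000000080010000000010000080000000000000480000000000000000000000000000000000000000000000000000000000000000200000008000000000000000009002400000000000000000400000010000000010400000000000000000000000000000000000000000000000000000000000000000000000480000010010000000010000010000000000080000080000000080080000012000000000000000000000000000000000000000008000000000040000040000000040040000009000000000000000000000000000000000000000000000000000000000000000000000000000000000040000001000000000000000001200480000000000000000080000002000000002080000000000000000000000000000000000000000000000000000008000000000000008000040000000040008000000000000000000000000000000000000000000200001000000000000000000000000000000000008200000000000000082000000000000000000000000000000000002000010000000000000000010010000200001000000000000000000000000000000000000008000040200000000000000000000000000008040000200008000000000000000000000000000000000000000000000000000000000000000000000001000001000000000000000001008000000000000000000000000000000080400000000000000000400000400000000000000000000000000410000000000000200008000009000000000008001000001040000000000000000000201000000000000200000040000000000000000000000000100000000000800000000000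

/-- the letter of a code -/
def pt (n : ℕ) : ℕ := (tab >>> (3 * n)) &&& 7

/-- the representative of a code -/
def red : ℕ → ℕ → ℕ
  | 0, n => n
  | k + 1, n => if pt n < 4 then red k (rs (pt n) n) else n

theorem red_word : ∀ (k n : ℕ), ∃ L : List (Fin 4), aw L n = red k n
  | 0, n => ⟨[], rfl⟩
  | k + 1, n => by
    unfold red
    split_ifs with h
    · obtain ⟨L, hL⟩ := red_word k (rs (pt n) n)
      exact ⟨⟨pt n, h⟩ :: L, hL⟩
    · exact ⟨[], rfl⟩

/-- the representatives -/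
def isR (m : ℕ) : Bool := m == 4563 || m == 9126 || m == 15 || m == 30 || m == 2380 || m == 8789 || m == 2199 ||
  m == 4398

/-- the check for one code -/
def Cv (a b c d : ℕ) : Prop := (mk4 a b c d = 0 ∨ qn a b c d ≠ 0) ∨ isR (red 24 (mk4 a b c d)) = true

instance (a b c d : ℕ) : Decidable (Cv a b c d) :=
  inferInstanceAs (Decidable ((mk4 a b c d = 0 ∨ qn a b c d ≠ 0) ∨ isR (red 24 (mk4 a b c d)) = true))

private noncomputable def fr {β : Type} (x : ℕ) (f : ℕ → β) : β := Nat.rec (f 0) (fun n _ => f (Nat.succ n)) x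

private theorem fr_eq {β : Type} (x : ℕ) (f : ℕ → β) : fr x f = f x := by cases x <;> rfl

private def rsG (p q r s x a b c d : ℕ) : ℕ :=
  Nat.add (Nat.add (Nat.add (Nat.mod (Nat.add a (Nat.mul p x)) 13) (Nat.mul (Nat.mod (Nat.add b (Nat.mul q x)) 13) 13))
    (Nat.mul (Nat.mod (Nat.add c (Nat.mul r x)) 13) 169)) (Nat.mul (Nat.mod (Nat.add d (Nat.mul s x)) 13) 2197)

private noncomputable def dgs {β : Type} (n : ℕ) (f : ℕ → ℕ → ℕ → ℕ → β) : β :=
  fr (Nat.mod (Nat.div n 1) 13) fun a => fr (Nat.mod (Nat.div n 13) 13) fun b => fr (Nat.mod (Nat.div n 169) 13) fun c =>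
    fr (Nat.mod (Nat.div n 2197) 13) fun d => f a b c d

private theorem dgs_eq {β : Type} (n : ℕ) (f : ℕ → ℕ → ℕ → ℕ → β) : dgs n f = f (dg n 0) (dg n 1) (dg n 2) (dg n 3) := by
  simp only [dgs, fr_eq]
  rfl

private noncomputable def rsF (i n : ℕ) : ℕ := dgs n fun a b c d =>
  Nat.rec (rsG 11 1 0 0 a a b c d) (fun i _ => Nat.rec (rsG 1 11 2 0 b a b c d) (fun i _ =>
    Nat.rec (rsG 0 1 11 1 c a b c d) (fun _ _ => rsG 0 0 1 11 d a b c d) i) i) i

private theorem rs_eq {i : ℕ} (h : i < 4) (n : ℕ) : rs i n = rsF i n := by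
  rw [rsF, dgs_eq]
  match i, h with
  | 0, _ | 1, _ | 2, _ | 3, _ => rfl

private noncomputable def redF (k : ℕ) : ℕ → ℕ :=
  Nat.rec (fun n => n) (fun _ ih n => fr (Nat.land (Nat.shiftRight tab (Nat.mul 3 n)) 7) fun p =>
    cond (Nat.blt p 4) (fr (rsF p n) ih) n) k

private theorem red_eq (k : ℕ) : ∀ n, red k n = redF k n := by
  induction k with
  | zero => exact fun _ => rfl
  | succ k ih =>
    intro n
    show (if pt n < 4 then red k (rs (pt n) n) else n) = fr (pt n) fun p => cond (Nat.blt p 4) (fr (rsF p n) (redF k)) n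
    rw [fr_eq, fr_eq]
    split_ifs with h
    · rw [Nat.blt_eq.mpr h, ih, rs_eq h, cond_true]
    · rw [Bool.eq_false_iff.2 fun e => h (Nat.blt_eq.mp e), cond_false]

private noncomputable def lp (f : ℕ → Bool) (n : ℕ) : Bool := Nat.rec true (fun i ih => cond (f i) ih false) n

private theorem lp_spec {f : ℕ → Bool} {n : ℕ} (h : lp f n = true) : ∀ i < n, f i = true := by
  induction n with
  | zero => exact fun _ h => absurd h (Nat.not_lt_zero _)
  | succ n ih =>
    have h1 : cond (f n) (lp f n) false = true := h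
    cases e : f n with
    | false => rw [e] at h1; cases h1
    | true => rw [e] at h1; exact fun i hi => (Nat.lt_succ_iff_lt_or_eq.1 hi).elim (ih h1 i) fun q => q ▸ e

private noncomputable def al (f : ℕ → Bool) (l : List ℕ) : Bool := List.rec true (fun a _ ih => cond (fr a f) ih false) l

private theorem al_spec {f : ℕ → Bool} {l : List ℕ} (h : al f l = true) : ∀ a ∈ l, f a = true := by
  induction l with
  | nil => exact fun _ h => absurd h List.not_mem_nil
  | cons b l ih =>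
    have h1 : cond (fr b f) (al f l) false = true := h
    rw [fr_eq] at h1
    cases e : f b with
    | false => rw [e] at h1; cases h1
    | true => rw [e] at h1; exact fun i hi => (List.mem_cons.1 hi).elim (fun q => q ▸ e) (ih h1 i)

private noncomputable def mb (l : List ℕ) (t : ℕ) : Bool := List.rec false (fun a _ ih => cond (Nat.beq a t) true ih) l

private theorem mb_spec {l : List ℕ} {t : ℕ} (h : mb l t = true) : t ∈ l := by
  induction l with
  | nil => cases h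
  | cons a l ih =>
    have h1 : cond (Nat.beq a t) true (mb l t) = true := h
    cases e : Nat.beq a t with
    | true => exact Nat.eq_of_beq_eq_true e ▸ List.mem_cons_self
    | false => rw [e] at h1; exact List.mem_cons_of_mem _ (ih h1)

private theorem clo {l : List ℕ} (h : al (fun n => lp (fun i => fr (rsF i n) (mb l)) 4) l = true) :
    ∀ n ∈ l, ∀ i : Fin 4, rs i n ∈ l := fun n hn i => by
  have h1 := lp_spec (al_spec h n hn) i i.2
  rw [fr_eq, ← rs_eq i.2] at h1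
  exact mb_spec h1

private def qF (a b c d : ℕ) : ℕ := Nat.mod (Nat.add (Nat.add (Nat.add (Nat.add (Nat.add (Nat.add (Nat.add (Nat.add (Nat.add
  (Nat.mul 2 (Nat.mul a a)) (Nat.mul 6 (Nat.mul a b))) (Nat.mul 4 (Nat.mul a c))) (Nat.mul 2 (Nat.mul a d))) (Nat.mul 6 (Nat.mul b b)))
  (Nat.mul 8 (Nat.mul b c))) (Nat.mul 4 (Nat.mul b d))) (Nat.mul 3 (Nat.mul c c))) (Nat.mul 3 (Nat.mul c d))) (Nat.mul d d)) 13

private theorem cv : lp (fun o => lp (fun i => fr (Nat.add (Nat.mul 169 o) i) fun n =>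
    cond (Nat.beq (dgs n qF) 0) (cond (Nat.beq n 0) true (isR (redF 24 n))) true) 169) 169 = true := by decide +kernel

theorem cover {n : ℕ} (hn : n < 28561) (h0 : n ≠ 0) (h : Qn n = 0) : isR (red 24 n) = true := by
  have h1 := lp_spec (lp_spec cv (n / 169) (by omega)) (n % 169) (by omega)
  rwa [fr_eq, show Nat.add (Nat.mul 169 (n / 169)) (n % 169) = n from Nat.div_add_mod n 169, dgs_eq,
    show qF (dg n 0) (dg n 1) (dg n 2) (dg n 3) = 0 from h, Nat.beq_refl, cond_true,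
    Bool.eq_false_iff.2 fun e => h0 (Nat.eq_of_beq_eq_true e), cond_false, ← red_eq] at h1

private theorem orb {l : List ℕ} {m : ℕ} (h : al (fun n => Nat.beq (redF 24 n) m && Nat.blt n 28561) l = true) :
    ∀ n ∈ l, red 24 n = m ∧ n < 28561 := fun n hn => by
  have h1 := al_spec h n hn
  rw [Bool.and_eq_true, ← red_eq] at h1
  exact ⟨Nat.eq_of_beq_eq_true h1.1, Nat.blt_eq.mp h1.2⟩

/-- the orbits without eigenfunctionals -/
def oX : List ℕ :=
  [696, 697, 781, 786, 798, 805, 1106, 1110, 1122, 1130, 1178, 1179, 1200, 1201, 1249, 1257, 1269, 1273, 1574, 1581,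
  1593, 1598, 1682, 1683, 5078, 5174, 5179, 5582, 5642, 5650, 7268, 7280, 7292, 7617, 7761, 7762, 8789, 8796, 8808,
  8813, 8897, 8898, 9222, 9282, 9290, 9360, 9361, 9385, 9894, 9906, 9918, 9984, 9989, 10057, 10314, 10321, 10381,
  10382, 10466, 10471, 13190, 13194, 13290, 13291, 13339, 13347, 13742, 13754, 13766, 13962, 13963, 13987, 14366,
  14370, 14382, 14390, 14438, 14439, 14763, 14859, 14864, 15054, 15062, 15163, 15380, 15384, 15396, 15404, 15452,
  15453, 15777, 15873, 15878, 16068, 16076, 16177, 16401, 16405, 16501, 16502, 16550, 16558, 16953, 16965, 16977,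
  17173, 17174, 17198, 19778, 19785, 19845, 19846, 19930, 19935, 20450, 20457, 20469, 20474, 20558, 20559, 20883,
  20943, 20951, 21021, 21022, 21046, 21555, 21567, 21579, 21645, 21650, 21718, 23154, 23166, 23178, 23503, 23647,
  23648, 25189, 25285, 25290, 25693, 25753, 25761]

def oY : List ℕ :=
  [203, 205, 301, 304, 328, 336, 951, 952, 976, 986, 998, 1000, 1379, 1381, 1393, 1403, 1427, 1428, 2043, 2051, 2075,
  2078, 2174, 2176, 2199, 2207, 2231, 2234, 2330, 2332, 2980, 3016, 3026, 3148, 3172, 3183, 3419, 3421, 3456, 3575,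
  3578, 3624, 4228, 4236, 4272, 4274, 4370, 4373, 8967, 9087, 9090, 10143, 10179, 10189, 10995, 10996, 11116, 11118,
  11130, 11140, 11284, 11286, 11321, 12183, 12207, 12218, 12339, 12340, 12364, 12374, 12386, 12388, 12532, 12542,
  12665, 13036, 13156, 13159, 14536, 14560, 14571, 15221, 15353, 15355, 15550, 15574, 15585, 16235, 16367, 16369,
  17578, 17579, 17603, 17613, 17625, 17627, 17771, 17781, 17904, 18275, 18395, 18398, 18431, 18432, 18552, 18554,
  18566, 18576, 18720, 18722, 18757, 19619, 19643, 19654, 20628, 20748, 20751, 21804, 21840, 21850, 26367, 26375,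
  26411, 26413, 26509, 26512, 26535, 26543, 26567, 26570, 26666, 26668, 27316, 27352, 27362, 27484, 27508, 27519,
  27755, 27757, 27792, 27911, 27914, 27960]

def oZ : List ℕ :=
  [393, 397, 433, 439, 487, 490, 561, 565, 589, 596, 644, 646, 1733, 1735, 1783, 1790, 1814, 1818, 1889, 1892, 1940,
  1946, 1982, 1986, 2539, 2587, 2596, 3896, 4004, 4008, 4398, 4401, 4449, 4455, 4491, 4495, 4641, 4645, 4702, 4953,
  4959, 5038, 5791, 5863, 5870, 6127, 6175, 6184, 6259, 6262, 6334, 6338, 6374, 6380, 6595, 6597, 6645, 6652, 6676,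
  6680, 6981, 6988, 7078, 7976, 8060, 8066, 8288, 8290, 8374, 8378, 8402, 8409, 8480, 8528, 8537, 8710, 8714, 8771,
  12682, 12766, 12772, 12850, 12922, 12929, 17921, 18005, 18011, 18089, 18161, 18168, 21977, 21979, 22063, 22067,
  22091, 22098, 22169, 22217, 22226, 22399, 22403, 22460, 22481, 22483, 22531, 22538, 22562, 22566, 22867, 22874,
  22964, 23862, 23946, 23952, 24173, 24176, 24248, 24252, 24288, 24294, 24509, 24512, 24560, 24566, 24602, 24606,
  24752, 24756, 24813, 25064, 25070, 25149, 25902, 25974, 25981, 26238, 26286, 26295, 26875, 26923, 26932, 28232,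
  28340, 28344]

theorem oX_ck : (∀ n ∈ oX, ∀ i : Fin 4, rs i n ∈ oX) ∧ 8789 ∈ oX ∧ mq 4 8789 ∉ oX :=
  ⟨clo (by decide +kernel), by decide +kernel⟩

theorem oY_ck : (∀ n ∈ oY, ∀ i : Fin 4, rs i n ∈ oY) ∧ 2199 ∈ oY ∧ mq 4 2199 ∉ oY :=
  ⟨clo (by decide +kernel), by decide +kernel⟩

theorem oZ_ck : (∀ n ∈ oZ, ∀ i : Fin 4, rs i n ∈ oZ) ∧ 4398 ∈ oZ ∧ mq 4 4398 ∉ oZ :=
  ⟨clo (by decide +kernel), by decide +kernel⟩

theorem aw_mem {o : List ℕ} (ho : ∀ n ∈ o, ∀ i : Fin 4, rs i n ∈ o) : ∀ (L : List (Fin 4)) {n : ℕ}, n ∈ o → aw L n ∈ o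
  | [], _, h => h
  | i :: L, n, h => aw_mem ho L (ho n h i)

theorem not_eig {o : List ℕ} {m : ℕ} (hm' : m < 28561) (h : (∀ n ∈ o, ∀ i : Fin 4, rs i n ∈ o) ∧ m ∈ o ∧ mq 4 m ∉ o)
    (w : W4) : ¬ ∀ y, fn m (rp w y) = 4 • fn m y := by
  intro h0
  obtain ⟨L, rfl⟩ := c4.wordProd_surjective w
  have h1 : fn (aw L m) = fn (mq 4 m) := AddMonoidHom.ext fun x => by rw [← comp_word, fn_mq, h0]
  have h2 := congrArg code h1
  rw [code_fn (aw_lt L hm'), code_fn (mq_lt _ _)] at h2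
  exact h.2.2 (h2 ▸ aw_mem h.1 L h.2.1)

/-- the five codes -/
def Rp (m : ℕ) : Prop := m = 4563 ∨ m = 9126 ∨ m = 15 ∨ m = 30 ∨ m = 2380

/-- **The eigenfunctionals.** -/
theorem exists_word {f : (Fin 4 → ℤ) →+ ZMod 13} (hf : f ≠ 0) {w : W4}
    (h : ∀ y, f (rp w y) = 4 • f y) : ∃ (v : W4) (m : ℕ), Rp m ∧ f.comp (rp v).toAddMonoidHom = fn m := by
  have h0 : code f ≠ 0 := by
    intro h1
    apply hf
    rw [← fn_code f, h1]
    refine hom_ext fun i => ?_
    rw [fn_sr]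
    unfold dg
    simp
  have h1 := cover (code_lt f) h0 (Qn_eq_zero h)
  obtain ⟨L, hL⟩ := red_word 24 (code f)
  have key : f.comp (rp (c4.wordProd L)).toAddMonoidHom = fn (red 24 (code f)) := by
    refine AddMonoidHom.ext fun x => ?_
    rw [← hL, ← comp_word, fn_code]
    rfl
  have key2 : ∀ y, fn (red 24 (code f)) (rp ((c4.wordProd L)⁻¹ * (w * c4.wordProd L)) y) =
      4 • fn (red 24 (code f)) y := by
    intro y
    rw [← key]
    change f (rep c4 hF.isCartan _ (rep c4 hF.isCartan _ y)) = 4 • f (rep c4 hF.isCartan _ y)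
    rw [← rep_mul_apply, mul_inv_cancel_left, rep_mul_apply]
    exact h _
  have hlt : red 24 (code f) < 28561 := hL ▸ aw_lt L (code_lt f)
  refine ⟨c4.wordProd L, red 24 (code f), ?_, key⟩
  generalize red 24 (code f) = m at h1 key2 hlt ⊢
  unfold isR at h1
  simp only [Bool.or_eq_true, beq_iff_eq] at h1
  unfold Rp
  rcases h1 with ((((((h1 | h1) | h1) | h1) | h1) | h1) | h1) | h1
  · exact Or.inl h1
  · exact Or.inr (Or.inl h1)
  · exact Or.inr (Or.inr (Or.inl h1))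
  · exact Or.inr (Or.inr (Or.inr (Or.inl h1)))
  · exact Or.inr (Or.inr (Or.inr (Or.inr h1)))
  · subst h1; exact absurd key2 (not_eig hlt oX_ck _)
  · subst h1; exact absurd key2 (not_eig hlt oY_ck _)
  · subst h1; exact absurd key2 (not_eig hlt oZ_ck _)

/-- the orbits with eigenfunctionals -/
def oA : List ℕ :=
  [2557, 2665, 2669, 2713, 2714, 2822, 2825, 2837, 2846, 2990, 2993, 3039, 3565, 3601, 3611, 3721, 3722, 3758, 3767,
  3779, 3782, 3926, 3935, 4047, 4563, 4572, 4684, 5356, 5460, 6084, 6088, 6145, 6769, 6772, 6880, 6881, 6917, 6926,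
  7384, 7385, 7409, 7645, 7657, 7669, 8113, 8116, 8128, 8137, 8173, 8174, 8498, 8606, 8610, 8632, 8641, 8753, 9077,
  9113, 9123, 9413, 9425, 9437, 9841, 9842, 9866, 10153, 10156, 10202, 10481, 10490, 10526, 10527, 10635, 10638,
  10817, 10826, 10838, 10841, 10949, 10950, 11453, 12038, 12506, 12509, 12555, 13013, 13023, 13146, 13533, 13689,
  13690, 13714, 13858, 13870, 14015, 14183, 16744, 16900, 16901, 16925, 17069, 17081, 17226, 17394, 17745, 17748,
  17794, 18252, 18262, 18385, 18889, 19474, 19945, 19954, 19990, 19991, 20099, 20102, 20281, 20290, 20302, 20305,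
  20413, 20414, 20738, 20774, 20784, 21074, 21086, 21098, 21502, 21503, 21527, 21814, 21817, 21863, 22187, 22295,
  22299, 22321, 22330, 22442, 22655, 22658, 22766, 22767, 22803, 22812, 23270, 23271, 23295, 23531, 23543, 23555,
  23999, 24002, 24014, 24023, 24059, 24060, 24674, 24683, 24795, 25467, 25571, 26195, 26199, 26256, 26893, 27001,
  27005, 27049, 27050, 27158, 27161, 27173, 27182, 27326, 27329, 27375, 27901, 27937, 27947, 28057, 28058, 28094,
  28103, 28115, 28118, 28262, 28271, 28383]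

def oA' : List ℕ :=
  [2730, 3042, 3044, 3079, 3380, 3391, 3525, 3861, 4933, 5005, 5012, 5101, 5161, 5169, 5245, 5247, 5319, 5324, 5348,
  5354, 5413, 5415, 5475, 5481, 5505, 5510, 5655, 5660, 5728, 5811, 5817, 5896, 6851, 6929, 6935, 7014, 7943, 7950,
  8040, 8190, 9126, 9131, 9199, 9971, 9979, 10080, 10543, 10920, 11221, 11245, 11256, 11329, 11334, 11406, 11408,
  11468, 11474, 12001, 12006, 12030, 12036, 12096, 12098, 12246, 12248, 12283, 12746, 12818, 12825, 12870, 12876,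
  12955, 13525, 13531, 13591, 13593, 13665, 13670, 14029, 14035, 14059, 14064, 14136, 14138, 14599, 14601, 14636,
  14786, 14846, 14854, 15067, 15072, 15140, 15290, 15314, 15325, 15613, 15615, 15650, 15800, 15860, 15868, 16081,
  16086, 16154, 16304, 16328, 16339, 16736, 16742, 16802, 16804, 16876, 16881, 17240, 17246, 17270, 17275, 17347,
  17349, 17985, 18057, 18064, 18109, 18115, 18194, 18657, 18681, 18692, 18765, 18770, 18842, 18844, 18904, 18910,
  19437, 19442, 19466, 19472, 19532, 19534, 19682, 19684, 19719, 20007, 20384, 20787, 20792, 20860, 21632, 21640,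
  21741, 22737, 22815, 22821, 22900, 23829, 23836, 23926, 24076, 25044, 25116, 25123, 25212, 25272, 25280, 25356,
  25358, 25430, 25435, 25459, 25465, 25524, 25526, 25586, 25592, 25616, 25621, 25766, 25771, 25839, 25922, 25928,
  26007, 27066, 27378, 27380, 27415, 27716, 27727, 27861, 28197]

def oB : List ℕ :=
  [15, 21, 45, 50, 58, 60, 122, 124, 132, 137, 161, 167, 370, 374, 446, 449, 497, 503, 898, 900, 912, 922, 946, 947,
  1096, 1097, 1145, 1153, 1165, 1169, 1210, 1214, 1226, 1234, 1282, 1283, 1432, 1433, 1457, 1467, 1479, 1481, 1876,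
  1882, 1930, 1933, 2005, 2009, 4439, 4442, 4514, 4518, 4554, 4560, 5279, 5282, 5294, 5303, 5339, 5340, 5489, 5490,
  5526, 5535, 5547, 5550, 6269, 6275, 6311, 6315, 6387, 6390, 11000, 11001, 11025, 11035, 11047, 11049, 11350, 11359,
  11371, 11374, 11482, 11483, 12021, 12022, 12130, 12133, 12145, 12154, 12455, 12457, 12469, 12479, 12503, 12504,
  13203, 13204, 13300, 13304, 13316, 13324, 13625, 13628, 13640, 13649, 13685, 13686, 14043, 14044, 14080, 14089,
  14101, 14104, 14405, 14413, 14425, 14429, 14525, 14526, 15419, 15427, 15439, 15443, 15539, 15540, 16414, 16415,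
  16511, 16515, 16527, 16535, 16836, 16839, 16851, 16860, 16896, 16897, 17254, 17255, 17291, 17300, 17312, 17315,
  17694, 17696, 17708, 17718, 17742, 17743, 18436, 18437, 18461, 18471, 18483, 18485, 18786, 18795, 18807, 18810,
  18918, 18919, 19457, 19458, 19566, 19569, 19581, 19590, 24183, 24189, 24225, 24229, 24301, 24304, 24550, 24553,
  24625, 24629, 24665, 24671, 25390, 25393, 25405, 25414, 25450, 25451, 25600, 25601, 25637, 25646, 25658, 25661]

def oB' : List ℕ :=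
  [29, 30, 66, 75, 87, 90, 92, 95, 107, 116, 152, 153, 185, 187, 223, 231, 255, 258, 548, 555, 579, 583, 667, 669,
  716, 723, 735, 740, 824, 825, 1554, 1555, 1639, 1644, 1656, 1663, 1710, 1712, 1796, 1800, 1824, 1831, 2121, 2124,
  2148, 2156, 2192, 2194, 2277, 2280, 2304, 2312, 2348, 2350, 2745, 2751, 2775, 2780, 2852, 2854, 3750, 3752, 3824,
  3829, 3853, 3859, 4254, 4256, 4292, 4300, 4324, 4327, 6658, 6662, 6686, 6693, 6741, 6743, 6814, 6819, 6843, 6849,
  6909, 6911, 8143, 8145, 8205, 8211, 8235, 8240, 8311, 8313, 8361, 8368, 8392, 8396, 8854, 8859, 8871, 8878, 8938,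
  8939, 10340, 10341, 10401, 10408, 10420, 10425, 10496, 10498, 10558, 10564, 10588, 10593, 10883, 10888, 10912,
  10918, 10978, 10980, 19804, 19805, 19865, 19872, 19884, 19889, 19960, 19962, 20022, 20028, 20052, 20057, 20347,
  20352, 20376, 20382, 20442, 20444, 20515, 20520, 20532, 20539, 20599, 20600, 22000, 22002, 22050, 22057, 22081,
  22085, 22544, 22548, 22572, 22579, 22627, 22629, 22700, 22705, 22729, 22735, 22795, 22797, 24029, 24031, 24091,
  24097, 24121, 24126, 26393, 26395, 26431, 26439, 26463, 26466, 26613, 26616, 26640, 26648, 26684, 26686, 27081,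
  27087, 27111, 27116, 27188, 27190, 28086, 28088, 28160, 28165, 28189, 28195]

def oR : List ℕ :=
  [2380, 2385, 2397, 2404, 2423, 2424, 2464, 2465, 2484, 2491, 2503, 2508, 2614, 2615, 2627, 2638, 2650, 2651, 2722,
  2728, 2759, 2760, 2788, 2790, 2796, 2805, 2817, 2820, 2862, 2867, 2891, 2895, 2955, 2959, 3007, 3012, 3113, 3114,
  3186, 3192, 3204, 3210, 3227, 3231, 3267, 3273, 3280, 3283, 3321, 3324, 3331, 3337, 3373, 3377, 3394, 3400, 3412,
  3418, 3490, 3491, 3592, 3597, 3645, 3649, 3709, 3713, 3737, 3742, 3784, 3787, 3799, 3808, 3814, 3816, 3844, 3845,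
  3876, 3882, 3953, 3954, 3966, 3977, 3989, 3990, 4096, 4101, 4113, 4120, 4139, 4140, 4180, 4181, 4200, 4207, 4219,
  4224, 4590, 4591, 4603, 4614, 4626, 4627, 4746, 4748, 4760, 4770, 4794, 4795, 4799, 4800, 4824, 4834, 4846, 4848,
  4919, 4924, 4984, 4987, 5047, 5052, 5085, 5094, 5118, 5120, 5228, 5230, 5253, 5262, 5274, 5277, 5309, 5311, 5371,
  5377, 5385, 5386, 5401, 5406, 5423, 5428, 5443, 5444, 5452, 5458, 5518, 5520, 5552, 5555, 5567, 5576, 5599, 5601,
  5709, 5711, 5735, 5744, 5777, 5782, 5842, 5845, 5905, 5910, 5981, 5983, 5995, 6005, 6029, 6030, 6034, 6035, 6059,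
  6069, 6081, 6083, 6202, 6203, 6215, 6226, 6238, 6239, 6449, 6454, 6466, 6473, 6492, 6493, 6533, 6534, 6553, 6560,
  6572, 6577, 6774, 6777, 6789, 6798, 6804, 6806, 6834, 6835, 6866, 6872, 6896, 6901, 6960, 6963, 7023, 7028, 7064,
  7069, 7114, 7122, 7140, 7142, 7158, 7160, 7178, 7186, 7210, 7213, 7256, 7259, 7296, 7299, 7335, 7342, 7378, 7381,
  7450, 7458, 7470, 7474, 7483, 7484, 7570, 7571, 7580, 7584, 7596, 7604, 7673, 7676, 7712, 7719, 7755, 7758, 7795,
  7798, 7841, 7844, 7868, 7876, 7894, 7896, 7912, 7914, 7932, 7940, 7985, 7990, 8026, 8031, 8091, 8094, 8153, 8158,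
  8182, 8188, 8219, 8220, 8248, 8250, 8256, 8265, 8277, 8280, 8555, 8556, 8568, 8579, 8591, 8592, 8659, 8660, 8672,
  8683, 8695, 8696, 8988, 8992, 9052, 9056, 9104, 9109, 9180, 9182, 9206, 9215, 9239, 9241, 9311, 9318, 9354, 9357,
  9441, 9444, 9479, 9486, 9492, 9496, 9510, 9514, 9520, 9527, 9575, 9577, 9598, 9600, 9679, 9681, 9702, 9704, 9752,
  9759, 9765, 9769, 9783, 9787, 9793, 9800, 9835, 9838, 9922, 9925, 9961, 9968, 10038, 10040, 10064, 10073, 10097,
  10099, 10170, 10175, 10223, 10227, 10287, 10291, 10506, 10511, 10535, 10541, 10572, 10573, 10601, 10603, 10609,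
  10618, 10630, 10633, 10687, 10689, 10701, 10711, 10735, 10736, 10740, 10741, 10765, 10775, 10787, 10789, 10843,
  10846, 10858, 10867, 10873, 10875, 10903, 10904, 10935, 10941, 10965, 10970, 11186, 11187, 11259, 11265, 11277,
  11283, 11342, 11344, 11376, 11379, 11391, 11400, 11416, 11421, 11436, 11437, 11445, 11451, 11522, 11523, 11532,
  11536, 11548, 11556, 11571, 11579, 11591, 11595, 11604, 11605, 11678, 11680, 11728, 11735, 11741, 11745, 11759,
  11763, 11769, 11776, 11824, 11826, 11899, 11900, 11909, 11913, 11925, 11933, 11948, 11956, 11968, 11972, 11981,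
  11982, 12053, 12059, 12067, 12068, 12083, 12088, 12104, 12113, 12125, 12128, 12160, 12162, 12221, 12227, 12239,
  12245, 12317, 12318, 12523, 12528, 12576, 12580, 12640, 12644, 12691, 12696, 12732, 12737, 12797, 12800, 12901,
  12904, 12964, 12969, 13005, 13010, 13057, 13061, 13121, 13125, 13173, 13178, 13370, 13373, 13380, 13386, 13422,
  13426, 13445, 13449, 13485, 13491, 13498, 13501, 13548, 13554, 13562, 13563, 13578, 13583, 13599, 13608, 13620,
  13623, 13655, 13657, 13770, 13773, 13809, 13816, 13852, 13855, 13874, 13877, 13913, 13920, 13956, 13959, 14072,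
  14074, 14106, 14109, 14121, 14130, 14146, 14151, 14166, 14167, 14175, 14181, 14228, 14231, 14238, 14244, 14280,
  14284, 14303, 14307, 14343, 14349, 14356, 14359, 14574, 14580, 14592, 14598, 14670, 14671, 14744, 14746, 14770,
  14779, 14803, 14805, 14900, 14903, 14927, 14935, 14953, 14955, 14971, 14973, 14991, 14999, 15023, 15026, 15121,
  15123, 15147, 15156, 15180, 15182, 15255, 15256, 15328, 15334, 15346, 15352, 15588, 15594, 15606, 15612, 15684,
  15685, 15758, 15760, 15784, 15793, 15817, 15819, 15914, 15917, 15941, 15949, 15967, 15969, 15985, 15987, 16005,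
  16013, 16037, 16040, 16135, 16137, 16161, 16170, 16194, 16196, 16269, 16270, 16342, 16348, 16360, 16366, 16581,
  16584, 16591, 16597, 16633, 16637, 16656, 16660, 16696, 16702, 16709, 16712, 16759, 16765, 16773, 16774, 16789,
  16794, 16810, 16819, 16831, 16834, 16866, 16868, 16981, 16984, 17020, 17027, 17063, 17066, 17085, 17088, 17124,
  17131, 17167, 17170, 17283, 17285, 17317, 17320, 17332, 17341, 17357, 17362, 17377, 17378, 17386, 17392, 17439,
  17442, 17449, 17455, 17491, 17495, 17514, 17518, 17554, 17560, 17567, 17570, 17762, 17767, 17815, 17819, 17879,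
  17883, 17930, 17935, 17971, 17976, 18036, 18039, 18140, 18143, 18203, 18208, 18244, 18249, 18296, 18300, 18360,
  18364, 18412, 18417, 18622, 18623, 18695, 18701, 18713, 18719, 18778, 18780, 18812, 18815, 18827, 18836, 18852,
  18857, 18872, 18873, 18881, 18887, 18958, 18959, 18968, 18972, 18984, 18992, 19007, 19015, 19027, 19031, 19040,
  19041, 19114, 19116, 19164, 19171, 19177, 19181, 19195, 19199, 19205, 19212, 19260, 19262, 19335, 19336, 19345,
  19349, 19361, 19369, 19384, 19392, 19404, 19408, 19417, 19418, 19489, 19495, 19503, 19504, 19519, 19524, 19540,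
  19549, 19561, 19564, 19596, 19598, 19657, 19663, 19675, 19681, 19753, 19754, 19970, 19975, 19999, 20005, 20036,
  20037, 20065, 20067, 20073, 20082, 20094, 20097, 20151, 20153, 20165, 20175, 20199, 20200, 20204, 20205, 20229,
  20239, 20251, 20253, 20307, 20310, 20322, 20331, 20337, 20339, 20367, 20368, 20399, 20405, 20429, 20434, 20649,
  20653, 20713, 20717, 20765, 20770, 20841, 20843, 20867, 20876, 20900, 20902, 20972, 20979, 21015, 21018, 21102,
  21105, 21140, 21147, 21153, 21157, 21171, 21175, 21181, 21188, 21236, 21238, 21259, 21261, 21340, 21342, 21363,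
  21365, 21413, 21420, 21426, 21430, 21444, 21448, 21454, 21461, 21496, 21499, 21583, 21586, 21622, 21629, 21699,
  21701, 21725, 21734, 21758, 21760, 21831, 21836, 21884, 21888, 21948, 21952, 22244, 22245, 22257, 22268, 22280,
  22281, 22348, 22349, 22361, 22372, 22384, 22385, 22660, 22663, 22675, 22684, 22690, 22692, 22720, 22721, 22752,
  22758, 22782, 22787, 22846, 22849, 22909, 22914, 22950, 22955, 23000, 23008, 23026, 23028, 23044, 23046, 23064,
  23072, 23096, 23099, 23142, 23145, 23182, 23185, 23221, 23228, 23264, 23267, 23336, 23344, 23356, 23360, 23369,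
  23370, 23456, 23457, 23466, 23470, 23482, 23490, 23559, 23562, 23598, 23605, 23641, 23644, 23681, 23684, 23727,
  23730, 23754, 23762, 23780, 23782, 23798, 23800, 23818, 23826, 23871, 23876, 23912, 23917, 23977, 23980, 24039,
  24044, 24068, 24074, 24105, 24106, 24134, 24136, 24142, 24151, 24163, 24166, 24363, 24368, 24380, 24387, 24406,
  24407, 24447, 24448, 24467, 24474, 24486, 24491, 24701, 24702, 24714, 24725, 24737, 24738, 24857, 24859, 24871,
  24881, 24905, 24906, 24910, 24911, 24935, 24945, 24957, 24959, 25030, 25035, 25095, 25098, 25158, 25163, 25196,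
  25205, 25229, 25231, 25339, 25341, 25364, 25373, 25385, 25388, 25420, 25422, 25482, 25488, 25496, 25497, 25512,
  25517, 25534, 25539, 25554, 25555, 25563, 25569, 25629, 25631, 25663, 25666, 25678, 25687, 25710, 25712, 25820,
  25822, 25846, 25855, 25888, 25893, 25953, 25956, 26016, 26021, 26092, 26094, 26106, 26116, 26140, 26141, 26145,
  26146, 26170, 26180, 26192, 26194, 26313, 26314, 26326, 26337, 26349, 26350, 26716, 26721, 26733, 26740, 26759,
  26760, 26800, 26801, 26820, 26827, 26839, 26844, 26950, 26951, 26963, 26974, 26986, 26987, 27058, 27064, 27095,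
  27096, 27124, 27126, 27132, 27141, 27153, 27156, 27198, 27203, 27227, 27231, 27291, 27295, 27343, 27348, 27449,
  27450, 27522, 27528, 27540, 27546, 27563, 27567, 27603, 27609, 27616, 27619, 27657, 27660, 27667, 27673, 27709,
  27713, 27730, 27736, 27748, 27754, 27826, 27827, 27928, 27933, 27981, 27985, 28045, 28049, 28073, 28078, 28120,
  28123, 28135, 28144, 28150, 28152, 28180, 28181, 28212, 28218, 28289, 28290, 28302, 28313, 28325, 28326, 28432,
  28437, 28449, 28456, 28475, 28476, 28516, 28517, 28536, 28543, 28555, 28560]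

/-- increasing -/
def inc : List ℕ → Bool
  | a :: b :: l => Nat.blt a b && inc (b :: l)
  | _ => true

theorem pairwise_inc : ∀ l : List ℕ, inc l = true → l.Pairwise (· < ·)
  | [], _ => List.Pairwise.nil
  | [a], _ => List.pairwise_singleton _ a
  | a :: b :: l, h => by
    have h' : (Nat.blt a b && inc (b :: l)) = true := h
    rw [Bool.and_eq_true] at h'
    have h2 := pairwise_inc (b :: l) h'.2
    have h1 : a < b := Nat.blt_eq.mp h'.1
    refine List.pairwise_cons.2 ⟨fun c hc => ?_, h2⟩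
    rcases List.mem_cons.1 hc with rfl | hc
    · exact h1
    · exact h1.trans (List.rel_of_pairwise_cons h2 hc)

theorem nodup_inc {l : List ℕ} (h : inc l = true) : l.Nodup :=
  (pairwise_inc l h).imp fun h => ne_of_lt h

theorem oA_ck : (∀ n ∈ oA, red 24 n = 4563 ∧ n < 28561) ∧ inc oA = true ∧ oA.length = 192 :=
  ⟨orb (by decide +kernel), by decide +kernel⟩

theorem oA'_ck : (∀ n ∈ oA', red 24 n = 9126 ∧ n < 28561) ∧ inc oA' = true ∧ oA'.length = 192 :=
  ⟨orb (by decide +kernel), by decide +kernel⟩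

theorem oB_ck : (∀ n ∈ oB, red 24 n = 15 ∧ n < 28561) ∧ inc oB = true ∧ oB.length = 192 :=
  ⟨orb (by decide +kernel), by decide +kernel⟩

theorem oB'_ck : (∀ n ∈ oB', red 24 n = 30 ∧ n < 28561) ∧ inc oB' = true ∧ oB'.length = 192 :=
  ⟨orb (by decide +kernel), by decide +kernel⟩

theorem oR_ck : (∀ n ∈ oR, red 24 n = 2380 ∧ n < 28561) ∧ inc oR = true ∧ oR.length = 1152 :=
  ⟨orb (by decide +kernel), by decide +kernel⟩

end Cfsg.Agent.H938.EPK.F4X

private theorem dce_7b256b3a94de : _root_.True := by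
  try have : _root_.True := by simp only [_root_.Cfsg.Agent.H938.EPK.F4X.red.eq_def]
  exact _root_.True.intro
end

-- part: H938/EPK/F4XVal
section
set_option linter.all false
open scoped Cfsg.Agent.FastGrp

/-!
# The centralizers of the elements of order `13` of `F₄(4)` (S5745, CrossK; helper938)

* `stab`, `stabR` : the stabilisers of the five codes; `val_le`, `valR_le` : the values;
* `cent13_four` : `|C(x)| ≤ 2963520` for `x` of order `13` in `F₄(4)`.
-/

set_option autoImplicit false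
set_option linter.unusedSectionVars false

namespace Cfsg.Agent.H938.EPK.F4X

open CoxeterSystem Cfsg Cfsg.Lie Cfsg.Lie.ChevalleyDatum
open Cfsg.Agent.ChevalleyStructure Cfsg.Agent.ChevalleyStructure.Elts Cfsg.Agent.ChevalleyStructure.CoxeterGeom
  Cfsg.Agent.ChevalleyStructure.CoxeterGeomTypes Cfsg.Agent.ChevalleyStructure.NPerm
open Cfsg.Agent.Tits.Roots Cfsg.Agent.Tits.Core Cfsg.Agent.Nodes Cfsg.Agent.Nodes.Reps Cfsg.Agent.Nodes.BNOf
  Cfsg.Agent.Nodes.RGDChev
open Cfsg.Agent.GpExc.Field Cfsg.Agent.BpExc.Tow Cfsg.Agent.BpExc.TowChev Cfsg.Agent.BpExc.Fr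
open Cfsg.Agent.BpExc Cfsg.Agent.H129.TorusChar Cfsg.Agent.H130.WeylCk Cfsg.Agent.H130.WeylTab
  Cfsg.Agent.H972.CS Cfsg.Agent.H972.CS.Main Cfsg.Agent.H972.CS.Torus Cfsg.Agent.H129.TorusMain
  Cfsg.Agent.H129.TorusUntw Cfsg.Agent.H795.Untw Cfsg.Agent.H765.KE
open Cfsg.Agent.H938.EPK.F4W (W4 c4 hF rp finW4 card_W4 us us_inj im rp_word dt mw det_gq ps ps_len ps_bas ncard_le_of
  ln len_tab rp_list Cs)

universe u

/-- the stabiliser -/
def St (m : ℕ) : Set W4 := {v | ∀ x, fn m (rp v x) = fn m x}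

/-- the stabiliser of `m` has at most `1152 / N` elements if `N` codes are conjugate to `m` -/
theorem card_St {m : ℕ} {t : List ℕ} (ht : ∀ e ∈ t, red 24 e = m ∧ e < 28561) (hn : t.Nodup) :
    Nat.card (St m) * t.length ≤ 1152 := by
  have := finW4
  rw [← card_W4]
  choose Lw hLw using fun n => red_word 24 n
  let v : Fin t.length → W4 := fun i => (c4.wordProd (Lw (t.get i)))⁻¹
  have hv : ∀ i x, fn m (rp (v i) x) = fn (t.get i) x := by
    intro i x
    have h1 := comp_word (Lw (t.get i)) (t.get i) (rp (v i) x)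
    rw [hLw, (ht _ (t.get_mem i)).1] at h1
    rw [← h1]
    change fn _ (rep c4 hF.isCartan _ (rep c4 hF.isCartan _ x)) = _
    rw [← rep_mul_apply, mul_inv_cancel, map_one, Module.End.one_apply]
  have hinj : Function.Injective (fun p : St m × Fin t.length => p.1.1 * v p.2) := by
    rintro ⟨⟨s, hs⟩, i⟩ ⟨⟨s', hs'⟩, j⟩ h
    have h : s * v i = s' * v j := h
    have h1 : fn (t.get i) = fn (t.get j) := by
      have e1 : ∀ (a : W4) (ha : a ∈ St m) (l : Fin t.length) (x : Fin 4 → ℤ),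
          fn (t.get l) x = fn m (rep c4 hF.isCartan (a * v l) x) := by
        intro a ha l x
        rw [rep_mul_apply]
        exact (hv l x).symm.trans (ha (rp (v l) x)).symm
      exact AddMonoidHom.ext fun x => by rw [e1 s hs i x, e1 s' hs' j x, h]
    have h2 : t.get i = t.get j := by
      rw [← code_fn (ht _ (t.get_mem i)).2, ← code_fn (ht _ (t.get_mem j)).2, h1]
    have h3 : i = j := List.nodup_iff_injective_get.1 hn h2
    subst h3
    have h4 : s = s' := mul_right_cancel h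
    subst h4
    rfl
  have h1 := Nat.card_le_card_of_injective _ hinj
  rwa [Nat.card_prod, Nat.card_eq_fintype_card (α := Fin _), Fintype.card_fin] at h1

/-- the stabiliser consists of six words -/
theorem St_eq {m : ℕ} {a b : Fin 4} (hab : (a = 0 ∧ b = 1) ∨ (a = 2 ∧ b = 3)) (h6 : Nat.card (St m) ≤ 6)
    (hm : ∀ i, aw (us a b i) m = m) {v : W4} (hv : v ∈ St m) : ∃ i, v = c4.wordProd (us a b i) := by
  have := finW4
  let g : Fin 6 → St m := fun i => ⟨c4.wordProd (us a b i), fun x => by rw [comp_word, hm]⟩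
  have hg : Function.Injective g := fun i j h => us_inj hab (congrArg Subtype.val h)
  have h1 : Function.Bijective g := by
    refine (Nat.bijective_iff_injective_and_card g).2 ⟨hg, ?_⟩
    refine le_antisymm (Nat.card_le_card_of_injective g hg) ?_
    rwa [Nat.card_eq_fintype_card (α := Fin 6), Fintype.card_fin]
  obtain ⟨i, hi⟩ := h1.2 ⟨v, hv⟩
  exact ⟨i, (congrArg Subtype.val hi).symm⟩

/-- the four functionals with stabiliser `S₃` -/
def Is (m : ℕ) (a b : Fin 4) : Prop := ((m = 4563 ∨ m = 9126) ∧ a = 0 ∧ b = 1) ∨ ((m = 15 ∨ m = 30) ∧ a = 2 ∧ b = 3)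

theorem Is.ab {m : ℕ} {a b : Fin 4} (h : Is m a b) : (a = 0 ∧ b = 1) ∨ (a = 2 ∧ b = 3) := by
  rcases h with ⟨-, h⟩ | ⟨-, h⟩
  · exact Or.inl h
  · exact Or.inr h

theorem Is.card {m : ℕ} {a b : Fin 4} (h : Is m a b) : Nat.card (St m) ≤ 6 := by
  rcases h with ⟨rfl | rfl, -⟩ | ⟨rfl | rfl, -⟩
  · have h1 := card_St oA_ck.1 (nodup_inc oA_ck.2.1)
    rw [oA_ck.2.2] at h1
    omega
  · have h1 := card_St oA'_ck.1 (nodup_inc oA'_ck.2.1)
    rw [oA'_ck.2.2] at h1
    omega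
  · have h1 := card_St oB_ck.1 (nodup_inc oB_ck.2.1)
    rw [oB_ck.2.2] at h1
    omega
  · have h1 := card_St oB'_ck.1 (nodup_inc oB'_ck.2.1)
    rw [oB'_ck.2.2] at h1
    omega

theorem Is.fix {m : ℕ} {a b : Fin 4} (h : Is m a b) : ∀ i, aw (us a b i) m = m := by
  rcases h with ⟨rfl | rfl, rfl, rfl⟩ | ⟨rfl | rfl, rfl, rfl⟩ <;> decide +kernel

theorem stab {m : ℕ} {a b : Fin 4} (h : Is m a b) {v : W4} (hv : ∀ x, fn m (rp v x) = fn m x) :
    ∃ i, v = c4.wordProd (us a b i) := St_eq h.ab h.card h.fix hv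

theorem le_one_of {a : ℕ} (h : a * 1152 ≤ 1152) : a ≤ 1 := by omega

/-- the stabiliser of the regular code -/
theorem stabR {v : W4} (hv : ∀ x, fn 2380 (rp v x) = fn 2380 x) : v = 1 := by
  have := finW4
  have h2 : Nat.card (St 2380) ≤ 1 := by
    have h := card_St oR_ck.1 (nodup_inc oR_ck.2.1)
    rw [oR_ck.2.2] at h
    exact le_one_of h
  have h3 : Subsingleton (St 2380) := (Finite.card_le_one_iff_subsingleton).1 h2
  have h4 : (1 : W4) ∈ St 2380 := fun x => by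
    change fn 2380 (rep c4 hF.isCartan 1 x) = _
    rw [map_one, Module.End.one_apply]
  exact congrArg Subtype.val (h3.elim ⟨v, hv⟩ ⟨1, h4⟩)

/-- the eigenelement -/
def w0 (m : ℕ) : List (Fin 4) :=
  if m = 4563 ∨ m = 9126 then [2, 1, 0, 2, 1, 2, 3]
  else if m = 15 ∨ m = 30 then [1, 2, 1, 3, 2, 1, 0] else [0, 1, 0, 2, 3, 2, 1, 2]

theorem w0_aw {m : ℕ} {a b : Fin 4} (h : Is m a b) : aw (w0 m) m = mq 4 m := by
  rcases h with ⟨rfl | rfl, rfl, rfl⟩ | ⟨rfl | rfl, rfl, rfl⟩ <;> decide +kernel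

theorem w0_awR : aw (w0 2380) 2380 = mq 4 2380 := by decide +kernel

/-- the elements `w` with `f ∘ w = 4 f` -/
theorem eig0 {m : ℕ} (h0 : aw (w0 m) m = mq 4 m) {w : W4} (hw : ∀ x, fn m (rp w x) = 4 • fn m x) :
    ∀ x, fn m (rp (w * (c4.wordProd (w0 m))⁻¹) x) = fn m x := by
  have h0 : ∀ x, fn m (rp (c4.wordProd (w0 m)) x) = 4 • fn m x := fun x => by
    rw [comp_word, h0, fn_mq]
  intro x
  change fn m (rep c4 hF.isCartan _ x) = _
  rw [rep_mul_apply]
  have h1 := hw (rep c4 hF.isCartan (c4.wordProd (w0 m))⁻¹ x)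
  have h2 := h0 (rep c4 hF.isCartan (c4.wordProd (w0 m))⁻¹ x)
  rw [← h2] at h1
  refine h1.trans ?_
  change fn m (rep c4 hF.isCartan _ (rep c4 hF.isCartan _ x)) = _
  rw [← rep_mul_apply, mul_inv_cancel, map_one, Module.End.one_apply]

theorem eig {m : ℕ} {a b : Fin 4} (h : Is m a b) {w : W4}
    (hw : ∀ x, fn m (rp w x) = 4 • fn m x) : ∃ i, w = c4.wordProd (us a b i ++ w0 m) := by
  obtain ⟨i, hi⟩ := stab h (eig0 (w0_aw h) hw)
  refine ⟨i, ?_⟩
  rw [CoxeterSystem.wordProd_append, ← hi, inv_mul_cancel_right]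

theorem eigR {w : W4} (hw : ∀ x, fn 2380 (rp w x) = 4 • fn 2380 x) : w = c4.wordProd (w0 2380) := by
  have h := stabR (eig0 w0_awR hw)
  rwa [mul_inv_eq_one] at h

theorem det_le {m : ℕ} {a b : Fin 4} (h : Is m a b) : ∀ i, (dt (mw (us a b i ++ w0 m) 4)).natAbs ≤ 441 := by
  rcases h with ⟨rfl | rfl, rfl, rfl⟩ | ⟨rfl | rfl, rfl, rfl⟩ <;> decide +kernel

theorem detR_le : (dt (mw (w0 2380) 4)).natAbs ≤ 441 := by decide +kernel

theorem psi_tab {m : ℕ} {a b : Fin 4} (h : Is m a b) : ∀ r < 48, (∀ j : Fin 4, 0 ≤ vec chevF4 4 r j) →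
    (∑ j : Fin 4, vec chevF4 4 r j * (dg m j : ℤ)) % 13 = 0 → ∃ l ∈ ps a b, ∀ j : Fin 4, vec chevF4 4 r j = toFn 4 l j := by
  rcases h with ⟨rfl | rfl, rfl, rfl⟩ | ⟨rfl | rfl, rfl, rfl⟩ <;> decide +kernel

theorem psiR_tab : ∀ r < 48, (∑ j : Fin 4, vec chevF4 4 r j * (dg 2380 j : ℤ)) % 13 ≠ 0 := by decide +kernel

theorem fn_vec {m r : ℕ} (h3 : fn m (vec chevF4 4 r) = 0) : (∑ j : Fin 4, vec chevF4 4 r j * (dg m j : ℤ)) % 13 = 0 := by
  rw [fn_apply] at h3
  have h4 : ((∑ j : Fin 4, vec chevF4 4 r j * (dg m j : ℤ) : ℤ) : ZMod 13) = 0 := by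
    rw [Int.cast_sum, ← h3]
    exact Finset.sum_congr rfl fun j _ => by rw [Int.cast_mul, Int.cast_natCast]
  exact Int.emod_eq_zero_of_dvd ((ZMod.intCast_zmod_eq_zero_iff_dvd _ 13).1 h4)

theorem mem_psi {m : ℕ} {a b : Fin 4} (h : Is m a b) {x : Fin 4 → ℤ} (hx : x ∈ psi c4 hF.isCartan (fn m)) :
    ∃ l ∈ ps a b, x = toFn 4 l := by
  obtain ⟨h1, h2, h3⟩ := hx
  obtain ⟨r, hr, rfl⟩ := (isRoot_iff hF c4 x).1 h1
  obtain ⟨l, hl, h6⟩ := psi_tab h r hr h2 (fn_vec h3)
  exact ⟨l, hl, funext h6⟩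

theorem psiR {x : Fin 4 → ℤ} : x ∉ psi c4 hF.isCartan (fn 2380) := by
  rintro ⟨h1, h2, h3⟩
  obtain ⟨r, hr, rfl⟩ := (isRoot_iff hF c4 x).1 h1
  exact psiR_tab r hr (fn_vec h3)

theorem psiN_le {m : ℕ} {a b : Fin 4} (h : Is m a b) (i : Fin 6) :
    (psiN c4 hF.isCartan (fn m) (c4.wordProd (us a b i))).ncard ≤ ln i := by
  refine le_trans (ncard_le_of ?_) (len_tab h.ab i)
  rintro x ⟨h1, h2, h3, h4⟩
  obtain ⟨l, hl, rfl⟩ := mem_psi h ⟨h1, h2, h3⟩
  refine ⟨l, ?_, rfl⟩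
  rw [List.mem_filter]
  refine ⟨hl, decide_eq_true fun j => ?_⟩
  rw [← rp_list _ (ps_bas h.ab l hl)]
  exact h4 j

theorem cov {m : ℕ} {a b : Fin 4} (h : Is m a b) (g : (Fin 4 → ℤ) ≃+ (Fin 4 → ℤ)) (w : W4) :
    Cov hF c4 g (fn m) w (Cs a b) := by
  intro v hv _
  obtain ⟨i, hi⟩ := stab h hv
  classical
  unfold Cs
  exact Finset.mem_image.2 ⟨i, Finset.mem_univ _, hi.symm⟩

theorem covR (g : (Fin 4 → ℤ) ≃+ (Fin 4 → ℤ)) (w : W4) : Cov hF c4 g (fn 2380) w {1} := by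
  intro v hv _
  rw [stabR hv]
  exact Finset.mem_singleton_self _

/-- **The bound.** -/
theorem val_le {m : ℕ} {a b : Fin 4} (h : Is m a b) {w : W4}
    (hw : Pair hF c4 (AddEquiv.refl _) 4 13 (fn m) w) :
    val hF c4 (AddEquiv.refl _) 4 (fn m) w (Cs a b) ≤ 2963520 := by
  classical
  obtain ⟨i, rfl⟩ := eig h (w := w) fun x => hw.mul x
  have h0 : val hF c4 (AddEquiv.refl _) 4 (fn m) (c4.wordProd (us a b i ++ w0 m)) (Cs a b) ≤ 441 * (4 ^ 3 * 105) := by
    unfold val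
    refine Nat.mul_le_mul ?_ (Nat.mul_le_mul ?_ ?_)
    · rw [det_gq]
      exact det_le h i
    · refine Nat.pow_le_pow_right (by norm_num) ?_
      have h1 := ncard_le_of (t := ps a b) fun x hx => mem_psi h hx
      rwa [ps_len] at h1
    · unfold Cs
      rw [Finset.sum_image fun i _ j _ hij => us_inj h.ab hij]
      have h1 : ∀ i : Fin 6, 4 ^ (psiN c4 hF.isCartan (fn m) (c4.wordProd (us a b i))).ncard ≤ 4 ^ ln i :=
        fun i => Nat.pow_le_pow_right (by norm_num) (psiN_le h i)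
      refine (Finset.sum_le_sum fun i _ => h1 i).trans (le_of_eq ?_)
      simp only [Fin.sum_univ_succ, ln]
      simp
  exact h0.trans (by norm_num)

theorem valR_le {w : W4} (hw : Pair hF c4 (AddEquiv.refl _) 4 13 (fn 2380) w) :
    val hF c4 (AddEquiv.refl _) 4 (fn 2380) w {1} ≤ 441 := by
  rw [eigR (w := w) fun x => hw.mul x]
  have h0 : val hF c4 (AddEquiv.refl _) 4 (fn 2380) (c4.wordProd (w0 2380)) {1} ≤ 441 * (1 * 1) := by
    unfold val
    refine Nat.mul_le_mul ?_ (Nat.mul_le_mul ?_ ?_)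
    · rw [det_gq]
      exact detR_le
    · have h1 : psi c4 hF.isCartan (fn 2380) = ∅ := Set.eq_empty_of_forall_notMem fun x => psiR
      rw [h1, Set.ncard_empty, pow_zero]
    · rw [Finset.sum_singleton]
      have h1 : psiN c4 hF.isCartan (fn 2380) 1 = ∅ :=
        Set.eq_empty_of_forall_notMem fun x ⟨h1, h2, h3, _⟩ => psiR ⟨h1, h2, h3⟩
      rw [h1, Set.ncard_empty, pow_zero]
  exact h0

/-- **`|C(x)| ≤ 2963520` for `x` of order `13` in `F₄(4)`.** -/
theorem cent13_four {F : Type u} [Field F] [Fintype F] (hq : Fintype.card F = 4)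
    {x : ↥(chevF4.group F)} (hx : orderOf x = 13) :
    Nat.card (Subgroup.centralizer ({x} : Set ↥(chevF4.group F))) ≤ 2963520 := by
  classical
  obtain ⟨r, e, hr, hrF, hrk, he, hqe, hk⟩ := exists_closure (F := F) rfl
  have h13 : Fact (Nat.Prime 13) := ⟨by norm_num⟩
  have hr13 : 13 ≠ r := by
    rintro rfl
    have h1 : 13 ∣ Fintype.card F := hqe ▸ dvd_pow_self 13 he.ne'
    rw [hq] at h1
    norm_num at h1
  have hset := setup_untw hF hk (algebraMap F (AlgebraicClosure F)) he hqe invC_F4 one_ne_zero (Or.inl rfl) (p := 13)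
    (by norm_num)
  have hW : ¬ 13 ∣ Nat.card W4 := by rw [card_W4]; norm_num
  have hGf : Finite ↥(chevF4.group F) := inferInstance
  have hP : IsPGroup 13 (Subgroup.zpowers x) := IsPGroup.of_card (n := 1) (by rw [Nat.card_zpowers, hx, pow_one])
  obtain ⟨S, hS⟩ := hP.exists_le_sylow
  obtain ⟨z, hz⟩ := toral hF hk hr13 hW (emb hF.inList (algebraMap F (AlgebraicClosure F))) S
  have hxS := hz x (hS (Subgroup.mem_zpowers x))
  obtain ⟨f, hf, hf0, w, hw, hb⟩ := bound_setup hk hset invC_F4 one_ne_zero h13.out hr13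
    (Rf := {f | (∃ m, Rp m ∧ f = fn m) ∨ f = 0 ∨ ¬ ∃ w : W4, ∀ y, f (rp w y) = 4 • f y}) (fun f => by
      have h1 : f.comp (rep CoxeterMatrix.F₄.toCoxeterSystem hF.isCartan 1).toAddMonoidHom = f := by
        rw [map_one]; rfl
      by_cases h0 : f = 0
      · exact ⟨1, by rw [h1]; exact Or.inr (Or.inl h0)⟩
      · by_cases h2 : ∃ w : W4, ∀ y, f (rp w y) = 4 • f y
        · obtain ⟨w, hw⟩ := h2
          obtain ⟨v, m, hm, hv⟩ := exists_word h0 hw
          exact ⟨v, Or.inl ⟨m, hm, hv⟩⟩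
        · exact ⟨1, by rw [h1]; exact Or.inr (Or.inr h2)⟩) (by rw [← hx, pow_orderOf_eq_one])
    (by rintro rfl; rw [orderOf_one] at hx; norm_num at hx) rfl hxS
  rw [← hqe, hq] at hw hb
  rcases hf with ⟨m, hm, rfl⟩ | hf | hf
  · rcases hm with rfl | rfl | rfl | rfl | rfl
    · have hi : Is 4563 0 1 := Or.inl ⟨Or.inl rfl, rfl, rfl⟩
      exact (hb _ (cov hi _ w)).trans (val_le hi hw)
    · have hi : Is 9126 0 1 := Or.inl ⟨Or.inr rfl, rfl, rfl⟩
      exact (hb _ (cov hi _ w)).trans (val_le hi hw)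
    · have hi : Is 15 2 3 := Or.inr ⟨Or.inl rfl, rfl, rfl⟩
      exact (hb _ (cov hi _ w)).trans (val_le hi hw)
    · have hi : Is 30 2 3 := Or.inr ⟨Or.inr rfl, rfl, rfl⟩
      exact (hb _ (cov hi _ w)).trans (val_le hi hw)
    · exact (hb _ (covR _ w)).trans ((valR_le hw).trans (by norm_num))
  · exact absurd hf hf0
  · exact absurd ⟨w, fun y => hw.mul y⟩ hf

end Cfsg.Agent.H938.EPK.F4X
end

-- part: H406/CS/Extra
section
prune_inst 0x10103d040422000000180000a2000644b2000002006b80000040020406800f4120010f2114601112103a20440038804811000030420000000a008400011c00801c881202a009a000000000009004000000000000000000000000000000000004000000000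
set_option linter.all false
open scoped Cfsg.Agent.FastGrp

/-!
# Centralisers in `E₆(4)`: elements of the split torus (S5745, helper406)

* `bound_extra` : `H972.CS.Main.bound` with one more conclusion: if `w = 1`, then `x` is conjugate under `Y^σ` to an
  element `t` of the torus with `χ_y(t) = 1 ↔ f y = 0`;
* `bound_setup_extra` : for the groups with a `Setup`: this `t` is in the image of the finite group;
* `cX_lam` : for the image of `E₆(F)`, `|F| = 4`, the value of a character in `3P` is `1`.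
-/

set_option autoImplicit false
set_option linter.unusedSectionVars false

namespace Cfsg.Agent.H406.CS

open CoxeterSystem Cfsg Cfsg.Lie Cfsg.Lie.ChevalleyDatum
open Cfsg.Agent.ChevalleyStructure Cfsg.Agent.ChevalleyStructure.Elts Cfsg.Agent.ChevalleyStructure.CoxeterGeom
  Cfsg.Agent.ChevalleyStructure.CoxeterGeomTypes Cfsg.Agent.ChevalleyStructure.NPerm
open Cfsg.Agent.Tits.Roots Cfsg.Agent.Tits.Core Cfsg.Agent.Nodes Cfsg.Agent.Nodes.Reps Cfsg.Agent.Nodes.BNOf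
  Cfsg.Agent.Nodes.RGDChev
open Cfsg.Agent.KFacts.RgdField Cfsg.Agent.KFacts.RgdChevCoord
open Cfsg.Agent.BpExc Cfsg.Agent.BpExc.TorCent Cfsg.Agent.BpExc.TorChev Cfsg.Agent.BpExc.Tow
  Cfsg.Agent.BpExc.TowChev Cfsg.Agent.BpExc.Fr Cfsg.Agent.BpExc.Pair Cfsg.Agent.BpExc.LangFr Cfsg.Agent.GpExc.Field
  Cfsg.Agent.BpExc.NInst Cfsg.Agent.BpExc.NChev Cfsg.Agent.H129.TorusChar Cfsg.Agent.H129.TorusMain
  Cfsg.Agent.H129.TorusUntw Cfsg.Agent.H972.CS Cfsg.Agent.H972.CS.Count Cfsg.Agent.H972.CS.Torus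
  Cfsg.Agent.H972.CS.Main

universe u v

section

variable {D : ChevalleyDatum} {l : ℕ} {M : CoxeterMatrix (Fin l)} (hp : IsType D l M) {k : Type u} [Field k]
  {W : Type*} [Group W] (cs : CoxeterSystem M W)

/-- **The formula, with the case `w = 1`.** -/
theorem bound_extra [IsAlgClosed k] (hk : LocFin k) {r e : ℕ} [Fact r.Prime] [CharP k r] (he : 0 < e)
    {σ : MulAut ↥(D.group k)} (hσ : IsFrob r e σ) {g : (Fin l → ℤ) ≃+ (Fin l → ℤ)}
    (F : Fr cs hp.isCartan (TT D k) (XX D l k) σ g) {d' : ℕ} {B' : Fin l → Fin l → ℤ} (hB : InvC D l d' B')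
    (hd' : d' ≠ 0) {s : ℕ} (hs : s.Prime) (hsr : s ≠ r) {Rf : Set ((Fin l → ℤ) →+ ZMod s)}
    (hRf : Meets hp cs Rf) {x z t : ↥(D.group k)} (hx : σ x = x) (hxs : x ^ s = 1) (hx1 : x ≠ 1) (ht : t ∈ TT D k)
    (e0 : z⁻¹ * x * z = t) [Finite ↥(fixC σ x)] :
    ∃ f ∈ Rf, f ≠ 0 ∧ ∃ w : W, Pair hp cs g (r ^ e) s f w ∧
      (w = 1 → ∃ v t1 : ↥(D.group k), σ v = v ∧ t1 ∈ TT D k ∧ t1 = v * x * v⁻¹ ∧ ∀ y, cX hp t1 y = 1 ↔ f y = 0) ∧
      ∀ Cw : Finset W, Cov hp cs g f w Cw → Nat.card ↥(fixC σ x) ≤ val hp cs g (r ^ e) f w Cw := by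
  classical
  have := finite_W hp cs
  have hN : NSys M (TT D k) (nc hp k) := nsys_of_locFin hp cs hk r
  have hsk : (s : k) ≠ 0 := by
    intro h0
    have h1 := (CharP.cast_eq_zero_iff k r s).1 h0
    exact hsr ((Nat.prime_dvd_prime_iff_eq (Fact.out : r.Prime) hs).1 h1).symm
  have hts : t ^ s = 1 := by
    have e1 : t = z⁻¹ * x * z⁻¹⁻¹ := by rw [inv_inv, e0]
    rw [e1, conj_pow, hxs, mul_one, inv_inv, inv_mul_cancel]
  -- the conjugate of `t`
  obtain ⟨f0, hf0⟩ := exists_add hp hs hsk ht hts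
  obtain ⟨v0, hv0⟩ := hRf f0
  have H := tow (k := k) hp cs hk r
  obtain ⟨m, -, hm0⟩ := H.exists_rp v0⁻¹
  have hm : Rp cs hN v0⁻¹ m := by
    have key : ∀ (T : Subgroup ↥(D.group k)) (h1 : NSys M T (nc hp k)) (h2 : T = TT D k),
        Rp cs h1 v0⁻¹ m → Rp cs hN v0⁻¹ m := by
      intro T h1 h2 h3
      subst h2
      exact h3
    exact key _ _ (TL_eq hp hk) hm0
  set t1 : ↥(D.group k) := m * t * m⁻¹ with ht1
  have ht1T : t1 ∈ TT D k := (Subgroup.mem_normalizer_iff.1 hm.mem_normalizer t).1 ht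
  set f : (Fin l → ℤ) →+ ZMod s := f0.comp (rep cs hp.isCartan v0).toAddMonoidHom with hf
  have hcX : ∀ y, cX hp t1 y = 1 ↔ f y = 0 := by
    intro y
    have h1 := cX_rp hp cs hk r hm ht (rep cs hp.isCartan v0 y)
    rw [rep_inv_apply] at h1
    rw [ht1, h1]
    exact hf0 _
  have e1 : x = z * m⁻¹ * t1 * (z * m⁻¹)⁻¹ := by
    rw [ht1, ← e0]; group
  obtain ⟨z2, n, w, e2, e3, hn, hnt, hpos⟩ := frame_of hp cs hk he hσ F hB hd' hN hx ht1T e1
  refine ⟨f, hv0, ?_, w, ⟨?_, ?_⟩, ?_, ?_⟩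
  · intro hf00
    apply hx1
    have h2 : t1 = 1 := by
      refine cX_inj hp ht1T (one_mem _) fun i => ?_
      rw [cX_one, hcX, hf00]
      rfl
    rw [e1, h2]; group
  · intro y
    have h1 := (tau_iff hp cs hk hσ F hn ht1T).1 hnt y
    have hM := isMC_cX hp ht1T
    have h2 : cX hp t1 (theta hp cs w g y - (r ^ e) • y) = 1 := by
      rw [hM.sub, h1, hM.nsmul, div_self (pow_ne_zero _ (hM.ne_zero y))]
    rw [hcX, map_sub, sub_eq_zero, map_nsmul] at h2
    exact h2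
  · intro a ha h0 hfa
    refine hpos a ⟨ha, ?_⟩ h0
    rw [← cX_root hp cs ht1T ha]
    exact (hcX a).2 hfa
  · -- the case `w = 1`
    rintro rfl
    have hnT : n ∈ TT D k := by
      have h1 := (rp_one (cs := cs) (hN := hN)).unique hn
      rwa [inv_one, one_mul] at h1
    obtain ⟨s', hs', e4⟩ := Cfsg.Agent.H720.TorusReal.torus_lang hp cs he hσ F hB hd' (c := n⁻¹) (inv_mem hnT)
    have hσs : σ s' ∈ TT D k := (F.tor s').2 hs'
    have e5 : n * s' = σ s' := by rw [e4, mul_inv_cancel_left, ← e4]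
    have e6 : σ z2 = z2 * n := by rw [e3]; group
    have e7 : s' * t1 = t1 * s' := TT_comm hp s' hs' t1 ht1T
    have e8 : σ s' * s'⁻¹ = s'⁻¹ * σ s' := by
      have h1 := TT_comm hp (σ s') hσs s'⁻¹ (inv_mem hs')
      exact h1
    have e9 : n = s'⁻¹ * σ s' := by rw [← e8, ← e5]; group
    refine ⟨s' * z2⁻¹, t1, ?_, ht1T, ?_, hcX⟩
    · have h1 : σ (z2 * s'⁻¹) = z2 * s'⁻¹ := by
        rw [map_mul, map_inv, e6, e9]; group
      have h2 : σ ((z2 * s'⁻¹)⁻¹) = (z2 * s'⁻¹)⁻¹ := by rw [map_inv, h1]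
      rwa [mul_inv_rev, inv_inv] at h2
    · rw [e2]
      calc t1 = t1 * s' * s'⁻¹ := by group
        _ = s' * t1 * s'⁻¹ := by rw [← e7]
        _ = _ := by group
  · intro Cw hCw
    -- the twisted frame automorphism
    have Fτ : Fr cs hp.isCartan (TT D k) (XX D l k) (MulAut.conj n * σ) (g.trans (repAut cs hp.isCartan w)) :=
      (Cfsg.Agent.H720.TorusReal.fr_conj hp cs hk r hn).mul F
    have hτσ : IsFrob r e (MulAut.conj n * σ) := hσ.conj_mul _
    have hτt : (MulAut.conj n * σ) t1 = t1 := hnt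
    have E : ↥(fixC (MulAut.conj n * σ) t1) ≃* ↥(fixC σ x) :=
      fixEquiv (z := z2) (by rw [e2]; group) e3.symm
    have hfin : Finite ↥(fixC (MulAut.conj n * σ) t1) := Finite.of_equiv _ E.symm.toEquiv
    have hSx : ∀ a, a ∈ Sx cs hp.isCartan (ch hp) t1 ↔ IsRoot cs hp.isCartan a ∧ f a = 0 := by
      intro a
      constructor
      · rintro ⟨ha, h1⟩
        exact ⟨ha, (hcX a).1 (by rw [cX_root hp cs ht1T ha]; exact h1)⟩
      · rintro ⟨ha, h1⟩
        exact ⟨ha, by rw [← cX_root hp cs ht1T ha]; exact (hcX a).2 h1⟩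
    have hmain := card_fixC_le hp cs hk ht1T he hτσ Fτ hτt hpos Cw (fun v hv1 hv2 => by
      refine hCw v ?_ ?_
      · have h3 : ∀ i, f (rep cs hp.isCartan v (sr i)) = f (sr i) := by
          intro i
          have hri := isRoot_sr cs hp.isCartan i
          have h4 := hv1 _ hri
          have hM := isMC_cX hp ht1T
          rw [← cX_root hp cs ht1T (hri.act v), ← cX_root hp cs ht1T hri] at h4
          have h5 : cX hp t1 (rep cs hp.isCartan v (sr i) - sr i) = 1 := by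
            rw [hM.sub, h4, div_self (hM.ne_zero _)]
          rw [hcX, map_sub, sub_eq_zero] at h5
          exact h5
        intro y
        rw [eq_sum_sr y, map_sum, map_sum, map_sum]
        refine Finset.sum_congr rfl fun i _ => ?_
        rw [map_zsmul, map_zsmul, map_zsmul, h3]
      · have h3 : ∀ i, rep cs hp.isCartan v (theta hp cs w g (sr i)) = theta hp cs w g (rep cs hp.isCartan v (sr i)) :=
          fun i => hv2 _ (isRoot_sr cs hp.isCartan i)
        intro y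
        rw [eq_sum_sr y, map_sum, map_sum, map_sum, map_sum]
        refine Finset.sum_congr rfl fun i _ => ?_
        rw [map_zsmul, map_zsmul, map_zsmul, map_zsmul, h3])
    rw [← Nat.card_congr E.toEquiv]
    refine hmain.trans ?_
    have hT := (card_TF_le hp cs he hτσ Fτ).2
    have e5 : (g.trans (repAut cs hp.isCartan w)).toAddMonoidHom = theta hp cs w g := rfl
    rw [e5] at hT
    have e6 : SP (Sx cs hp.isCartan (ch hp) t1) = psi cs hp.isCartan f := by
      ext a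
      constructor
      · rintro ⟨h1, h2⟩
        exact ⟨((hSx a).1 h1).1, h2, ((hSx a).1 h1).2⟩
      · rintro ⟨h1, h2, h3⟩
        exact ⟨(hSx a).2 ⟨h1, h3⟩, h2⟩
    have e7 : ∀ v : W, NormalForm.NW cs hp.isCartan v ∩ Sx cs hp.isCartan (ch hp) t1 = psiN cs hp.isCartan f v := by
      intro v
      ext a
      constructor
      · rintro ⟨⟨h1, h2, h3⟩, h4⟩
        exact ⟨h1, h2, ((hSx a).1 h4).2, h3⟩
      · rintro ⟨h1, h2, h3, h4⟩
        exact ⟨⟨h1, h2, h4⟩, (hSx a).2 ⟨h1, h3⟩⟩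
    rw [e6]
    simp only [e7]
    exact Nat.mul_le_mul_right _ hT

end

section

open Cfsg.Agent.H795.Core

variable {D : ChevalleyDatum} {l : ℕ} {M : CoxeterMatrix (Fin l)} {hp : IsType D l M}
  {k : Type u} [Field k] [IsAlgClosed k] (hk : LocFin k) {r : ℕ} [Fact r.Prime] [CharP k r]
  {G : Type v} [Group G] [Finite G] {p e : ℕ} {φ : G →* ↥(D.group k)} {σ : MulAut ↥(D.group k)}
  {g : (Fin l → ℤ) ≃+ (Fin l → ℤ)}

end

section lam

variable {D : ChevalleyDatum} {l : ℕ} {M : CoxeterMatrix (Fin l)} (hp : IsType D l M) {k : Type u} [Field k]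

/-- the characters divisible by `m` in the weight lattice are `m`-th powers on the torus of the finite group -/
theorem cX_lam [IsAlgClosed k] (hk : LocFin k) {r : ℕ} [Fact r.Prime] [CharP k r] {F : Type u} [Field F] [Fintype F]
    (f : F →+* k) {m : ℕ} (hF : Fintype.card F = m + 1) {x' : ↥(D.group F)} (hx : emb hp.inList f x' ∈ TT D k)
    {lam : Fin l → ℤ} (hl : ∀ i < D.rank, (m : ℤ) ∣ ∑ j : Fin l, D.cartan i (D.simple j) * lam j) :
    cX hp (emb hp.inList f x') lam = 1 := by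
  classical
  have hfin : Finite ↥f.fieldRange := Finite.of_surjective (fun a : F => (⟨f a, a, rfl⟩ : ↥f.fieldRange)) (by
    rintro ⟨y, a, rfl⟩
    exact ⟨a, rfl⟩)
  let E : Lev k := ⟨f.fieldRange, hfin⟩
  have hcard : Nat.card ↥E.1 = m + 1 := by
    rw [← hF, ← Nat.card_eq_fintype_card]
    exact (Nat.card_congr (Equiv.ofBijective (fun a : F => (⟨f a, a, rfl⟩ : ↥f.fieldRange))
      ⟨fun a b hab => f.injective (congrArg Subtype.val hab), by
        rintro ⟨y, a, rfl⟩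
        exact ⟨a, rfl⟩⟩)).symm
  have h1 : emb hp.inList f x' ∈ (emb hp.inList E.1.subtype).range := by
    refine ⟨emb hp.inList (f.rangeRestrictField) x', ?_⟩
    rw [emb_comp]
    rfl
  have h2 := (HX.mem_Tj hp M.toCoxeterSystem hk r (E := E)).2 ⟨hx, h1⟩
  obtain ⟨y, hy, ey⟩ := h2
  rw [← ey]
  have hy' := hy
  have hy2 : y ∈ TT D ↥E.1 := hy
  have hyd : (y : GL D.Idx ↥E.1) ∈ D.diagonalSubgroup ↥E.1 := Subgroup.mem_subgroupOf.1 hy2
  obtain ⟨c, hc, -, hact⟩ := Cfsg.Agent.H129.Tor.exists_c hp hyd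
  have key : ∀ s, s < D.nroots → ch hp (vec D l s) y = ∏ i ∈ Finset.range D.rank, c i ^ D.cartan i s := by
    intro s hs
    apply ch_eq hp hs hy2
    apply Subtype.ext
    rw [Subgroup.coe_mul, Subgroup.coe_mul, Subgroup.coe_inv, coe_xc hp hs, coe_xc hp hs, hact s hs, mul_one]
  have h3 : ∀ j : Fin l, cX hp (emb hp.inList E.1.subtype y) (sr j) =
      E.1.subtype (∏ i ∈ Finset.range D.rank, c i ^ D.cartan i (D.simple j)) := by
    intro j
    rw [cX_sr, ← vec_simple hp j, emb_ch hp E.1.subtype (simple_lt hp.inList (lt_rank hp j)) hy2,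
      key _ (simple_lt hp.inList (lt_rank hp j))]
  have hM := isMC_cX hp (emb_T hp E.1.subtype ⟨y, hy2, rfl⟩)
  have hE1 : ∀ a : ↥E.1, a ≠ 0 → a ^ m = 1 := by
    intro a ha
    have := Fintype.ofFinite ↥E.1
    have h4 := FiniteField.pow_card_sub_one_eq_one a ha
    rw [← Nat.card_eq_fintype_card, hcard, Nat.add_sub_cancel] at h4
    exact h4
  rw [hM.eq_prod]
  have h5 : ∀ j : Fin l, cX hp (emb hp.inList E.1.subtype y) (sr j) ^ lam j =
      E.1.subtype (∏ i ∈ Finset.range D.rank, c i ^ (D.cartan i (D.simple j) * lam j)) := by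
    intro j
    rw [h3, ← map_zpow₀, ← Finset.prod_zpow]
    congr 1
    exact Finset.prod_congr rfl fun i _ => by rw [zpow_mul]
  rw [Finset.prod_congr rfl fun j _ => h5 j, ← map_prod, Finset.prod_comm]
  have h6 : ∀ i ∈ Finset.range D.rank, ∏ j : Fin l, c i ^ (D.cartan i (D.simple j) * lam j) = 1 := by
    intro i hi
    have hi' := Finset.mem_range.1 hi
    obtain ⟨n, hn⟩ := hl i hi'
    have h7 : ∏ j : Fin l, c i ^ (D.cartan i (D.simple j) * lam j) =
        c i ^ (∑ j : Fin l, D.cartan i (D.simple j) * lam j) := by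
      have h8 : ∀ S : Finset (Fin l), ∏ j ∈ S, c i ^ (D.cartan i (D.simple j) * lam j) =
          c i ^ (∑ j ∈ S, D.cartan i (D.simple j) * lam j) := by
        intro S
        induction S using Finset.induction_on with
        | empty => simp
        | insert a S ha ih => rw [Finset.prod_insert ha, Finset.sum_insert ha, zpow_add₀ (hc i hi'), ih]
      exact h8 _
    rw [h7, hn, zpow_mul, zpow_natCast, hE1 _ (hc i hi'), one_zpow]
  rw [Finset.prod_congr rfl h6, Finset.prod_const_one, map_one]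

end lam

end Cfsg.Agent.H406.CS
end

-- part: H972/CS/MainTwo
section
set_option linter.all false
open scoped Cfsg.Agent.FastGrp

/-!
# The centraliser formula with the frame (helper972)

* `bound_frame` : `Main.bound` together with `x = z₂ t₁ z₂⁻¹`, `z₂⁻¹ σ(z₂) = n` a representative of `w`,
  `cX t₁ y = 1 ↔ f y = 0`, `cX t₁ y = cX t (v y)`.
-/

set_option autoImplicit false
set_option linter.unusedSectionVars false

namespace Cfsg.Agent.H972.CS.MainTwo

open CoxeterSystem Cfsg Cfsg.Lie Cfsg.Lie.ChevalleyDatum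
open Cfsg.Agent.ChevalleyStructure Cfsg.Agent.ChevalleyStructure.Elts Cfsg.Agent.ChevalleyStructure.CoxeterGeom
  Cfsg.Agent.ChevalleyStructure.CoxeterGeomTypes Cfsg.Agent.ChevalleyStructure.NPerm
open Cfsg.Agent.Tits.Roots Cfsg.Agent.Tits.Core Cfsg.Agent.Nodes Cfsg.Agent.Nodes.Reps Cfsg.Agent.Nodes.BNOf
  Cfsg.Agent.Nodes.RGDChev
open Cfsg.Agent.KFacts.RgdField Cfsg.Agent.KFacts.RgdChevCoord
open Cfsg.Agent.BpExc Cfsg.Agent.BpExc.TorCent Cfsg.Agent.BpExc.TorChev Cfsg.Agent.BpExc.Tow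
  Cfsg.Agent.BpExc.TowChev Cfsg.Agent.BpExc.Fr Cfsg.Agent.BpExc.Pair Cfsg.Agent.BpExc.LangFr Cfsg.Agent.GpExc.Field
  Cfsg.Agent.BpExc.NInst Cfsg.Agent.BpExc.NChev Cfsg.Agent.H129.TorusChar Cfsg.Agent.H129.TorusMain
  Cfsg.Agent.H129.TorusUntw Cfsg.Agent.H972.CS Cfsg.Agent.H972.CS.Count Cfsg.Agent.H972.CS.Torus Cfsg.Agent.H972.CS.Main

universe u v

section

variable {D : ChevalleyDatum} {l : ℕ} {M : CoxeterMatrix (Fin l)} (hp : IsType D l M) {k : Type u} [Field k]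
  {W : Type*} [Group W] (cs : CoxeterSystem M W)

/-- **The formula, with the frame.** -/
theorem bound_frame [IsAlgClosed k] (hk : LocFin k) {r e : ℕ} [Fact r.Prime] [CharP k r] (he : 0 < e)
    {σ : MulAut ↥(D.group k)} (hσ : IsFrob r e σ) {g : (Fin l → ℤ) ≃+ (Fin l → ℤ)}
    (F : Fr cs hp.isCartan (TT D k) (XX D l k) σ g) {d' : ℕ} {B' : Fin l → Fin l → ℤ} (hB : InvC D l d' B')
    (hd' : d' ≠ 0) {s : ℕ} (hs : s.Prime) (hsr : s ≠ r) {Rf : Set ((Fin l → ℤ) →+ ZMod s)}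
    (hRf : Meets hp cs Rf) {x z t : ↥(D.group k)} (hx : σ x = x) (hxs : x ^ s = 1) (hx1 : x ≠ 1) (ht : t ∈ TT D k)
    (e0 : z⁻¹ * x * z = t) [Finite ↥(fixC σ x)] (hN : NSys M (TT D k) (nc hp k)) :
    ∃ f ∈ Rf, f ≠ 0 ∧ ∃ w : W, Pair hp cs g (r ^ e) s f w ∧
      (∃ (t1 z2 n : ↥(D.group k)) (v : W), t1 ∈ TT D k ∧ x = z2 * t1 * z2⁻¹ ∧ n = z2⁻¹ * σ z2 ∧ Rp cs hN w n ∧
        n * σ t1 * n⁻¹ = t1 ∧ (∀ y, cX hp t1 y = 1 ↔ f y = 0) ∧
        ∀ y, cX hp t1 y = cX hp t (rep cs hp.isCartan v y)) ∧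
      ∀ Cw : Finset W, Cov hp cs g f w Cw → Nat.card ↥(fixC σ x) ≤ val hp cs g (r ^ e) f w Cw := by
  classical
  have := finite_W hp cs
  have hsk : (s : k) ≠ 0 := by
    intro h0
    have h1 := (CharP.cast_eq_zero_iff k r s).1 h0
    exact hsr ((Nat.prime_dvd_prime_iff_eq (Fact.out : r.Prime) hs).1 h1).symm
  have hts : t ^ s = 1 := by
    have e1 : t = z⁻¹ * x * z⁻¹⁻¹ := by rw [inv_inv, e0]
    rw [e1, conj_pow, hxs, mul_one, inv_inv, inv_mul_cancel]
  -- the conjugate of `t`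
  obtain ⟨f0, hf0⟩ := exists_add hp hs hsk ht hts
  obtain ⟨v0, hv0⟩ := hRf f0
  have H := tow (k := k) hp cs hk r
  obtain ⟨m, -, hm0⟩ := H.exists_rp v0⁻¹
  have hm : Rp cs hN v0⁻¹ m := by
    have key : ∀ (T : Subgroup ↥(D.group k)) (h1 : NSys M T (nc hp k)) (h2 : T = TT D k),
        Rp cs h1 v0⁻¹ m → Rp cs hN v0⁻¹ m := by
      intro T h1 h2 h3
      subst h2
      exact h3
    exact key _ _ (TL_eq hp hk) hm0
  set t1 : ↥(D.group k) := m * t * m⁻¹ with ht1
  have ht1T : t1 ∈ TT D k := (Subgroup.mem_normalizer_iff.1 hm.mem_normalizer t).1 ht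
  set f : (Fin l → ℤ) →+ ZMod s := f0.comp (rep cs hp.isCartan v0).toAddMonoidHom with hf
  have hcX : ∀ y, cX hp t1 y = 1 ↔ f y = 0 := by
    intro y
    have h1 := cX_rp hp cs hk r hm ht (rep cs hp.isCartan v0 y)
    rw [rep_inv_apply] at h1
    rw [ht1, h1]
    exact hf0 _
  have e1 : x = z * m⁻¹ * t1 * (z * m⁻¹)⁻¹ := by
    rw [ht1, ← e0]; group
  obtain ⟨z2, n, w, e2, e3, hn, hnt, hpos⟩ := frame_of hp cs hk he hσ F hB hd' hN hx ht1T e1
  refine ⟨f, hv0, ?_, w, ⟨?_, ?_⟩, ⟨t1, z2, n, v0, ht1T, e2, e3, hn, hnt, hcX, fun y => ?_⟩, ?_⟩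
  · intro hf00
    apply hx1
    have h2 : t1 = 1 := by
      refine cX_inj hp ht1T (one_mem _) fun i => ?_
      rw [cX_one, hcX, hf00]
      rfl
    rw [e1, h2]; group
  · intro y
    have h1 := (tau_iff hp cs hk hσ F hn ht1T).1 hnt y
    have hM := isMC_cX hp ht1T
    have h2 : cX hp t1 (theta hp cs w g y - (r ^ e) • y) = 1 := by
      rw [hM.sub, h1, hM.nsmul, div_self (pow_ne_zero _ (hM.ne_zero y))]
    rw [hcX, map_sub, sub_eq_zero, map_nsmul] at h2
    exact h2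
  · intro a ha h0 hfa
    refine hpos a ⟨ha, ?_⟩ h0
    rw [← cX_root hp cs ht1T ha]
    exact (hcX a).2 hfa
  · have h1 := cX_rp hp cs hk r hm ht (rep cs hp.isCartan v0 y)
    rw [rep_inv_apply] at h1
    exact h1
  · intro Cw hCw
    -- the twisted frame automorphism
    have Fτ : Fr cs hp.isCartan (TT D k) (XX D l k) (MulAut.conj n * σ) (g.trans (repAut cs hp.isCartan w)) :=
      (Cfsg.Agent.H720.TorusReal.fr_conj hp cs hk r hn).mul F
    have hτσ : IsFrob r e (MulAut.conj n * σ) := hσ.conj_mul _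
    have hτt : (MulAut.conj n * σ) t1 = t1 := hnt
    have E : ↥(fixC (MulAut.conj n * σ) t1) ≃* ↥(fixC σ x) :=
      fixEquiv (z := z2) (by rw [e2]; group) e3.symm
    have hfin : Finite ↥(fixC (MulAut.conj n * σ) t1) := Finite.of_equiv _ E.symm.toEquiv
    have hSx : ∀ a, a ∈ Sx cs hp.isCartan (ch hp) t1 ↔ IsRoot cs hp.isCartan a ∧ f a = 0 := by
      intro a
      constructor
      · rintro ⟨ha, h1⟩
        exact ⟨ha, (hcX a).1 (by rw [cX_root hp cs ht1T ha]; exact h1)⟩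
      · rintro ⟨ha, h1⟩
        exact ⟨ha, by rw [← cX_root hp cs ht1T ha]; exact (hcX a).2 h1⟩
    have hmain := card_fixC_le hp cs hk ht1T he hτσ Fτ hτt hpos Cw (fun v hv1 hv2 => by
      refine hCw v ?_ ?_
      · have h3 : ∀ i, f (rep cs hp.isCartan v (sr i)) = f (sr i) := by
          intro i
          have hri := isRoot_sr cs hp.isCartan i
          have h4 := hv1 _ hri
          have hM := isMC_cX hp ht1T
          rw [← cX_root hp cs ht1T (hri.act v), ← cX_root hp cs ht1T hri] at h4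
          have h5 : cX hp t1 (rep cs hp.isCartan v (sr i) - sr i) = 1 := by
            rw [hM.sub, h4, div_self (hM.ne_zero _)]
          rw [hcX, map_sub, sub_eq_zero] at h5
          exact h5
        intro y
        rw [eq_sum_sr y, map_sum, map_sum, map_sum]
        refine Finset.sum_congr rfl fun i _ => ?_
        rw [map_zsmul, map_zsmul, map_zsmul, h3]
      · have h3 : ∀ i, rep cs hp.isCartan v (theta hp cs w g (sr i)) = theta hp cs w g (rep cs hp.isCartan v (sr i)) :=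
          fun i => hv2 _ (isRoot_sr cs hp.isCartan i)
        intro y
        rw [eq_sum_sr y, map_sum, map_sum, map_sum, map_sum]
        refine Finset.sum_congr rfl fun i _ => ?_
        rw [map_zsmul, map_zsmul, map_zsmul, map_zsmul, h3])
    rw [← Nat.card_congr E.toEquiv]
    refine hmain.trans ?_
    have hT := (card_TF_le hp cs he hτσ Fτ).2
    have e5 : (g.trans (repAut cs hp.isCartan w)).toAddMonoidHom = theta hp cs w g := rfl
    rw [e5] at hT
    have e6 : SP (Sx cs hp.isCartan (ch hp) t1) = psi cs hp.isCartan f := by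
      ext a
      constructor
      · rintro ⟨h1, h2⟩
        exact ⟨((hSx a).1 h1).1, h2, ((hSx a).1 h1).2⟩
      · rintro ⟨h1, h2, h3⟩
        exact ⟨(hSx a).2 ⟨h1, h3⟩, h2⟩
    have e7 : ∀ v : W, NormalForm.NW cs hp.isCartan v ∩ Sx cs hp.isCartan (ch hp) t1 = psiN cs hp.isCartan f v := by
      intro v
      ext a
      constructor
      · rintro ⟨⟨h1, h2, h3⟩, h4⟩
        exact ⟨h1, h2, ((hSx a).1 h4).2, h3⟩
      · rintro ⟨h1, h2, h3, h4⟩
        exact ⟨⟨h1, h2, h4⟩, (hSx a).2 ⟨h1, h3⟩⟩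
    rw [e6]
    simp only [e7]
    exact Nat.mul_le_mul_right _ hT

end

end Cfsg.Agent.H972.CS.MainTwo
end

-- part: H972/CS/E6Link
section
prune_inst 0x30104d007422000000000012a2000224300000900003040034e10446090fda6080402e004b001c11502a10801800000811000030420000000a0034000007002098ae5200a309a104260007803087180c00000000000000000000000000041004000000000
set_option linter.all false
open scoped Cfsg.Agent.FastGrp

/-!
# The data of the evaluator for the type `E6` (helper972)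

* `data6`, `link6` : the data and the link;
* `gok_one`, `gok_neg` : the lattice maps `1` and `- v`, `v ∈ W`;
* `kac6 s`, `meets6` : the Kac coordinates of degree `s`;
* `Fa.ok6`, `Fa.ok_of` : a faster evaluation of `data6.ok` (helper9).
-/

set_option autoImplicit false
set_option linter.unusedSectionVars false

namespace Cfsg.Agent.H972.CS.E6Link

open CoxeterSystem Cfsg Cfsg.Lie Cfsg.Lie.ChevalleyDatum
open Cfsg.Agent.ChevalleyStructure Cfsg.Agent.ChevalleyStructure.Elts Cfsg.Agent.ChevalleyStructure.CoxeterGeom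
  Cfsg.Agent.ChevalleyStructure.CoxeterGeomTypes Cfsg.Agent.ChevalleyStructure.NPerm
open Cfsg.Agent.Tits.Roots Cfsg.Agent.Tits.Core Cfsg.Agent.Nodes Cfsg.Agent.Nodes.Reps Cfsg.Agent.Nodes.BNOf
  Cfsg.Agent.Nodes.RGDChev Cfsg.Agent.H129.TorusChar Cfsg.Agent.H129.TorusMain Cfsg.Agent.H972.CS.Main
  Cfsg.Agent.H972.CS.Torus Cfsg.Agent.H972.CS.Eval Cfsg.Agent.H972.CS.LinkOf

/-- the roots -/
def Rt6 : List (List ℤ) :=
  [[-1, -2, -2, -3, -2, -1], [-1, -1, -2, -3, -2, -1], [-1, -1, -2, -2, -2, -1], [-1, -1, -2, -2, -1, -1],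
   [-1, -1, -2, -2, -1, 0], [-1, -1, -1, -2, -2, -1], [-1, -1, -1, -2, -1, -1], [-1, -1, -1, -2, -1, 0],
   [-1, -1, -1, -1, -1, -1], [-1, -1, -1, -1, -1, 0], [-1, -1, -1, -1, 0, 0], [-1, 0, -1, -1, -1, -1],
   [-1, 0, -1, -1, -1, 0], [-1, 0, -1, -1, 0, 0], [-1, 0, -1, 0, 0, 0], [-1, 0, 0, 0, 0, 0],
   [0, -1, -1, -2, -2, -1], [0, -1, -1, -2, -1, -1], [0, -1, -1, -2, -1, 0], [0, -1, -1, -1, -1, -1],
   [0, -1, -1, -1, -1, 0], [0, -1, -1, -1, 0, 0], [0, -1, 0, -1, -1, -1], [0, -1, 0, -1, -1, 0],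
   [0, -1, 0, -1, 0, 0], [0, -1, 0, 0, 0, 0], [0, 0, -1, -1, -1, -1], [0, 0, -1, -1, -1, 0],
   [0, 0, -1, -1, 0, 0], [0, 0, -1, 0, 0, 0], [0, 0, 0, -1, -1, -1], [0, 0, 0, -1, -1, 0],
   [0, 0, 0, -1, 0, 0], [0, 0, 0, 0, -1, -1], [0, 0, 0, 0, -1, 0], [0, 0, 0, 0, 0, -1], [0, 0, 0, 0, 0, 1],
   [0, 0, 0, 0, 1, 0], [0, 0, 0, 0, 1, 1], [0, 0, 0, 1, 0, 0], [0, 0, 0, 1, 1, 0], [0, 0, 0, 1, 1, 1],
   [0, 0, 1, 0, 0, 0], [0, 0, 1, 1, 0, 0], [0, 0, 1, 1, 1, 0], [0, 0, 1, 1, 1, 1], [0, 1, 0, 0, 0, 0],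
   [0, 1, 0, 1, 0, 0], [0, 1, 0, 1, 1, 0], [0, 1, 0, 1, 1, 1], [0, 1, 1, 1, 0, 0], [0, 1, 1, 1, 1, 0],
   [0, 1, 1, 1, 1, 1], [0, 1, 1, 2, 1, 0], [0, 1, 1, 2, 1, 1], [0, 1, 1, 2, 2, 1], [1, 0, 0, 0, 0, 0],
   [1, 0, 1, 0, 0, 0], [1, 0, 1, 1, 0, 0], [1, 0, 1, 1, 1, 0], [1, 0, 1, 1, 1, 1], [1, 1, 1, 1, 0, 0],
   [1, 1, 1, 1, 1, 0], [1, 1, 1, 1, 1, 1], [1, 1, 1, 2, 1, 0], [1, 1, 1, 2, 1, 1], [1, 1, 1, 2, 2, 1],
   [1, 1, 2, 2, 1, 0], [1, 1, 2, 2, 1, 1], [1, 1, 2, 2, 2, 1], [1, 1, 2, 3, 2, 1], [1, 2, 2, 3, 2, 1]]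

/-- the functionals `B x` -/
def G6 : List (List ℤ) :=
  [[0, -1, 0, 0, 0, 0], [0, 1, 0, -1, 0, 0], [0, 0, -1, 1, -1, 0], [0, 0, -1, 0, 1, -1], [0, 0, -1, 0, 0, 1],
   [-1, 0, 1, 0, -1, 0], [-1, 0, 1, -1, 1, -1], [-1, 0, 1, -1, 0, 1], [-1, -1, 0, 1, 0, -1],
   [-1, -1, 0, 1, -1, 1], [-1, -1, 0, 0, 1, 0], [-1, 1, 0, 0, 0, -1], [-1, 1, 0, 0, -1, 1],
   [-1, 1, 0, -1, 1, 0], [-1, 0, -1, 1, 0, 0], [-2, 0, 1, 0, 0, 0], [1, 0, 0, 0, -1, 0],
   [1, 0, 0, -1, 1, -1], [1, 0, 0, -1, 0, 1], [1, -1, -1, 1, 0, -1], [1, -1, -1, 1, -1, 1],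
   [1, -1, -1, 0, 1, 0], [0, -1, 1, 0, 0, -1], [0, -1, 1, 0, -1, 1], [0, -1, 1, -1, 1, 0],
   [0, -2, 0, 1, 0, 0], [1, 1, -1, 0, 0, -1], [1, 1, -1, 0, -1, 1], [1, 1, -1, -1, 1, 0],
   [1, 0, -2, 1, 0, 0], [0, 1, 1, -1, 0, -1], [0, 1, 1, -1, -1, 1], [0, 1, 1, -2, 1, 0],
   [0, 0, 0, 1, -1, -1], [0, 0, 0, 1, -2, 1], [0, 0, 0, 0, 1, -2], [0, 0, 0, 0, -1, 2], [0, 0, 0, -1, 2, -1],
   [0, 0, 0, -1, 1, 1], [0, -1, -1, 2, -1, 0], [0, -1, -1, 1, 1, -1], [0, -1, -1, 1, 0, 1],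
   [-1, 0, 2, -1, 0, 0], [-1, -1, 1, 1, -1, 0], [-1, -1, 1, 0, 1, -1], [-1, -1, 1, 0, 0, 1],
   [0, 2, 0, -1, 0, 0], [0, 1, -1, 1, -1, 0], [0, 1, -1, 0, 1, -1], [0, 1, -1, 0, 0, 1],
   [-1, 1, 1, 0, -1, 0], [-1, 1, 1, -1, 1, -1], [-1, 1, 1, -1, 0, 1], [-1, 0, 0, 1, 0, -1],
   [-1, 0, 0, 1, -1, 1], [-1, 0, 0, 0, 1, 0], [2, 0, -1, 0, 0, 0], [1, 0, 1, -1, 0, 0], [1, -1, 0, 1, -1, 0],
   [1, -1, 0, 0, 1, -1], [1, -1, 0, 0, 0, 1], [1, 1, 0, 0, -1, 0], [1, 1, 0, -1, 1, -1], [1, 1, 0, -1, 0, 1],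
   [1, 0, -1, 1, 0, -1], [1, 0, -1, 1, -1, 1], [1, 0, -1, 0, 1, 0], [0, 0, 1, 0, 0, -1], [0, 0, 1, 0, -1, 1],
   [0, 0, 1, -1, 1, 0], [0, -1, 0, 1, 0, 0], [0, 1, 0, 0, 0, 0]]

/-- the codes of the roots -/
def Cd6 : List ℤ :=
  [-1602251, -1602234, -1597321, -1513800, -93943, -1597032, -1513511, -93654, -1508598, -88741, -5220,
   -1508581, -88724, -5203, -290, -1, -1597031, -1513510, -93653, -1508597, -88740, -5219, -1508308, -88451,
   -4930, -17, -1508580, -88723, -5202, -289, -1508291, -88434, -4913, -1503378, -83521, -1419857, 1419857,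
   83521, 1503378, 4913, 88434, 1508291, 289, 5202, 88723, 1508580, 17, 4930, 88451, 1508308, 5219, 88740,
   1508597, 93653, 1513510, 1597031, 1, 290, 5203, 88724, 1508581, 5220, 88741, 1508598, 93654, 1513511,
   1597032, 93943, 1513800, 1597321, 1602234, 1602251]

/-- the Gram matrix -/
def BL6 : List (List ℤ) :=
  [[2, 0, -1, 0, 0, 0], [0, 2, 0, -1, 0, 0], [-1, 0, 2, -1, 0, 0], [0, -1, -1, 2, -1, 0],
   [0, 0, 0, -1, 2, -1], [0, 0, 0, 0, -1, 2]]

/-- the pairs of orthogonal roots -/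
def O6 : ℕ := 0x1f003ffffc00f80000e31f847e21f8c7000325674b18d2e6a4c00549aad2c34b5592a00691d1e1a5878b8960182678f0990f1e6418284ab5694296ad52143092ce5a245a73490c490ccda62465b330925214b69542a96d284a64187b0c9930de18268960d21da5b84b069192a0a92ec374950549a4c064b718ed260325c7001c787e1e3800e3f80003c3ffc3c0001f1bd804cc9933201bd82db4095542aa902db4366c1266246648366c4e72219a2459844e7255aa42a942954255aa63c68330990cc163c671712c21a584348e8e6aa95412c3482a95565cc5980b18d019a33a3f03e0047e2007c0fc8e8e2e01a58074717195565502c340aa6aa9a33a988318c1195cc5c0fce0407e02073f03b18d319824198cb18daa554aa8421552aa559c398730180ce19c39d24b495500aa92d24bc993326600664cc993e42784cc813321e427e42784cc813321e427c993326600664cc993d24b495500aa92d24b9c398730180ce19c39aa554aa8421552aa55b18d319824198cb18dc0fce0407e02073f03a33a988318c1195cc595565502c340aa6aa98e8e2e01a5807471713f03e0047e2007c0fc5cc5980b18d019a33a6aa95412c3482a955671712c21a584348e8e63c68330990cc163c655aa42a942954255aa4e72219a2459844e72366c1266246648366c2db4095542aa902db41bd804cc9933201bd8f80003c3ffc3c0001fc7001c787e1e3800e3a4c064b718ed26032592a0a92ec3749505498960d21da5b84b069164187b0c9930de18265214b69542a96d284a490ccda62465b330923092ce5a245a73490c284ab5694296ad5214182678f0990f1e64180691d1e1a5878b89600549aad2c34b5592a00325674b18d2e6a4c000e31f847e21f8c700001f003ffffc00f800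

/-- the pairs of roots with product `-1` -/
def P6 : ℕ := 0x3ff07fe0000004001dc0738fd00000080862c195b3b0000010128342a6d5700000202503834768f0000040c06c0c19bc700000814294142adab00001024518184b673000020198a0248ce6d0000402a940290d5b500008033600320e3d900002dc00a4400f16e000056c0148800eab600009b40611000dcda0000e383802000bf1c0000fc3c0000007fe00027000006ccde0027004b000029556d004b009300005199b30093010d00018a2673010d02150002942aad02150419000360331e0419080e001c0a438b01611016002c14835502a1201a00346102e604c1401c003b8001f80701016101c00a780b080e02a102c014b415101604c10340612c26201a07010383801c38401c08620c440b8443086210a2144415488510a220c2184460d10620c2092424888c444909241224448892889112240948291122444a09481290522244889412902448891149112224482490922231112424904304608b06221843044508a112a8222845084610c221d02230461038021c3801c1c080e0580464348602c083206808a82d28034085407010d01e500380868080e01f8001dc00380283206740862c0058048540aac128340068088680d1c25038007010982078cc06c0009820a840b554294000a840b080ce64518000b080c900cd998a0000c900d200b6aa940000d200e4007b33600000e40007fe0000003c3f000038fd000401c1c700005b3b00088602d900006d57001128036a0000768f00225003b400009bc704c006cc010000adab09402954020000b67312405198040000ce6d21818a24080000d5b542829428100000e3d983036030200000f16e2c1c0a40400000eab6542c1480800000dcda98346101000000bf1ce03b80020000007fe0ffc00000000000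

/-- the relations -/
def R6 (b : ℤ) : ℕ := if b = 0 then O6 else if b = -1 then P6 else 0

/-- the bilinear form -/
def B6 (i j : Fin 6) : ℤ := (BL6.getD i []).getD j 0

/-- **The data.** -/
def data6 : Data where
  N := 72
  Rt := Rt6
  ev := [1, 17, 289, 4913, 83521, 1419857]
  Cd := Cd6
  rel i j := R6 ((BL6.getD i []).getD j 0)
  cv := [1, 0, 2, 0, 1, 2]
  m := 3

set_option maxRecDepth 1000000 in
theorem all6 : allChk R6 [0, -1] 72 Rt6 G6 0 = true := by decide +kernel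

variable {M : CoxeterMatrix (Fin 6)} (hp : IsType chevE6 6 M) {W : Type*} [Group W] (cs : CoxeterSystem M W)

set_option maxRecDepth 1000000 in
/-- **The link.** -/
theorem link6 : Link data6 hp cs B6 :=
  link_of hp cs data6 B6 G6 R6 [0, -1] (by decide +kernel) (by decide +kernel) (by decide +kernel)
    (by decide +kernel) (by decide +kernel) (by decide +kernel) (by decide +kernel) (by decide +kernel)
    (by decide +kernel) (by decide +kernel) (by decide +kernel) (by decide +kernel) all6 (by decide +kernel)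
    (by decide +kernel)

theorem gok_one : GOk data6 hp cs B6 (AddEquiv.refl _) 1 where
  root a ha := ha
  inv _ _ := rfl
  cv := ⟨0, by rw [one_smul, smul_zero]; exact sub_self _⟩

theorem gok_neg {g : (Fin 6 → ℤ) ≃+ (Fin 6 → ℤ)} {v : W} (hg : ∀ a, g a = -rep cs hp.isCartan v a) :
    GOk data6 hp cs B6 g (-1) where
  root a ha := by rw [hg]; exact (ha.act v).neg
  inv a b := by
    rw [hg, hg, ← (link6 hp cs).inv v a b]
    unfold bil
    refine Finset.sum_congr rfl fun i _ => Finset.sum_congr rfl fun j _ => ?_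
    rw [Pi.neg_apply, Pi.neg_apply]; ring
  cv := by
    obtain ⟨y, hy⟩ := (link6 hp cs).cvi v
    refine ⟨-y, ?_⟩
    rw [hg, smul_neg, ← hy, neg_smul, one_smul]
    abel

/-- the tuples with `∑ m_i c_i ≤ n` -/
def tups : List ℕ → ℕ → List (List ℤ)
  | [], _ => [[]]
  | m :: ms, n => (List.range (n + 1)).flatMap fun c =>
      if m * c ≤ n then (tups ms (n - m * c)).map fun t => (c : ℤ) :: t else []

theorem mem_tups : ∀ (ms : List ℕ) (n : ℕ) (t : List ℕ), t.length = ms.length → (∀ m ∈ ms, 0 < m) →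
    (List.zipWith (· * ·) ms t).sum ≤ n → t.map (fun c : ℕ => (c : ℤ)) ∈ tups ms n := by
  intro ms
  induction ms with
  | nil =>
    intro n t ht _ _
    rw [List.length_nil, List.length_eq_zero_iff] at ht
    subst ht
    exact List.mem_singleton_self _
  | cons m ms ih =>
    intro n t ht hm hs
    cases t with
    | nil => simp at ht
    | cons c t =>
      rw [List.zipWith_cons_cons, List.sum_cons] at hs
      have h1 := hm m List.mem_cons_self
      rw [tups, List.mem_flatMap]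
      refine ⟨c, List.mem_range.2 ?_, ?_⟩
      · have : c ≤ m * c := Nat.le_mul_of_pos_left c h1
        omega
      · rw [if_pos (by omega), List.map_cons, List.mem_map]
        refine ⟨_, ih (n - m * c) t (by simpa using ht) (fun m' h => hm m' (List.mem_cons_of_mem _ h)) (by omega), rfl⟩

/-- the Kac coordinates of degree `s` (without `c0`) -/
def kac6 (s : ℕ) : List (List ℤ) := tups [1, 2, 2, 3, 2, 1] s

theorem kac_length {s : ℕ} {fl : List ℤ} (h : fl ∈ kac6 s) : fl.length = 6 := by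
  have key : ∀ (ms : List ℕ) (n : ℕ) (t : List ℤ), t ∈ tups ms n → t.length = ms.length := by
    intro ms
    induction ms with
    | nil =>
      intro n t ht
      rw [tups, List.mem_singleton] at ht
      rw [ht]; rfl
    | cons m ms ih =>
      intro n t ht
      rw [tups, List.mem_flatMap] at ht
      obtain ⟨c, -, hc⟩ := ht
      split_ifs at hc with h1
      · rw [List.mem_map] at hc
        obtain ⟨t', ht', rfl⟩ := hc
        rw [List.length_cons, List.length_cons, ih _ _ ht']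
      · simp at hc
  exact key _ _ _ h

set_option maxRecDepth 1000000 in
theorem hr6 : ∀ i : Fin 6, Cfsg.Agent.H931.KC.hr chevE6 6 i = (([1, 2, 2, 3, 2, 1] : List ℤ).getD i 0) := by decide +kernel

/-- **The Kac coordinates meet all orbits.** -/
theorem meets6 (hp : IsType chevE6 6 M) {s : ℕ} (hs : 0 < s) :
    Meets hp M.toCoxeterSystem (RfL 6 s (kac6 s)) := by
  refine meets_alcove hp hs _ fun c c0 hK => ?_
  refine ⟨(List.ofFn c).map (fun c : ℕ => (c : ℤ)), mem_tups _ _ _ (by simp) (by decide) ?_, fun i => ?_⟩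
  · have h1 := hK.sum
    simp only [hr6] at h1
    simp only [List.ofFn_succ, List.ofFn_zero, List.zipWith_cons_cons, List.zipWith_nil_left, List.sum_cons, List.sum_nil]
    simp only [Fin.sum_univ_succ, Finset.univ_eq_empty, Finset.sum_empty] at h1
    simp at h1 ⊢
    omega
  · fin_cases i <;> simp [List.ofFn_succ]

/-! ### a faster evaluation of `data6.ok` -/

namespace Fa

/-- evaluate `x` first -/
noncomputable def frc (x : ℕ) (k : ℕ → ℕ) : ℕ := Nat.rec (motive := fun _ => ℕ) (k 0) (fun m _ => k (Nat.succ m)) x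

/-- the sum over the bits of a mask -/
noncomputable def bits (G : ℕ → ℕ) (fuel : ℕ) : ℕ → ℕ :=
  Nat.rec (motive := fun _ => ℕ → ℕ) (fun _ => 0) (fun _ ih m => Nat.rec (motive := fun _ => ℕ) 0 (fun m' _ =>
    frc (Nat.log2 (Nat.succ m')) fun r => Nat.add (G r) (ih (Nat.xor (Nat.succ m') (Nat.shiftLeft 1 r)))) m) fuel

/-- the search on packed masks; the lowest 32 bits of a mask are not used -/
noncomputable def go (T H : ℕ → ℕ → ℕ) (g : ℕ → List ℕ → ℕ) (n : ℕ) : ℕ → ℕ → List ℕ → ℕ :=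
  Nat.rec (motive := fun _ => ℕ → ℕ → List ℕ → ℕ) (fun _ A acc => g A acc) (fun n ih M A acc =>
    frc A fun A => frc (Nat.lor M (Nat.land A 4294967295)) fun M => Nat.add
      (bits (fun r => ih (Nat.land (Nat.shiftRight M 72) (T n r)) (Nat.add A (H n r)) (r :: acc)) 36
        (Nat.land (Nat.shiftRight M 32) 68719476735))
      (bits (fun r => frc (Nat.add r 36) fun r => ih (Nat.land (Nat.shiftRight M 72) (T n r)) (Nat.add A (H n r)) (r :: acc)) 36
        (Nat.land (Nat.shiftRight M 68) 68719476735))) n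

/-- the packed rows of the relations -/
def T6 (n r : ℕ) : ℕ :=
  Nat.add (Nat.mul (Nat.mod (Nat.shiftRight O6 (Nat.mul 72 r)) 4722366482869645213696)
      (([0, 0, 2 ^ 104, 2 ^ 104 + 2 ^ 176, 2 ^ 32 + 2 ^ 176 + 2 ^ 248, 2 ^ 32 + 2 ^ 176 + 2 ^ 248 + 2 ^ 320] : List ℕ).getD n 0))
    (Nat.mul (Nat.mod (Nat.shiftRight P6 (Nat.mul 72 r)) 4722366482869645213696)
      (([0, 2 ^ 32, 2 ^ 32, 2 ^ 32, 2 ^ 104, 2 ^ 104] : List ℕ).getD n 0))

/-- the residue -/
def t105 (c : ℤ) : ℕ := (c % 105).toNat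

/-- the dot product -/
noncomputable def dN (x : List ℕ) : List ℕ → ℕ :=
  List.rec (motive := fun _ => List ℕ → ℕ) (fun _ => 0) (fun a _ ih y =>
    List.rec (motive := fun _ => ℕ) 0 (fun b bs _ => Nat.add (Nat.mul a b) (ih bs)) y) x

/-- the masks of all residues -/
noncomputable def mX (s : ℕ) (f : List ℕ) (L : List (List ℕ)) : ℕ :=
  List.rec (motive := fun _ => ℕ) 0 (fun row _ ih =>
    Nat.lor (Nat.shiftLeft ih 1) (Nat.shiftLeft 1 (Nat.mul 72 (Nat.mod (dN row f) s)))) L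

/-- the roots -/
def RN : List (List ℕ) := Rt6.map (List.map t105)

/-- the mask of the candidates -/
def mk (X s : ℕ) (tgt : ℤ) (pos : Bool) : ℕ :=
  Nat.land (Nat.shiftRight X (Nat.mul 72 (Nat.mod (t105 tgt) s)))
    (Bool.rec (motive := fun _ => ℕ) 4722366482869645213695 4722366482800925736960 pos)

/-- six masks -/
def pack (m : ℕ → ℕ) : ℕ :=
  Nat.shiftLeft (Nat.lor (m 0) (Nat.shiftLeft (Nat.lor (m 1) (Nat.shiftLeft (Nat.lor (m 2) (Nat.shiftLeft (Nat.lor (m 3)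
    (Nat.shiftLeft (Nat.lor (m 4) (Nat.shiftLeft (m 5) 72)) 72)) 72)) 72)) 72)) 32

/-- a combination of the columns -/
def col (Θ : List ℕ) (j : ℕ) : ℤ :=
  dot (Θ.map fun t => (data6.rt t).getD j 0) [1, 123456789, 123456789 ^ 2, 123456789 ^ 3, 123456789 ^ 4, 123456789 ^ 5]

/-- the image of a root -/
def im (Θ : List ℕ) (r : ℕ) : ℤ := dot (data6.rt r) (Θ.map data6.cd)

/-- the summand of a root at the place `j` -/
def hh (Θ : List ℕ) (j r : ℕ) : ℤ :=
  3 * (data6.cd r * col Θ j - 123456789 ^ j * im Θ r) + 100000000000000003 * (data6.cv.getD j 0 * data6.cd r)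

def H6 (Θ : List ℕ) (n r : ℕ) : ℕ := (hh Θ (Nat.sub 5 n) r % 300000000000000009).toNat

def H0 (n r : ℕ) : ℕ := Nat.mul (Nat.succ r) (Nat.pow 73 n)

/-- the shifted code -/
def cdN (r : ℕ) : ℕ := (data6.cd r + 2097152).toNat

/-- the number of the roots made negative -/
noncomputable def cntF (P : List (List ℕ)) (c : List ℕ) : ℕ :=
  List.rec (motive := fun _ => ℕ) 0 (fun X _ ih => Nat.add ih (Bool.rec (motive := fun _ => ℕ) 0 1
    (Nat.ble (dN X c) (dN X [2097152, 2097152, 2097152, 2097152, 2097152, 2097152])))) P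

/-- an upper bound for the sum -/
noncomputable def valF (q s : ℕ) (fl : List ℤ) (X : ℕ) (Θ : List ℕ) : ℕ :=
  go T6 (H6 Θ) (fun A acc => Bool.rec (motive := fun _ => ℕ) 0
    (Nat.pow q (cntF ((data6.psiL s fl).map (List.map Int.toNat)) (acc.reverse.map cdN)))
    (Nat.beq (Nat.mod A 300000000000000009) 200000000000000006)) 6 (pack fun i => mk X s (fl.getD i 0) false) 0 []

/-- the check -/
noncomputable def ok6 (q s : ℕ) (ε : ℤ) (K : ℕ) (fl : List ℤ) : Bool :=
  Nat.beq (frc (mX s (fl.map t105) RN) fun X => go T6 H0 (fun _ acc => Bool.rec (motive := fun _ => ℕ) 1 0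
    (!(data6.chk ε acc.reverse && data6.keep (data6.psiL s fl) acc.reverse) ||
      Nat.ble ((detL 6 (data6.rows 6 q acc.reverse)).natAbs * (q ^ (data6.psiL s fl).length * valF q s fl X acc.reverse)) K))
    6 (pack fun i => mk X s (q * fl.getD i 0) (fl.getD i 0 % (s : ℤ) == 0)) (Nat.mod X 4294967291) []) 0

theorem frc_eq (x : ℕ) (k : ℕ → ℕ) : frc x k = k x := by cases x <;> rfl

theorem bits_ge (G : ℕ → ℕ) : ∀ (fuel m : ℕ) (S : Finset ℕ), m < 2 ^ fuel → (∀ x ∈ S, m.testBit x = true) →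
    ∑ x ∈ S, G x ≤ bits G fuel m := by
  have h0 : ∀ S : Finset ℕ, (∀ x ∈ S, (0 : ℕ).testBit x = true) → ∑ x ∈ S, G x = 0 := fun S h =>
    Finset.sum_eq_zero fun x hx => absurd (h x hx) (by rw [Nat.zero_testBit]; decide)
  intro fuel
  induction fuel with
  | zero =>
    intro m S hm h
    obtain rfl : m = 0 := by omega
    exact (h0 S h).le
  | succ fuel ih =>
    intro m S hm h
    cases m with
    | zero => exact (h0 S h).le
    | succ m =>
      have e : bits G (fuel + 1) (m + 1) = G (m + 1).log2 + bits G fuel ((m + 1) ^^^ 1 <<< (m + 1).log2) :=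
        frc_eq _ fun r => Nat.add (G r) (bits G fuel (Nat.xor (Nat.succ m) (Nat.shiftLeft 1 r)))
      rw [e, Nat.one_shiftLeft]
      have h1 := Nat.testBit_log2 m.succ_ne_zero
      have h2 := Nat.log2_self_le m.succ_ne_zero
      have h3 := @Nat.lt_log2_self (m + 1)
      generalize (m + 1).log2 = r at *
      have h4 : r ≤ fuel := Nat.lt_succ_iff.1 ((Nat.pow_lt_pow_iff_right (by norm_num)).1 (h2.trans_lt hm))
      have h5 := ih ((m + 1) ^^^ 2 ^ r) (S.erase r) ((Nat.lt_pow_two_of_testBit (n := r) _ fun i hi => ?_).trans_le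
        (Nat.pow_le_pow_right (by norm_num) h4)) fun x hx => ?_
      · by_cases hr : r ∈ S
        · rw [← Finset.add_sum_erase S G hr]
          exact Nat.add_le_add_left h5 _
        · rw [Finset.erase_eq_of_notMem hr] at h5
          exact h5.trans (Nat.le_add_left _ _)
      · rw [Nat.testBit_xor, Nat.testBit_two_pow]
        rcases hi.eq_or_lt with rfl | hi
        · rw [h1, decide_eq_true rfl]; rfl
        · rw [Nat.testBit_lt_two_pow (h3.trans_le (Nat.pow_le_pow_right (by norm_num) hi)), decide_eq_false hi.ne]; rfl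
      · rw [Finset.mem_erase] at hx
        rw [Nat.testBit_xor, Nat.testBit_two_pow, h x hx.2, decide_eq_false (Ne.symm hx.1)]; rfl

theorem two_ge (G : ℕ → ℕ) (M : ℕ) (L : List ℕ) (hL : L.Nodup) (h : ∀ r ∈ L, r < 72 ∧ M.testBit (32 + r) = true) :
    (L.map G).sum ≤ bits G 36 (M >>> 32 &&& 68719476735) +
      bits (fun r => frc (Nat.add r 36) G) 36 (M >>> 68 &&& 68719476735) := by
  have e : (68719476735 : ℕ) = 2 ^ 36 - 1 := by norm_num
  rw [← List.sum_toFinset G hL, ← Finset.sum_filter_add_sum_filter_not _ (fun r => r < 36), e]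
  refine Nat.add_le_add (bits_ge _ _ _ _ (Nat.and_lt_two_pow _ (by norm_num)) fun x hx => ?_)
    (le_trans (le_of_eq ?_) (bits_ge _ _ _ ((L.toFinset.filter fun r => ¬ r < 36).image (· - 36))
      (Nat.and_lt_two_pow _ (by norm_num)) fun x hx => ?_))
  · rw [Finset.mem_filter, List.mem_toFinset] at hx
    rw [Nat.testBit_and, Nat.testBit_shiftRight, (h x hx.1).2, Nat.testBit_two_pow_sub_one, decide_eq_true hx.2]; rfl
  · rw [Finset.sum_image fun a ha b hb e => by
      rw [Finset.coe_filter] at ha hb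
      have := ha.2
      have := hb.2
      omega]
    refine Finset.sum_congr rfl fun x hx => ?_
    rw [frc_eq]
    exact congrArg G (Nat.sub_add_cancel (not_lt.1 (Finset.mem_filter.1 hx).2)).symm
  · obtain ⟨y, hy, rfl⟩ := Finset.mem_image.1 hx
    rw [Finset.mem_filter, List.mem_toFinset] at hy
    have h1 := h y hy.1
    have h2 := hy.2
    rw [Nat.testBit_and, Nat.testBit_shiftRight, show 68 + (y - 36) = 32 + y by omega, h1.2, Nat.testBit_two_pow_sub_one,
      decide_eq_true (show y - 36 < 36 by omega)]; rfl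

/-- the sum along a path -/
def sA (H : ℕ → ℕ → ℕ) : List ℕ → ℕ
  | [] => 0
  | a :: acc => sA H acc + H (5 - acc.length) a

theorem sum_flat {α β : Type} (F : α → List β) (g : β → ℕ) (L : List α) :
    ((L.flatMap F).map g).sum = (L.map fun r => ((F r).map g).sum).sum := by
  induction L with
  | nil => rfl
  | cons a L ih => rw [List.flatMap_cons, List.map_append, List.sum_append, ih, List.map_cons, List.sum_cons]

theorem T6_bit (i d r s : ℕ) (h : i + d + 1 < 6) (hr : r < 72) (hs : s < 72)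
    (hb : (data6.rel (i + d + 1) i).testBit (72 * r + s) = true) : (T6 (5 - i) r).testBit (32 + 72 * d + s) = true := by
  have key : ∀ i < 5, ∀ d < 5, ∀ r < 72, i + d + 1 < 6 →
      (data6.rel (i + d + 1) i >>> (72 * r)) % 2 ^ 72 = (T6 (5 - i) r >>> (32 + 72 * d)) % 2 ^ 72 := by decide +kernel
  have h1 := congrArg (fun x => Nat.testBit x s) (key i (by omega) d (by omega) r hr h)
  simp only [Nat.testBit_mod_two_pow, Nat.testBit_shiftRight, decide_eq_true hs, Bool.true_and] at h1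
  rw [← h1, hb]

theorem go_ge (cl : ℕ → List ℕ) (hcl : ∀ i, (cl i).Nodup ∧ ∀ r ∈ cl i, r < 72) (H : ℕ → ℕ → ℕ) (g : ℕ → List ℕ → ℕ)
    (g0 : List ℕ → ℕ) (A : ℕ) (hg : ∀ L, L.length = 6 → g0 L ≤ g (A + sA H L) L) : ∀ (n i M : ℕ) (acc : List ℕ), i + n = 6 →
    acc.length = i → (∀ d < n, ∀ r ∈ cl (i + d), okr 72 ((List.range i).reverse.map (data6.rel (i + d))) acc r = true →
      M.testBit (32 + 72 * d + r) = true) →
    ((dfs 72 (specs data6.rel cl i n) acc).map g0).sum ≤ go T6 H g n M (A + sA H acc) acc := by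
  intro n
  induction n with
  | zero =>
    intro i M acc hi hl _
    exact (Nat.add_zero _).le.trans (hg acc (by omega))
  | succ n ih =>
    intro i M acc hi hl hM
    have e : ∀ B, go T6 H g (n + 1) M B acc = frc B fun A => frc (Nat.lor M (Nat.land A 4294967295)) fun M => Nat.add
      (bits (fun r => go T6 H g n (Nat.land (Nat.shiftRight M 72) (T6 n r)) (Nat.add A (H n r)) (r :: acc)) 36
        (Nat.land (Nat.shiftRight M 32) 68719476735))
      (bits (fun r => frc (Nat.add r 36) fun r => go T6 H g n (Nat.land (Nat.shiftRight M 72) (T6 n r)) (Nat.add A (H n r))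
        (r :: acc)) 36 (Nat.land (Nat.shiftRight M 68) 68719476735)) := fun _ => rfl
    rw [e, frc_eq, frc_eq]
    generalize hM' : Nat.lor M (Nat.land (A + sA H acc) 4294967295) = M'
    have hb : ∀ j, M.testBit j = true → M'.testBit j = true := fun j hj => by
      rw [← hM']
      exact (Nat.testBit_or _ _ j).trans (by rw [hj]; rfl)
    have e1 : dfs 72 (specs data6.rel cl i (n + 1)) acc = ((cl i).filter fun r =>
      okr 72 ((List.range i).reverse.map (data6.rel i)) acc r).flatMap fun r => dfs 72 (specs data6.rel cl (i + 1) n) (r :: acc) := rfl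
    rw [e1, sum_flat]
    refine le_trans (List.sum_le_sum fun r hr => ?_) (two_ge (fun r => go T6 H g n (Nat.land (Nat.shiftRight M' 72) (T6 n r))
      (Nat.add (A + sA H acc) (H n r)) (r :: acc)) M' _ ((hcl i).1.filter _) fun r hr => ?_)
    · have e2 : Nat.add (A + sA H acc) (H n r) = A + sA H (r :: acc) := by
        show A + sA H acc + H n r = A + (sA H acc + H (5 - acc.length) r)
        rw [Nat.add_assoc, hl, show 5 - i = n by omega]
      rw [e2]
      refine ih (i + 1) _ _ (by omega) (by rw [List.length_cons, hl]) fun d hd s hs ho => ?_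
      rw [range_succ_reverse, show i + 1 + d = i + (d + 1) by omega] at *
      have ho' : ((data6.rel (i + (d + 1)) i).testBit (72 * r + s) &&
        okr 72 ((List.range i).reverse.map (data6.rel (i + (d + 1)))) acc s) = true := ho
      rw [Bool.and_eq_true] at ho'
      refine (Nat.testBit_and _ _ _).trans (Bool.and_eq_true_iff.2 ⟨(Nat.testBit_shiftRight _).trans (hb _ ?_), ?_⟩)
      · rw [show 72 + (32 + 72 * d + s) = 32 + 72 * (d + 1) + s by omega]
        exact hM (d + 1) (by omega) s hs ho'.2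
      · rw [show n = 5 - i by omega]
        exact T6_bit i d r s (by omega) ((hcl i).2 r (List.mem_filter.1 hr).1) ((hcl _).2 s hs) ho'.1
    · rw [List.mem_filter] at hr
      exact ⟨(hcl i).2 r hr.1, hb _ (hM 0 (by omega) r hr.1 hr.2)⟩

theorem pack_bit (m : ℕ → ℕ) (d r : ℕ) (hd : d < 6) (h : (m d).testBit r = true) : (pack m).testBit (32 + 72 * d + r) = true := by
  have h1 : ∀ x y j : ℕ, x.testBit j = true → (Nat.lor x y).testBit j = true := fun x y j hj =>
    (Nat.testBit_or _ _ j).trans (by rw [hj]; rfl)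
  have h2 : ∀ x k j l : ℕ, l = k + j → x.testBit j = true → (Nat.shiftLeft x k).testBit l = true := fun x k j l e hj =>
    (Nat.testBit_shiftLeft x).trans (by rw [e, Nat.add_sub_cancel_left, hj, decide_eq_true (Nat.le_add_right k j)]; rfl)
  have h3 : ∀ x y j l : ℕ, l = 72 + j → y.testBit j = true → (Nat.lor x (Nat.shiftLeft y 72)).testBit l = true :=
    fun x y j l e hj => (Nat.testBit_or _ _ l).trans (by rw [h2 y 72 j l e hj, Bool.or_true])
  refine h2 _ 32 (72 * d + r) _ (by omega) ?_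
  interval_cases d
  · exact h1 _ _ _ (by simpa using h)
  · exact h3 _ _ _ _ (by omega) (h1 _ _ _ h)
  · exact h3 _ _ (72 + r) _ (by omega) (h3 _ _ _ _ rfl (h1 _ _ _ h))
  · exact h3 _ _ (72 + (72 + r)) _ (by omega) (h3 _ _ _ _ rfl (h3 _ _ _ _ rfl (h1 _ _ _ h)))
  · exact h3 _ _ (72 + (72 + (72 + r))) _ (by omega) (h3 _ _ _ _ rfl (h3 _ _ _ _ rfl (h3 _ _ _ _ rfl (h1 _ _ _ h))))
  · exact h3 _ _ (72 + (72 + (72 + (72 + r)))) _ (by omega) (h3 _ _ _ _ rfl (h3 _ _ _ _ rfl (h3 _ _ _ _ rfl (h3 _ _ _ _ rfl h))))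

theorem t105_eq (c : ℤ) : (t105 c : ℤ) ≡ c [ZMOD 105] := by
  rw [t105, Int.toNat_of_nonneg (Int.emod_nonneg _ (by norm_num))]
  exact Int.mod_modEq _ _

theorem dN_eq : ∀ x y : List ℤ, (dN (x.map t105) (y.map t105) : ℤ) ≡ dot x y [ZMOD 105]
  | [], _ => Int.ModEq.refl _
  | _ :: _, [] => Int.ModEq.refl _
  | a :: x, b :: y => by
    have e : dN ((a :: x).map t105) ((b :: y).map t105) = t105 a * t105 b + dN (x.map t105) (y.map t105) := rfl
    rw [e, Nat.cast_add, Nat.cast_mul]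
    exact ((t105_eq a).mul (t105_eq b)).add (dN_eq x y)

theorem mX_bit (s : ℕ) (f : List ℕ) : ∀ (L : List (List ℕ)) (r : ℕ), r < L.length →
    (mX s f L).testBit (72 * (dN (L.getD r []) f % s) + r) = true
  | [], _, h => absurd h (Nat.not_lt_zero _)
  | row :: L, 0, _ => (Nat.testBit_or (mX s f L <<< 1) (1 <<< (72 * (dN row f % s))) _).trans (by
      rw [Nat.one_shiftLeft, List.getD_cons_zero, Nat.add_zero, Nat.testBit_two_pow_self, Bool.or_true])
  | row :: L, r + 1, h => (Nat.testBit_or (mX s f L <<< 1) (1 <<< (72 * (dN row f % s))) _).trans (by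
      rw [Nat.testBit_shiftLeft, List.getD_cons_succ, ← Nat.add_assoc, Nat.add_sub_cancel,
        mX_bit s f L r (Nat.lt_of_succ_lt_succ h), decide_eq_true (Nat.le_add_left 1 _)]; rfl)

theorem mk_bit {s : ℕ} (hs : s ∣ 105) (fl : List ℤ) (tgt : ℤ) (pos : Bool) (r : ℕ) (h : r ∈ data6.cls s fl tgt pos) :
    (mk (mX s (fl.map t105) RN) s tgt pos).testBit r = true := by
  obtain ⟨h1, h2⟩ := List.mem_filter.1 h
  have h3 : r < 72 := List.mem_range.1 h1
  rw [Bool.and_eq_true, beq_iff_eq] at h2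
  refine (Nat.testBit_and _ _ _).trans (Bool.and_eq_true_iff.2 ⟨(Nat.testBit_shiftRight _).trans ?_, ?_⟩)
  · have h4 := mX_bit s (fl.map t105) RN r h3
    have h5 : RN.getD r [] = (data6.rt r).map t105 := List.getD_map (f := List.map t105) Rt6 [] (n := r)
    have h6 : (s : ℤ) ∣ 105 := Int.natCast_dvd_natCast.2 hs
    have h7 : dN ((data6.rt r).map t105) (fl.map t105) % s = t105 tgt % s := Int.natCast_modEq_iff.1
      ((((dN_eq _ _).of_dvd h6).trans (Int.emod_eq_emod_iff_emod_sub_eq_zero.2 h2.1)).trans ((t105_eq _).of_dvd h6).symm)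
    rw [h5, h7] at h4
    exact h4
  · have key : ∀ r < 72, (4722366482869645213695 : ℕ).testBit r = true ∧
        (0 < data6.cd r → (4722366482800925736960 : ℕ).testBit r = true) := by decide +kernel
    cases pos with
    | false => exact (key r h3).1
    | true => exact (key r h3).2 (of_decide_eq_true h2.2)

theorem top_ge {s : ℕ} (hs : s ∣ 105) (fl : List ℤ) (tgt : ℕ → ℤ) (pos : ℕ → Bool) (H : ℕ → ℕ → ℕ) (g : ℕ → List ℕ → ℕ)
    (g0 : List ℕ → ℕ) (A : ℕ) (hg : ∀ L, L.length = 6 → g0 L ≤ g (A + sA H L) L) :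
    ((dfs 72 (specs data6.rel (fun i => data6.cls s fl (tgt i) (pos i)) 0 6) []).map g0).sum ≤
      go T6 H g 6 (pack fun i => mk (mX s (fl.map t105) RN) s (tgt i) (pos i)) A [] :=
  go_ge _ (fun _ => ⟨List.nodup_range.filter _, fun _ hr => List.mem_range.1 (List.mem_filter.1 hr).1⟩) H g g0 A hg 6 0 _ []
    rfl rfl fun d hd r hr _ => pack_bit _ d r hd (mk_bit hs fl _ _ r (by rw [Nat.zero_add] at hr; exact hr))

theorem dot6 : ∀ (x : List ℤ) (a b c d e f : ℤ), dot x [a, b, c, d, e, f] = x.getD 0 0 * a + x.getD 1 0 * b + x.getD 2 0 * c +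
    x.getD 3 0 * d + x.getD 4 0 * e + x.getD 5 0 * f := by
  have h0 : ∀ y, dot [] y = 0 := fun y => by cases y <;> rfl
  have h1 : ∀ y, dot y [] = 0 := fun y => by cases y <;> rfl
  have h2 : ∀ a b x y, dot (a :: x) (b :: y) = a * b + dot x y := fun _ _ _ _ => rfl
  rintro (_ | ⟨_, _ | ⟨_, _ | ⟨_, _ | ⟨_, _ | ⟨_, _ | ⟨_, _⟩⟩⟩⟩⟩⟩) a b c d e f <;>
    simp only [h0, h1, h2, List.getD_cons_succ, List.getD_cons_zero, List.getD_nil] <;> ring

theorem dN_cast : ∀ (x : List ℤ) (y : List ℕ), (∀ c ∈ x, 0 ≤ c) → (dN (x.map Int.toNat) y : ℤ) = dot x (y.map Nat.cast)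
  | [], y, _ => by cases y <;> rfl
  | _ :: _, [], _ => rfl
  | a :: x, b :: y, h => by
    have e : dN ((a :: x).map Int.toNat) (b :: y) = a.toNat * b + dN (x.map Int.toNat) y := rfl
    rw [e, Nat.cast_add, Nat.cast_mul, Int.toNat_of_nonneg (h a List.mem_cons_self),
      dN_cast x y fun c hc => h c (List.mem_cons_of_mem _ hc)]
    rfl

theorem cdN_eq (r : ℕ) : (cdN r : ℤ) = data6.cd r + 2097152 := by
  have key : ∀ c ∈ Cd6, 0 ≤ c + 2097152 := by decide +kernel
  refine Int.toNat_of_nonneg ?_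
  by_cases h : r < Cd6.length
  · exact key _ (by rw [show data6.cd r = Cd6[r] from List.getD_eq_getElem _ _ h]; exact List.getElem_mem h)
  · rw [show data6.cd r = 0 from List.getD_eq_default _ _ (not_lt.1 h)]
    decide

theorem cnt_le (a b c d e f : ℕ) : ∀ P : List (List ℤ), (∀ X ∈ P, ∀ x ∈ X, 0 ≤ x) →
    data6.cnt P [a, b, c, d, e, f] ≤ cntF (P.map (List.map Int.toNat)) ([a, b, c, d, e, f].map cdN)
  | [], _ => Nat.le_refl 0
  | X :: P, h => by
    have ih := cnt_le a b c d e f P fun Y hY => h Y (List.mem_cons_of_mem _ hY)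
    have hX := h X List.mem_cons_self
    by_cases h1 : dot X ([a, b, c, d, e, f].map data6.cd) ≤ 0
    · have h2 : Nat.ble (dN (X.map Int.toNat) ([a, b, c, d, e, f].map cdN))
          (dN (X.map Int.toNat) [2097152, 2097152, 2097152, 2097152, 2097152, 2097152]) = true := by
        rw [Nat.ble_eq, ← Nat.cast_le (α := ℤ), dN_cast _ _ hX, dN_cast _ _ hX]
        simp only [List.map_cons, List.map_nil, dot6, cdN_eq, Nat.cast_ofNat] at h1 ⊢
        linarith only [h1]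
      have e1 : cntF ((X :: P).map (List.map Int.toNat)) ([a, b, c, d, e, f].map cdN) =
        cntF (P.map (List.map Int.toNat)) ([a, b, c, d, e, f].map cdN) + Bool.rec (motive := fun _ => ℕ) 0 1 _ := rfl
      rw [e1, h2]
      exact (le_of_eq (congrArg List.length (List.filter_cons_of_pos
        (p := fun X => decide (dot X ([a, b, c, d, e, f].map data6.cd) ≤ 0)) (decide_eq_true h1)))).trans (Nat.succ_le_succ ih)
    · exact (le_of_eq (congrArg List.length (List.filter_cons_of_neg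
        (p := fun X => decide (dot X ([a, b, c, d, e, f].map data6.cd) ≤ 0)) fun h2 => h1 (of_decide_eq_true h2)))).trans
        (ih.trans (Nat.le_add_right _ _))

theorem H6_eq (Θ : List ℕ) (n r : ℕ) : (H6 Θ n r : ℤ) ≡ hh Θ (5 - n) r [ZMOD 300000000000000009] := by
  rw [H6, Int.toNat_of_nonneg (Int.emod_nonneg _ (by norm_num))]
  exact Int.mod_modEq _ _

theorem len6 {L : List ℕ} (h : L.length = 6) : ∃ a b c d e f, L = [f, e, d, c, b, a] := by
  rcases L with _ | ⟨_, _ | ⟨_, _ | ⟨_, _ | ⟨_, _ | ⟨_, _ | ⟨_, _ | _⟩⟩⟩⟩⟩⟩ <;> first | exact ⟨_, _, _, _, _, _, rfl⟩ | cases h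

theorem val_ge {s : ℕ} (hs : s ∣ 105) {q : ℕ} (hq : 0 < q) (fl : List ℤ) {L : List ℕ} (hL : L.length = 6) :
    ((data6.vs 6 s fl).map (data6.wt q (data6.psiL s fl) L.reverse)).sum ≤ valF q s fl (mX s (fl.map t105) RN) L.reverse := by
  obtain ⟨t0, t1, t2, t3, t4, t5, rfl⟩ := len6 hL
  refine top_ge hs fl _ (fun _ => false) _ _ _ 0 fun V hV => ?_
  obtain ⟨a0, a1, a2, a3, a4, a5, rfl⟩ := len6 hV
  have e0 : ∀ a b c d e f : ℕ, [f, e, d, c, b, a].reverse = [a, b, c, d, e, f] := fun _ _ _ _ _ _ => rfl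
  show (if (data6.chk 1 _ && data6.comm _ _) = true then _ else 0) ≤ _
  rw [e0, e0]
  split_ifs with h
  swap
  · exact Nat.zero_le _
  rw [Bool.and_eq_true] at h
  obtain ⟨h1, h2⟩ := h
  have h3 : (dot [1, 0, 2, 0, 1, 2] [data6.cd a0, data6.cd a1, data6.cd a2, data6.cd a3, data6.cd a4, data6.cd a5] -
    2923814) % 3 = 0 := beq_iff_eq.1 h1
  have h4 : ∀ p ∈ [(t0, a0), (t1, a1), (t2, a2), (t3, a3), (t4, a4), (t5, a5)], dot (data6.rt p.1) [data6.cd a0, data6.cd a1,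
    data6.cd a2, data6.cd a3, data6.cd a4, data6.cd a5] = im [t0, t1, t2, t3, t4, t5] p.2 := fun p hp =>
    beq_iff_eq.1 (List.all_eq_true.1 h2 p hp)
  have h5 : Nat.beq (Nat.mod (0 + sA (H6 [t0, t1, t2, t3, t4, t5]) [a5, a4, a3, a2, a1, a0]) 300000000000000009)
      200000000000000006 = true := by
    generalize hT : [t0, t1, t2, t3, t4, t5] = T at h4 ⊢
    have e1 : 0 + sA (H6 T) [a5, a4, a3, a2, a1, a0] =
      0 + (0 + H6 T 5 a0 + H6 T 4 a1 + H6 T 3 a2 + H6 T 2 a3 + H6 T 1 a4 + H6 T 0 a5) := rfl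
    rw [e1, Nat.zero_add, Nat.zero_add, Nat.beq_eq]
    have h6 := (((((H6_eq T 5 a0).add (H6_eq T 4 a1)).add (H6_eq T 3 a2)).add (H6_eq T 2 a3)).add (H6_eq T 1 a4)).add
      (H6_eq T 0 a5)
    obtain ⟨y, hy⟩ := Int.dvd_of_emod_eq_zero h3
    have h7 : hh T (5 - 5) a0 + hh T (5 - 4) a1 + hh T (5 - 3) a2 + hh T (5 - 2) a3 + hh T (5 - 1) a4 + hh T (5 - 0) a5 =
        200000000000000006 + 300000000000000009 * (y + 974604) := by
      simp only [List.forall_mem_cons, dot6] at h4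
      obtain ⟨k0, k1, k2, k3, k4, k5, -⟩ := h4
      have e2 : ∀ j, col T j = (data6.rt t0).getD j 0 * 1 + (data6.rt t1).getD j 0 * 123456789 +
          (data6.rt t2).getD j 0 * 123456789 ^ 2 + (data6.rt t3).getD j 0 * 123456789 ^ 3 +
          (data6.rt t4).getD j 0 * 123456789 ^ 4 + (data6.rt t5).getD j 0 * 123456789 ^ 5 := fun j => hT ▸ dot6 _ _ _ _ _ _ _
      have e3 : ∀ (j r : ℕ) (c : ℤ), data6.cv.getD j 0 = c → hh T j r = 3 * (data6.cd r * col T j - 123456789 ^ j * im T r) +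
        100000000000000003 * (c * data6.cd r) := fun j r c hc => hc ▸ rfl
      rw [e3 0 a0 1 rfl, e3 1 a1 0 rfl, e3 2 a2 2 rfl, e3 3 a3 0 rfl, e3 4 a4 1 rfl, e3 5 a5 2 rfl, e2, e2, e2, e2, e2, e2,
        ← k0, ← k1, ← k2, ← k3, ← k4, ← k5]
      rw [dot6] at hy
      simp only [List.getD_cons_succ, List.getD_cons_zero] at hy
      linear_combination 100000000000000003 * hy
    rw [h7] at h6
    have h8 := h6.trans (Int.modEq_add_fac_self ..)
    exact_mod_cast h8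
  rw [h5]
  refine Nat.pow_le_pow_right hq (cnt_le _ _ _ _ _ _ _ fun X hX => ?_)
  obtain ⟨r, hr, rfl⟩ := List.mem_map.1 hX
  obtain ⟨h6, h7⟩ := List.mem_filter.1 hr
  have key : ∀ r < 72, 0 < data6.cd r → ∀ x ∈ data6.rt r, 0 ≤ x := by decide +kernel
  exact key r (List.mem_range.1 h6) (of_decide_eq_true (Bool.and_eq_true_iff.1 h7).2)

/-- **Soundness of the fast check.** -/
theorem ok_of {s : ℕ} (hs : s ∣ 105) {q : ℕ} (hq : 0 < q) {ε : ℤ} {K : ℕ} {fl : List ℤ} (h : ok6 q s ε K fl = true) :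
    data6.ok 6 q s ε K fl = true := by
  have h1 := Nat.eq_of_beq_eq_true h
  rw [frc_eq] at h1
  have h2 := (top_ge hs fl _ _ H0 _ (fun acc => Bool.rec (motive := fun _ => ℕ) 1 0
    (!(data6.chk ε acc.reverse && data6.keep (data6.psiL s fl) acc.reverse) || decide (data6.value 6 q s fl acc.reverse ≤ K))) _
    fun L hL => ?_).trans h1.le
  · refine List.all_eq_true.2 fun acc ha => ?_
    have h3 := (List.single_le_sum (fun _ _ => Nat.zero_le _) _ (List.mem_map_of_mem ha)).trans h2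
    revert h3
    cases (!(data6.chk ε acc.reverse && data6.keep (data6.psiL s fl) acc.reverse) ||
      decide (data6.value 6 q s fl acc.reverse ≤ K)) with
    | false => exact fun h => absurd h (by decide)
    | true => exact fun _ => rfl
  · cases (data6.chk ε L.reverse && data6.keep (data6.psiL s fl) L.reverse) with
    | false => exact Nat.le_refl 0
    | true =>
      cases h3 : Nat.ble ((detL 6 (data6.rows 6 q L.reverse)).natAbs *
        (q ^ (data6.psiL s fl).length * valF q s fl (mX s (fl.map t105) RN) L.reverse)) K with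
      | false => cases decide (data6.value 6 q s fl L.reverse ≤ K) <;> decide
      | true =>
        have h4 : data6.value 6 q s fl L.reverse ≤ K :=
          (Nat.mul_le_mul_left _ (Nat.mul_le_mul_left _ (val_ge hs hq fl hL))).trans (Nat.le_of_ble_eq_true h3)
        rw [decide_eq_true h4]

end Fa

end Cfsg.Agent.H972.CS.E6Link

private theorem dce_de31d38a768f : _root_.True := by
  try have : _root_.True := by simp only [_root_.Cfsg.Agent.H972.CS.E6Link.tups.eq_2]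
  try have : _root_.True := by simp only [_root_.Cfsg.Agent.H972.CS.E6Link.tups.eq_def]
  try have : _root_.True := by simp only [_root_.Cfsg.Agent.H972.CS.E6Link.tups.eq_1]
  exact _root_.True.intro
end

-- part: H972/CS/TwE6VA
section
set_option linter.all false

/-!
# The centralisers of order 3 in `²E₆(2)`: values of the formula, first part (helper972)

`ok` : for all isometries `θ ≡ -1` with `f ∘ θ = 2 f` keeping `Ψ+` positive the value is at most `82771476480`.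
-/

set_option autoImplicit false
set_option maxRecDepth 1000000

namespace Cfsg.Agent.H972.CS.TwE6VA

open Cfsg.Agent.H972.CS.Eval Cfsg.Agent.H972.CS.E6Link

theorem v000011 : data6.ok 6 2 3 (-1) 82771476480 [0, 0, 0, 0, 1, 1] = true :=
  Fa.ok_of (s := 3) (by decide) (by decide) (by decide +kernel)

theorem v000100 : data6.ok 6 2 3 (-1) 82771476480 [0, 0, 0, 1, 0, 0] = true :=
  Fa.ok_of (s := 3) (by decide) (by decide) (by decide +kernel)

theorem v100001 : data6.ok 6 2 3 (-1) 82771476480 [1, 0, 0, 0, 0, 1] = true :=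
  Fa.ok_of (s := 3) (by decide) (by decide) (by decide +kernel)

theorem v101000 : data6.ok 6 2 3 (-1) 82771476480 [1, 0, 1, 0, 0, 0] = true :=
  Fa.ok_of (s := 3) (by decide) (by decide) (by decide +kernel)

end Cfsg.Agent.H972.CS.TwE6VA
end

-- part: H972/CS/TwE6VB
section
set_option linter.all false

/-!
# The centralisers of order 3 in `²E₆(2)`: values of the formula, second part (helper972)

`ok` : for all isometries `θ ≡ -1` with `f ∘ θ = 2 f` keeping `Ψ+` positive the value is at most `82771476480`.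
-/

set_option autoImplicit false
set_option maxRecDepth 1000000

namespace Cfsg.Agent.H972.CS.TwE6VB

open Cfsg.Agent.H972.CS.Eval Cfsg.Agent.H972.CS.E6Link

theorem v000010 : data6.ok 6 2 3 (-1) 82771476480 [0, 0, 0, 0, 1, 0] = true :=
  Fa.ok_of (s := 3) (by decide) (by decide) (by decide +kernel)

theorem v001000 : data6.ok 6 2 3 (-1) 82771476480 [0, 0, 1, 0, 0, 0] = true :=
  Fa.ok_of (s := 3) (by decide) (by decide) (by decide +kernel)

theorem v001001 : data6.ok 6 2 3 (-1) 82771476480 [0, 0, 1, 0, 0, 1] = true :=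
  Fa.ok_of (s := 3) (by decide) (by decide) (by decide +kernel)

theorem v010000 : data6.ok 6 2 3 (-1) 82771476480 [0, 1, 0, 0, 0, 0] = true :=
  Fa.ok_of (s := 3) (by decide) (by decide) (by decide +kernel)

theorem v010001 : data6.ok 6 2 3 (-1) 82771476480 [0, 1, 0, 0, 0, 1] = true :=
  Fa.ok_of (s := 3) (by decide) (by decide) (by decide +kernel)

theorem v100010 : data6.ok 6 2 3 (-1) 82771476480 [1, 0, 0, 0, 1, 0] = true :=
  Fa.ok_of (s := 3) (by decide) (by decide) (by decide +kernel)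

theorem v110000 : data6.ok 6 2 3 (-1) 82771476480 [1, 1, 0, 0, 0, 0] = true :=
  Fa.ok_of (s := 3) (by decide) (by decide) (by decide +kernel)

end Cfsg.Agent.H972.CS.TwE6VB
end

-- part: H38/CS/U6
section
set_option linter.all false

/-!
# S5745: the radical of the form of `E₆` modulo 3 (helper38)

`u = 3 ω₁ = 4 α₁ + 3 α₂ + 5 α₃ + 6 α₄ + 4 α₅ + 2 α₆` is fixed by `W(E₆)` modulo `3 Q`; so `f ∘ w = - f`
(`f : Q → ℤ/3`) implies `f u = 0`, which excludes the types `D₅`, `A₄A₁`.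
-/

set_option autoImplicit false
set_option linter.unusedSectionVars false

namespace Cfsg.Agent.H38.CS

open CoxeterSystem Cfsg Cfsg.Lie Cfsg.Lie.ChevalleyDatum
open Cfsg.Agent.ChevalleyStructure Cfsg.Agent.ChevalleyStructure.Elts Cfsg.Agent.ChevalleyStructure.CoxeterGeom
  Cfsg.Agent.ChevalleyStructure.CoxeterGeomTypes Cfsg.Agent.ChevalleyStructure.NPerm
open Cfsg.Agent.Tits.Roots Cfsg.Agent.Tits.Core Cfsg.Agent.Nodes Cfsg.Agent.Nodes.Reps Cfsg.Agent.Nodes.BNOf
  Cfsg.Agent.Nodes.RGDChev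
open Cfsg.Agent.KFacts.RgdField Cfsg.Agent.KFacts.RgdChevCoord
open Cfsg.Agent.BpExc Cfsg.Agent.BpExc.NChev Cfsg.Agent.H972.CS Cfsg.Agent.H972.CS.Main

/-- `3 ω₁` -/
def u6 : Fin 6 → ℤ := ![4, 3, 5, 6, 4, 2]

section

variable {M : CoxeterMatrix (Fin 6)} (hp : IsType chevE6 6 M) {W : Type*} [Group W] (cs : CoxeterSystem M W)

end

end Cfsg.Agent.H38.CS
end

-- part: H347/EPX/Small
section
set_option linter.all false
open scoped Cfsg.Agent.FastGrp

/-!
# Maximal subgroups of groups with socle of order 504 or 1092 (helper347, for S5745)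
-/

set_option autoImplicit false

namespace Cfsg.Agent.H347.EPX

open Subgroup Cfsg.Agent.H742.EX

section A504

variable {A : Type*} [Group A] [Finite A] {N M : Subgroup A}

theorem card_inf (hN : N.Normal) (hM : IsCoatom M) (hNM : ¬ N ≤ M) :
    Nat.card (M ⊓ N : Subgroup A) * N.index = Nat.card M := by
  have htop : M ⊔ N = ⊤ := hM.2 _ (lt_of_le_of_ne le_sup_left fun e => hNM (by rw [e]; exact le_sup_right))
  have h1 : N.relIndex (M ⊔ N) = N.relIndex M := Subgroup.relIndex_sup_right M N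
  rw [htop, relIndex_top_right] at h1
  have h2 := Subgroup.relIndex_mul_relIndex ⊥ (M ⊓ N) M bot_le inf_le_left
  rw [relIndex_bot_left, relIndex_bot_left, inf_relIndex_left, ← h1] at h2
  exact h2

/-- a `3`-group is not maximal -/
theorem not_three (hN : N.Normal) (hs : IsSimpleGroup N) (hc : Nat.card N = 504)
    (hA : Nat.card A = 504 ∨ Nat.card A = 1512) (hM : IsCoatom M) (h3 : IsPGroup 3 M) : False := by
  have : Fact (Nat.Prime 3) := ⟨Nat.prime_three⟩
  obtain ⟨P, hP⟩ := h3.exists_le_sylow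
  have h7 : 7 ∣ Nat.card A := by rcases hA with h | h <;> rw [h] <;> norm_num
  have hn7 : ∀ L : Subgroup A, IsPGroup 3 L → ¬ 7 ∣ Nat.card L := by
    intro L hL h
    obtain ⟨k, hk⟩ := hL.exists_card_eq
    rw [hk] at h
    have := (Nat.prime_dvd_prime_iff_eq (by norm_num) Nat.prime_three).1 ((by norm_num : Nat.Prime 7).dvd_of_dvd_pow h)
    omega
  have hPM : (P : Subgroup A) = M := by
    rcases hM.le_iff.1 hP with h | h
    · exfalso
      refine hn7 _ P.isPGroup' ?_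
      rw [h, Subgroup.card_top]
      exact h7
    · exact h
  have hNM : ¬ N ≤ M := by
    intro h
    refine hn7 M h3 (dvd_trans ?_ (Subgroup.card_dvd_of_le h))
    rw [hc]; norm_num
  have hci := card_inf hN hM hNM
  have hidx := N.card_mul_index
  rw [hc] at hidx
  have hcM : Nat.card M = 3 ^ (Nat.card A).factorization 3 := by
    rw [← hPM]
    exact P.card_eq_multiplicity
  have h504 : Nat.factorization 504 3 = 2 := by
    rw [show (504 : ℕ) = 3 ^ 2 * 56 by norm_num, Nat.factorization_mul (by norm_num) (by norm_num),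
      Nat.Prime.factorization_pow Nat.prime_three]
    simp [Nat.factorization_eq_zero_of_not_dvd (show ¬ 3 ∣ 56 by norm_num)]
  have h1512 : Nat.factorization 1512 3 = 3 := by
    rw [show (1512 : ℕ) = 3 ^ 3 * 56 by norm_num, Nat.factorization_mul (by norm_num) (by norm_num),
      Nat.Prime.factorization_pow Nat.prime_three]
    simp [Nat.factorization_eq_zero_of_not_dvd (show ¬ 3 ∣ 56 by norm_num)]
  have h9 : Nat.card (M ⊓ N : Subgroup A) = 9 := by
    rcases hA with h | h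
    · rw [h] at hidx hcM
      rw [h504] at hcM
      have : N.index = 1 := by omega
      rw [this, hcM] at hci
      omega
    · rw [h] at hidx hcM
      rw [h1512] at hcM
      have : N.index = 3 := by omega
      rw [this, hcM] at hci
      omega
  have hcS : Nat.card (M.subgroupOf N) = 9 := by
    have h1 : (M ⊓ N : Subgroup A).subgroupOf N = M.subgroupOf N := inf_subgroupOf_right M N
    rw [← h1, Nat.card_congr (Subgroup.subgroupOfEquivOfLe inf_le_right).toEquiv, h9]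
  let S : Sylow 3 N := Sylow.ofCard (M.subgroupOf N) (by rw [hcS, hc, h504]; norm_num)
  refine SmallSimple.BurnsideNC.not_normalizer_le_centralizer (p := 3) (by rw [hc]; norm_num) (by rw [hc]; norm_num) S ?_
  intro y hy
  have hS : ((S : Subgroup N)) = M.subgroupOf N := rfl
  -- the normalizer of `M ⊓ N`
  have hMn : M ≤ Subgroup.normalizer ((M ⊓ N : Subgroup A) : Set A) := by
    intro m hm
    rw [Subgroup.mem_normalizer_iff]
    intro k
    constructor
    · rintro ⟨h1, h2⟩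
      exact ⟨M.mul_mem (M.mul_mem hm h1) (M.inv_mem hm), hN.conj_mem k h2 m⟩
    · rintro ⟨h1, h2⟩
      have e : k = m⁻¹ * (m * k * m⁻¹) * m := by group
      refine ⟨?_, ?_⟩
      · rw [e]; exact M.mul_mem (M.mul_mem (M.inv_mem hm) h1) hm
      · have := hN.conj_mem _ h2 m⁻¹
        rw [inv_inv] at this
        rw [e]; exact this
  have hnt : Subgroup.normalizer ((M ⊓ N : Subgroup A) : Set A) = M := by
    rcases hM.le_iff.1 hMn with h | h
    · exfalso
      rw [Subgroup.normalizer_eq_top_iff] at h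
      have h1 : ((M ⊓ N : Subgroup A).subgroupOf N).Normal := h.subgroupOf N
      rw [inf_subgroupOf_right] at h1
      rcases h1.eq_bot_or_eq_top with h2 | h2
      · rw [h2, Subgroup.card_bot] at hcS
        omega
      · rw [h2, Subgroup.card_top, hc] at hcS
        omega
    · exact h
  have hyM : (y : A) ∈ M := by
    rw [← hnt, Subgroup.mem_normalizer_iff]
    intro k
    constructor
    · rintro ⟨h1, h2⟩
      have h3 := (Subgroup.mem_normalizer_iff.1 hy ⟨k, h2⟩).1 h1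
      exact ⟨h3, hN.conj_mem k h2 y⟩
    · rintro ⟨h1, h2⟩
      have hk : k ∈ N := by
        have := hN.conj_mem _ h2 (y : A)⁻¹
        have e : k = (y : A)⁻¹ * ((y : A) * k * (y : A)⁻¹) * (y : A)⁻¹⁻¹ := by group
        rw [e]; exact this
      exact ⟨(Subgroup.mem_normalizer_iff.1 hy ⟨k, hk⟩).2 h1, hk⟩
  have hcomm := IsPGroup.commutative_of_card_eq_prime_sq (p := 3) (G := M.subgroupOf N) (by rw [hcS]; norm_num)
  rw [Subgroup.mem_centralizer_iff]
  intro z hz
  have h1 := hcomm ⟨z, hz⟩ ⟨y, hyM⟩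
  exact congrArg Subtype.val h1

/-- every maximal subgroup has order divisible by 2 or 7 -/
theorem dvd_504 (hN : N.Normal) (hs : IsSimpleGroup N) (hc : Nat.card N = 504)
    (hA : Nat.card A = 504 ∨ Nat.card A = 1512) (hM : IsCoatom M) : 2 ∣ Nat.card M ∨ 7 ∣ Nat.card M := by
  by_contra hcon
  push Not at hcon
  have hd : Nat.card M ∣ 1512 := by
    have h1 := Subgroup.card_subgroup_dvd_card M
    rcases hA with h | h
    · rw [h] at h1; exact h1.trans (by norm_num)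
    · rwa [h] at h1
  have hco : (Nat.card M).Coprime 56 := by
    rw [show (56 : ℕ) = 2 ^ 3 * 7 by norm_num]
    exact Nat.Coprime.mul_right (Nat.Coprime.pow_right 3 ((Nat.Prime.coprime_iff_not_dvd Nat.prime_two).2 hcon.1).symm)
      ((Nat.Prime.coprime_iff_not_dvd (by norm_num)).2 hcon.2).symm
  have h27 : Nat.card M ∣ 3 ^ 3 := hco.dvd_of_dvd_mul_right (by norm_num; exact hd)
  obtain ⟨k, -, hk⟩ := (Nat.dvd_prime_pow Nat.prime_three).1 h27
  exact not_three hN hs hc hA hM (IsPGroup.of_card hk)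

end A504

section A1092

variable {T : Type*} [Group T] [Finite T] [hsT : IsSimpleGroup T]

theorem simple_normal {K : Subgroup T} (hK : K.Normal) {m : ℕ} (hm : Nat.card K = m) (h1 : m ≠ 1)
    (h2 : m ≠ Nat.card T) : False := by
  rcases hK.eq_bot_or_eq_top with h | h
  · rw [h, Subgroup.card_bot] at hm
    exact h1 hm.symm
  · rw [h, Subgroup.card_top] at hm
    exact h2 hm.symm

/-- the normalizer of a Sylow `r`-subgroup `E` of a maximal subgroup of odd order -/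
theorem odd_false (hc : Nat.card T = 1092) {M : Subgroup T} (hM : IsCoatom M) (h2 : ¬ 2 ∣ Nat.card M) : False := by
  have hd : Nat.card M ∣ 273 := by
    have h1 := Subgroup.card_subgroup_dvd_card M
    rw [hc] at h1
    have h3 : (Nat.card M).Coprime 4 := by
      rw [show (4 : ℕ) = 2 ^ 2 by norm_num]
      exact Nat.Coprime.pow_right 2 ((Nat.Prime.coprime_iff_not_dvd Nat.prime_two).2 h2).symm
    exact h3.dvd_of_dvd_mul_left (by norm_num; exact h1)
  have hM1 : Nat.card M ≠ 1 := by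
    intro h
    rw [Subgroup.card_eq_one] at h
    obtain ⟨t, ht⟩ := exists_prime_orderOf_dvd_card' (G := T) 2 (by rw [hc]; norm_num)
    rw [h] at hM
    rcases hM.le_iff.1 (bot_le : ⊥ ≤ zpowers t) with h3 | h3
    · have h4 : Nat.card (zpowers t) = 1092 := by rw [h3, Subgroup.card_top, hc]
      rw [Nat.card_zpowers, ht] at h4
      omega
    · have h4 : Nat.card (zpowers t) = 1 := by rw [h3, Subgroup.card_bot]
      rw [Nat.card_zpowers, ht] at h4
      omega
  -- a normal Sylow subgroup of prime order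
  have key : ∀ r : ℕ, r.Prime → r ∣ Nat.card M → ¬ r ^ 2 ∣ 1092 → (∀ n, n ∣ Nat.card M / r → n % r = 1 % r → n = 1) →
      (∀ n, n * Nat.card M = 1092 → n % r = 1 % r → Nat.card M = r) → False := by
    intro r hr hrM hr2 hn hN
    have : Fact r.Prime := ⟨hr⟩
    obtain ⟨x, hx⟩ := exists_prime_orderOf_dvd_card' (G := M) r hrM
    have hx' : orderOf (x : T) = r := by rw [Subgroup.orderOf_coe, hx]
    obtain ⟨P, hP⟩ := Cfsg.Agent.H188.Der.exists_sylow_zpowers (p := r) (k := 1) (y := x) (by rw [pow_one, hx]) (by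
      intro h
      apply hr2
      have := h.trans (Subgroup.card_subgroup_dvd_card M)
      rwa [hc] at this)
    obtain ⟨P', hP'⟩ := Cfsg.Agent.H188.Der.exists_sylow_zpowers (p := r) (k := 1) (y := (x : T)) (by rw [pow_one, hx'])
      (by rw [hc]; exact hr2)
    have hcP : Nat.card (P : Subgroup M) = r := by rw [hP, Nat.card_zpowers, hx]
    have hPn : (P : Subgroup M).Normal := by
      have h1 : Nat.card (Sylow r M) = 1 := by
        apply hn
        · have h3 := P.card_dvd_index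
          have h4 := (P : Subgroup M).card_mul_index
          rw [hcP] at h4
          have h5 : (P : Subgroup M).index = Nat.card M / r := by
            rw [← h4, Nat.mul_div_cancel_left _ hr.pos]
          rwa [h5] at h3
        · exact card_sylow_modEq_one r M
      have : Subsingleton (Sylow r M) := (Nat.card_eq_one_iff_unique.1 h1).1
      exact P.normal_of_subsingleton
    -- `M` is the normalizer
    have hMle : M ≤ Subgroup.normalizer ((P' : Subgroup T) : Set T) := by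
      intro m hm
      rw [hP']
      have h1 : (⟨m, hm⟩ : M) * x * (⟨m, hm⟩ : M)⁻¹ ∈ (P : Subgroup M) := hPn.conj_mem x (by
        rw [hP]; exact mem_zpowers x) _
      rw [hP] at h1
      obtain ⟨i, hi⟩ := mem_zpowers_iff.1 h1
      apply Cfsg.Agent.H439.Der.mem_normalizer_of
      exact mem_zpowers_iff.2 ⟨i, congrArg Subtype.val hi⟩
    have hcP' : Nat.card (P' : Subgroup T) = r := by rw [hP', Nat.card_zpowers, hx']
    have hne : Subgroup.normalizer ((P' : Subgroup T) : Set T) = M := by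
      rcases hM.le_iff.1 hMle with h | h
      · exfalso
        rw [Subgroup.normalizer_eq_top_iff] at h
        refine simple_normal h hcP' hr.one_lt.ne' ?_
        rw [hc]
        rintro rfl
        exact absurd hr (by norm_num)
      · exact h
    have hne' : Subgroup.normalizer (P' : Set T) = M := hne
    have hsyl := SmallSimple.BurnsideNC.card_sylow_mul_card_normalizer P'
    rw [hne', hc] at hsyl
    have hcM := hN _ hsyl (card_sylow_modEq_one r T)
    have hMP : M = (P' : Subgroup T) := by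
      refine (Subgroup.eq_of_le_of_card_ge ?_ (by rw [hcM, hcP'])).symm
      rw [hP', zpowers_le]
      exact x.2
    refine SmallSimple.BurnsideNC.not_normalizer_le_centralizer (p := r) (by
      rw [hc]
      have := hrM.trans (Subgroup.card_subgroup_dvd_card M)
      rwa [hc] at this) (by
        rw [hc]
        rintro rfl
        exact absurd hr (by norm_num)) P' ?_
    rw [hne', hMP]
    intro y hy
    rw [hP'] at hy
    rw [Subgroup.mem_centralizer_iff]
    intro z hz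
    have hz' : z ∈ (P' : Subgroup T) := hz
    rw [hP'] at hz'
    obtain ⟨i, rfl⟩ := mem_zpowers_iff.1 hy
    obtain ⟨j, rfl⟩ := mem_zpowers_iff.1 hz'
    rw [← zpow_add, ← zpow_add, add_comm]
  have hlist : Nat.card M ∈ Nat.divisors 273 := by
    rw [Nat.mem_divisors]; exact ⟨hd, by norm_num⟩
  have hdl : Nat.divisors 273 = {1, 3, 7, 13, 21, 39, 91, 273} := by decide +kernel
  rw [hdl] at hlist
  simp only [Finset.mem_insert, Finset.mem_singleton] at hlist
  have hdiv : ∀ m n : ℕ, 0 < m → n ∣ m → n ≤ m := fun m n h h' => Nat.le_of_dvd h h'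
  rcases hlist with h | h | h | h | h | h | h | h
  · exact hM1 h
  · refine key 3 Nat.prime_three (by rw [h]) (by norm_num) (fun n h1 _ => ?_) (fun n _ _ => h)
    rw [h] at h1; simpa using h1
  · refine key 7 (by norm_num) (by rw [h]) (by norm_num) (fun n h1 _ => ?_) (fun n _ _ => h)
    rw [h] at h1; simpa using h1
  · refine key 13 (by norm_num) (by rw [h]) (by norm_num) (fun n h1 _ => ?_) (fun n _ _ => h)
    rw [h] at h1; simpa using h1
  · refine key 7 (by norm_num) (by rw [h]; norm_num) (by norm_num) (fun n h1 h2 => ?_) (fun n h1 h2 => ?_)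
    · rw [h] at h1
      have := hdiv 3 n (by norm_num) h1
      interval_cases n <;> revert h2 <;> decide
    · rw [h] at h1; omega
  · refine key 13 (by norm_num) (by rw [h]; norm_num) (by norm_num) (fun n h1 h2 => ?_) (fun n h1 h2 => ?_)
    · rw [h] at h1
      have := hdiv 3 n (by norm_num) h1
      interval_cases n <;> revert h2 <;> decide
    · rw [h] at h1; omega
  · refine key 13 (by norm_num) (by rw [h]; norm_num) (by norm_num) (fun n h1 h2 => ?_) (fun n h1 h2 => ?_)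
    · rw [h] at h1
      have := hdiv 7 n (by norm_num) h1
      interval_cases n <;> revert h2 <;> decide
    · rw [h] at h1; omega
  · refine key 13 (by norm_num) (by rw [h]; norm_num) (by norm_num) (fun n h1 h2 => ?_) (fun n h1 h2 => ?_)
    · rw [h] at h1
      have := hdiv 21 n (by norm_num) h1
      interval_cases n <;> revert h2 h1 <;> decide
    · rw [h] at h1; omega

end A1092

end Cfsg.Agent.H347.EPX
end
end
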